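import Mathlib
import Cfsg.Agent.Lib.Schur.CheckParts
import Cfsg.Agent.Lib.Sporadic.MultTwoCent.Level3

/-!
# Packed values of the edges of table 3
-/

set_option autoImplicit false
set_option maxRecDepth 100000
set_option maxHeartbeats 0
set_option Elab.async false

noncomputable section

namespace CfsgLib.Sporadic.MultTwoCent

open CfsgLib.Schur.Cert CfsgLib.Sporadic

/-- the packed values -/
def pack3 : Pack := .node (.node (.node (.node (.node (.leaf (0, 0)) (.leaf (0, 0))) (.leaf (39402006196394479212279040100143613805079739270465446667948293404245721771497210611414266254884915640806627990306816, 1))) (.node (.leaf (0, 0)) (.leaf (39402006196394479197327130848697243227967211059566633279452371690987701977540190224835547554324285507424066482470914, 32)))) (.node (.node (.node (.leaf (0, 0)) (.leaf (726838724295606890470519795495215575929083280487030832671562304818183027168323370080775436263420341149572439558910852398159315769229314, 11))) (.leaf (0, 0))) (.node (.leaf (0, 0)) (.leaf (726838724295606890628127820280793492778199440887605287891418093543095549058434813961194345079523775235413357655124889336243103280922621, 10))))) (.node (.node (.node (.node (.leaf (0, 0)) (.leaf (726838724295606890509921801691610055141362320587174446476410459910173841445449629921945328942266354949348255351381262292727973638307840,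 2))) (.leaf (0, 0))) (.node (.leaf (0, 0)) (.leaf (0, 0)))) (.node (.node (.node (.leaf (0, 0)) (.leaf (13407807929942597098120347549614632346380718204816384309037638592706337010334979963859240507867822633099515649409084024477561126462377909127852753070063613, 45))) (.leaf (726838724295606890549323807888004534353641360687318060281490199180639288113397923326191050713763565560762521606266177933534601628614656, 1))) (.node (.leaf (0, 0)) (.leaf (13407807929942597098120347549614632346341316198619989829803999682246984295705371047080892959076748270851866120441136110714995348113322064012182906407485440, 8)))))

theorem pack_ok3 : packOK level3.table pack3 = true := by decide +kernel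

end CfsgLib.Sporadic.MultTwoCent
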