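import Mathlib
import Cfsg.Agent.Lib.Sporadic.MultTwoCent.Pack0
import Cfsg.Agent.Lib.Sporadic.MultTwoCent.Pack1
import Cfsg.Agent.Lib.Sporadic.MultTwoCent.Pack2
import Cfsg.Agent.Lib.Sporadic.MultTwoCent.Pack3
import Cfsg.Agent.Lib.Sporadic.MultTwoCent.Pack4
import Cfsg.Agent.Lib.Sporadic.MultTwoCent.Data
import Cfsg.Agent.Lib.Schur.CheckParts

/-!
# Deductions of table 0
-/

set_option autoImplicit false
set_option maxRecDepth 100000
set_option maxHeartbeats 0
set_option Elab.async false

noncomputable section

namespace CfsgLib.Sporadic.MultTwoCent

open CfsgLib.Schur.Cert CfsgLib.Sporadic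

theorem ded0_120 : allFrom (dedAt level0 pack0 [level1, level2, level3, level4] [pack1, pack2, pack3, pack4]) 120 121 = true := by decide +kernel

theorem ded0_121 : allFrom (dedAt level0 pack0 [level1, level2, level3, level4] [pack1, pack2, pack3, pack4]) 121 122 = true := by decide +kernel

theorem ded0_122 : allFrom (dedAt level0 pack0 [level1, level2, level3, level4] [pack1, pack2, pack3, pack4]) 122 123 = true := by decide +kernel

theorem ded0_123 : allFrom (dedAt level0 pack0 [level1, level2, level3, level4] [pack1, pack2, pack3, pack4]) 123 124 = true := by decide +kernel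

theorem ded0_124 : allFrom (dedAt level0 pack0 [level1, level2, level3, level4] [pack1, pack2, pack3, pack4]) 124 125 = true := by decide +kernel

theorem ded0_125 : allFrom (dedAt level0 pack0 [level1, level2, level3, level4] [pack1, pack2, pack3, pack4]) 125 126 = true := by decide +kernel

theorem ded0_126 : allFrom (dedAt level0 pack0 [level1, level2, level3, level4] [pack1, pack2, pack3, pack4]) 126 127 = true := by decide +kernel

theorem ded0_127 : allFrom (dedAt level0 pack0 [level1, level2, level3, level4] [pack1, pack2, pack3, pack4]) 127 128 = true := by decide +kernel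

theorem ded0_128 : allFrom (dedAt level0 pack0 [level1, level2, level3, level4] [pack1, pack2, pack3, pack4]) 128 129 = true := by decide +kernel

theorem ded0_129 : allFrom (dedAt level0 pack0 [level1, level2, level3, level4] [pack1, pack2, pack3, pack4]) 129 130 = true := by decide +kernel

theorem ded0_130 : allFrom (dedAt level0 pack0 [level1, level2, level3, level4] [pack1, pack2, pack3, pack4]) 130 131 = true := by decide +kernel

theorem ded0_131 : allFrom (dedAt level0 pack0 [level1, level2, level3, level4] [pack1, pack2, pack3, pack4]) 131 132 = true := by decide +kernel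

end CfsgLib.Sporadic.MultTwoCent
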