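import Mathlib
import Cfsg.Agent.Lib.Sporadic.MultTwoCent.Pack0
import Cfsg.Agent.Lib.Sporadic.MultTwoCent.Pack1
import Cfsg.Agent.Lib.Sporadic.MultTwoCent.Pack2
import Cfsg.Agent.Lib.Sporadic.MultTwoCent.Pack3
import Cfsg.Agent.Lib.Sporadic.MultTwoCent.Pack4
import Cfsg.Agent.Lib.Sporadic.MultTwoCent.Data
import Cfsg.Agent.Lib.Schur.CheckParts

/-!
# Equations of table 0
-/

set_option autoImplicit false
set_option maxRecDepth 100000
set_option maxHeartbeats 0
set_option Elab.async false

noncomputable section

namespace CfsgLib.Sporadic.MultTwoCent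

open CfsgLib.Schur.Cert CfsgLib.Sporadic

theorem eqn0_12 : allFrom (eqnAt level0 pack0 [level1, level2, level3, level4] [pack1, pack2, pack3, pack4]) 12 13 = true := by decide +kernel

theorem eqn0_13 : allFrom (eqnAt level0 pack0 [level1, level2, level3, level4] [pack1, pack2, pack3, pack4]) 13 14 = true := by decide +kernel

theorem eqn0_14 : allFrom (eqnAt level0 pack0 [level1, level2, level3, level4] [pack1, pack2, pack3, pack4]) 14 15 = true := by decide +kernel

theorem eqn0_15 : allFrom (eqnAt level0 pack0 [level1, level2, level3, level4] [pack1, pack2, pack3, pack4]) 15 16 = true := by decide +kernel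

theorem eqn0_16 : allFrom (eqnAt level0 pack0 [level1, level2, level3, level4] [pack1, pack2, pack3, pack4]) 16 17 = true := by decide +kernel

theorem eqn0_17 : allFrom (eqnAt level0 pack0 [level1, level2, level3, level4] [pack1, pack2, pack3, pack4]) 17 18 = true := by decide +kernel

end CfsgLib.Sporadic.MultTwoCent
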