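import Mathlib
import Cfsg.Agent.Lib.Sporadic.MultTwoCent.Pack0
import Cfsg.Agent.Lib.Sporadic.MultTwoCent.Pack1
import Cfsg.Agent.Lib.Sporadic.MultTwoCent.Pack2
import Cfsg.Agent.Lib.Sporadic.MultTwoCent.Pack3
import Cfsg.Agent.Lib.Sporadic.MultTwoCent.Pack4
import Cfsg.Agent.Lib.Sporadic.MultTwoCent.Data
import Cfsg.Agent.Lib.Schur.CheckParts

/-!
# Relations of table 0 for the permutations
-/

set_option autoImplicit false
set_option maxRecDepth 100000
set_option maxHeartbeats 0
set_option Elab.async false

noncomputable section

namespace CfsgLib.Sporadic.MultTwoCent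

open CfsgLib.Schur.Cert CfsgLib.Sporadic

theorem rel0_0 : allFrom (permsRel 568 level0) 0 1 = true := by decide +kernel

theorem rel0_1 : allFrom (permsRel 568 level0) 1 2 = true := by decide +kernel

theorem rel0_2 : allFrom (permsRel 568 level0) 2 3 = true := by decide +kernel

theorem rel0_3 : allFrom (permsRel 568 level0) 3 4 = true := by decide +kernel

theorem rel0_4 : allFrom (permsRel 568 level0) 4 5 = true := by decide +kernel

theorem rel0_5 : allFrom (permsRel 568 level0) 5 6 = true := by decide +kernel

theorem rel0_6 : allFrom (permsRel 568 level0) 6 7 = true := by decide +kernel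

theorem rel0_7 : allFrom (permsRel 568 level0) 7 8 = true := by decide +kernel

end CfsgLib.Sporadic.MultTwoCent
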