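import Mathlib
import Cfsg.Agent.Lib.Sporadic.MultTwoCent.Pack0
import Cfsg.Agent.Lib.Sporadic.MultTwoCent.Pack1
import Cfsg.Agent.Lib.Sporadic.MultTwoCent.Pack2
import Cfsg.Agent.Lib.Sporadic.MultTwoCent.Pack3
import Cfsg.Agent.Lib.Sporadic.MultTwoCent.Pack4
import Cfsg.Agent.Lib.Sporadic.MultTwoCent.Data
import Cfsg.Agent.Lib.Schur.CheckParts

/-!
# Relations of table 0 for the permutations
-/

set_option autoImplicit false
set_option maxRecDepth 100000
set_option maxHeartbeats 0
set_option Elab.async false

noncomputable section

namespace CfsgLib.Sporadic.MultTwoCent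

open CfsgLib.Schur.Cert CfsgLib.Sporadic

theorem rel0_32 : allFrom (permsRel 568 level0) 32 33 = true := by decide +kernel

theorem rel0_33 : allFrom (permsRel 568 level0) 33 34 = true := by decide +kernel

theorem rel0_34 : allFrom (permsRel 568 level0) 34 35 = true := by decide +kernel

theorem rel0_35 : allFrom (permsRel 568 level0) 35 36 = true := by decide +kernel

theorem rel0_36 : allFrom (permsRel 568 level0) 36 37 = true := by decide +kernel

theorem rel0_37 : allFrom (permsRel 568 level0) 37 38 = true := by decide +kernel

theorem rel0_38 : allFrom (permsRel 568 level0) 38 39 = true := by decide +kernel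

theorem rel0_39 : allFrom (permsRel 568 level0) 39 40 = true := by decide +kernel

end CfsgLib.Sporadic.MultTwoCent
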