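import Mathlib
import Cfsg.Agent.Lib.Sporadic.MultTwoCent.Pack0
import Cfsg.Agent.Lib.Sporadic.MultTwoCent.Pack1
import Cfsg.Agent.Lib.Sporadic.MultTwoCent.Pack2
import Cfsg.Agent.Lib.Sporadic.MultTwoCent.Pack3
import Cfsg.Agent.Lib.Sporadic.MultTwoCent.Pack4
import Cfsg.Agent.Lib.Sporadic.MultTwoCent.Data
import Cfsg.Agent.Lib.Schur.CheckParts

/-!
# Edges of table 0
-/

set_option autoImplicit false
set_option maxRecDepth 100000
set_option maxHeartbeats 0
set_option Elab.async false

noncomputable section

namespace CfsgLib.Sporadic.MultTwoCent

open CfsgLib.Schur.Cert CfsgLib.Sporadic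

theorem row0_0 : allFrom (shapeRow rows level0 [level1, level2, level3, level4]) 0 10 = true := by decide +kernel

theorem row0_10 : allFrom (shapeRow rows level0 [level1, level2, level3, level4]) 10 20 = true := by decide +kernel

theorem row0_20 : allFrom (shapeRow rows level0 [level1, level2, level3, level4]) 20 30 = true := by decide +kernel

theorem row0_30 : allFrom (shapeRow rows level0 [level1, level2, level3, level4]) 30 40 = true := by decide +kernel

theorem row0_40 : allFrom (shapeRow rows level0 [level1, level2, level3, level4]) 40 50 = true := by decide +kernel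

theorem row0_50 : allFrom (shapeRow rows level0 [level1, level2, level3, level4]) 50 60 = true := by decide +kernel

theorem row0_60 : allFrom (shapeRow rows level0 [level1, level2, level3, level4]) 60 70 = true := by decide +kernel

theorem row0_70 : allFrom (shapeRow rows level0 [level1, level2, level3, level4]) 70 80 = true := by decide +kernel

theorem row0_80 : allFrom (shapeRow rows level0 [level1, level2, level3, level4]) 80 90 = true := by decide +kernel

end CfsgLib.Sporadic.MultTwoCent
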