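import Mathlib
import Cfsg.Agent.Lib.Sporadic.MultTwoCent.Pack0
import Cfsg.Agent.Lib.Sporadic.MultTwoCent.Pack1
import Cfsg.Agent.Lib.Sporadic.MultTwoCent.Pack2
import Cfsg.Agent.Lib.Sporadic.MultTwoCent.Pack3
import Cfsg.Agent.Lib.Sporadic.MultTwoCent.Pack4
import Cfsg.Agent.Lib.Sporadic.MultTwoCent.Data
import Cfsg.Agent.Lib.Schur.CheckParts

/-!
# Edges of table 0
-/

set_option autoImplicit false
set_option maxRecDepth 100000
set_option maxHeartbeats 0
set_option Elab.async false

noncomputable section

namespace CfsgLib.Sporadic.MultTwoCent

open CfsgLib.Schur.Cert CfsgLib.Sporadic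

theorem row0_90 : allFrom (shapeRow rows level0 [level1, level2, level3, level4]) 90 100 = true := by decide +kernel

theorem row0_100 : allFrom (shapeRow rows level0 [level1, level2, level3, level4]) 100 110 = true := by decide +kernel

theorem row0_110 : allFrom (shapeRow rows level0 [level1, level2, level3, level4]) 110 120 = true := by decide +kernel

theorem row0_120 : allFrom (shapeRow rows level0 [level1, level2, level3, level4]) 120 130 = true := by decide +kernel

theorem row0_130 : allFrom (shapeRow rows level0 [level1, level2, level3, level4]) 130 140 = true := by decide +kernel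

theorem row0_140 : allFrom (shapeRow rows level0 [level1, level2, level3, level4]) 140 150 = true := by decide +kernel

theorem row0_150 : allFrom (shapeRow rows level0 [level1, level2, level3, level4]) 150 160 = true := by decide +kernel

theorem row0_160 : allFrom (shapeRow rows level0 [level1, level2, level3, level4]) 160 170 = true := by decide +kernel

theorem row0_170 : allFrom (shapeRow rows level0 [level1, level2, level3, level4]) 170 180 = true := by decide +kernel

end CfsgLib.Sporadic.MultTwoCent
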