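import Mathlib
import Cfsg.Agent.Lib.Sporadic.MultTwoCent.Pack0
import Cfsg.Agent.Lib.Sporadic.MultTwoCent.Pack1
import Cfsg.Agent.Lib.Sporadic.MultTwoCent.Pack2
import Cfsg.Agent.Lib.Sporadic.MultTwoCent.Pack3
import Cfsg.Agent.Lib.Sporadic.MultTwoCent.Pack4
import Cfsg.Agent.Lib.Sporadic.MultTwoCent.Data
import Cfsg.Agent.Lib.Schur.CheckParts

/-!
# Edges of table 0
-/

set_option autoImplicit false
set_option maxRecDepth 100000
set_option maxHeartbeats 0
set_option Elab.async false

noncomputable section

namespace CfsgLib.Sporadic.MultTwoCent

open CfsgLib.Schur.Cert CfsgLib.Sporadic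

theorem row0_180 : allFrom (shapeRow rows level0 [level1, level2, level3, level4]) 180 190 = true := by decide +kernel

theorem row0_190 : allFrom (shapeRow rows level0 [level1, level2, level3, level4]) 190 200 = true := by decide +kernel

theorem row0_200 : allFrom (shapeRow rows level0 [level1, level2, level3, level4]) 200 210 = true := by decide +kernel

theorem row0_210 : allFrom (shapeRow rows level0 [level1, level2, level3, level4]) 210 220 = true := by decide +kernel

theorem row0_220 : allFrom (shapeRow rows level0 [level1, level2, level3, level4]) 220 230 = true := by decide +kernel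

theorem row0_230 : allFrom (shapeRow rows level0 [level1, level2, level3, level4]) 230 240 = true := by decide +kernel

theorem row0_240 : allFrom (shapeRow rows level0 [level1, level2, level3, level4]) 240 250 = true := by decide +kernel

theorem row0_250 : allFrom (shapeRow rows level0 [level1, level2, level3, level4]) 250 260 = true := by decide +kernel

theorem row0_260 : allFrom (shapeRow rows level0 [level1, level2, level3, level4]) 260 270 = true := by decide +kernel

end CfsgLib.Sporadic.MultTwoCent
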