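import Mathlib
import Cfsg.Agent.Lib.Sporadic.MultTwoCent.Pack0
import Cfsg.Agent.Lib.Sporadic.MultTwoCent.Pack1
import Cfsg.Agent.Lib.Sporadic.MultTwoCent.Pack2
import Cfsg.Agent.Lib.Sporadic.MultTwoCent.Pack3
import Cfsg.Agent.Lib.Sporadic.MultTwoCent.Pack4
import Cfsg.Agent.Lib.Sporadic.MultTwoCent.Data
import Cfsg.Agent.Lib.Schur.CheckParts

/-!
# Edges of table 0
-/

set_option autoImplicit false
set_option maxRecDepth 100000
set_option maxHeartbeats 0
set_option Elab.async false

noncomputable section

namespace CfsgLib.Sporadic.MultTwoCent

open CfsgLib.Schur.Cert CfsgLib.Sporadic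

theorem row0_360 : allFrom (shapeRow rows level0 [level1, level2, level3, level4]) 360 370 = true := by decide +kernel

theorem row0_370 : allFrom (shapeRow rows level0 [level1, level2, level3, level4]) 370 380 = true := by decide +kernel

theorem row0_380 : allFrom (shapeRow rows level0 [level1, level2, level3, level4]) 380 390 = true := by decide +kernel

theorem row0_390 : allFrom (shapeRow rows level0 [level1, level2, level3, level4]) 390 400 = true := by decide +kernel

theorem row0_400 : allFrom (shapeRow rows level0 [level1, level2, level3, level4]) 400 410 = true := by decide +kernel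

theorem row0_410 : allFrom (shapeRow rows level0 [level1, level2, level3, level4]) 410 420 = true := by decide +kernel

theorem row0_420 : allFrom (shapeRow rows level0 [level1, level2, level3, level4]) 420 430 = true := by decide +kernel

theorem row0_430 : allFrom (shapeRow rows level0 [level1, level2, level3, level4]) 430 440 = true := by decide +kernel

theorem row0_440 : allFrom (shapeRow rows level0 [level1, level2, level3, level4]) 440 450 = true := by decide +kernel

end CfsgLib.Sporadic.MultTwoCent
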