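import Mathlib
import Cfsg.Agent.Lib.Sporadic.MultTwoCent.Pack0
import Cfsg.Agent.Lib.Sporadic.MultTwoCent.Pack1
import Cfsg.Agent.Lib.Sporadic.MultTwoCent.Pack2
import Cfsg.Agent.Lib.Sporadic.MultTwoCent.Pack3
import Cfsg.Agent.Lib.Sporadic.MultTwoCent.Pack4
import Cfsg.Agent.Lib.Sporadic.MultTwoCent.Data
import Cfsg.Agent.Lib.Schur.CheckParts

/-!
# Edges of table 0
-/

set_option autoImplicit false
set_option maxRecDepth 100000
set_option maxHeartbeats 0
set_option Elab.async false

noncomputable section

namespace CfsgLib.Sporadic.MultTwoCent

open CfsgLib.Schur.Cert CfsgLib.Sporadic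

theorem row0_450 : allFrom (shapeRow rows level0 [level1, level2, level3, level4]) 450 460 = true := by decide +kernel

theorem row0_460 : allFrom (shapeRow rows level0 [level1, level2, level3, level4]) 460 470 = true := by decide +kernel

theorem row0_470 : allFrom (shapeRow rows level0 [level1, level2, level3, level4]) 470 480 = true := by decide +kernel

theorem row0_480 : allFrom (shapeRow rows level0 [level1, level2, level3, level4]) 480 490 = true := by decide +kernel

theorem row0_490 : allFrom (shapeRow rows level0 [level1, level2, level3, level4]) 490 500 = true := by decide +kernel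

theorem row0_500 : allFrom (shapeRow rows level0 [level1, level2, level3, level4]) 500 510 = true := by decide +kernel

theorem row0_510 : allFrom (shapeRow rows level0 [level1, level2, level3, level4]) 510 512 = true := by decide +kernel

end CfsgLib.Sporadic.MultTwoCent
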