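import Mathlib
import Cfsg.Agent.Lib.Sporadic.MultTwoCent.Pack0
import Cfsg.Agent.Lib.Sporadic.MultTwoCent.Pack1
import Cfsg.Agent.Lib.Sporadic.MultTwoCent.Pack2
import Cfsg.Agent.Lib.Sporadic.MultTwoCent.Pack3
import Cfsg.Agent.Lib.Sporadic.MultTwoCent.Pack4
import Cfsg.Agent.Lib.Sporadic.MultTwoCent.Data
import Cfsg.Agent.Lib.Schur.CheckParts

/-!
# Deductions of table 1
-/

set_option autoImplicit false
set_option maxRecDepth 100000
set_option maxHeartbeats 0
set_option Elab.async false

noncomputable section

namespace CfsgLib.Sporadic.MultTwoCent

open CfsgLib.Schur.Cert CfsgLib.Sporadic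

theorem ded1_0 : allFrom (dedAt level1 pack1 [level2, level3, level4] [pack2, pack3, pack4]) 0 3 = true := by decide +kernel

theorem ded1_3 : allFrom (dedAt level1 pack1 [level2, level3, level4] [pack2, pack3, pack4]) 3 6 = true := by decide +kernel

theorem ded1_6 : allFrom (dedAt level1 pack1 [level2, level3, level4] [pack2, pack3, pack4]) 6 9 = true := by decide +kernel

theorem ded1_9 : allFrom (dedAt level1 pack1 [level2, level3, level4] [pack2, pack3, pack4]) 9 12 = true := by decide +kernel

theorem ded1_12 : allFrom (dedAt level1 pack1 [level2, level3, level4] [pack2, pack3, pack4]) 12 15 = true := by decide +kernel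

theorem ded1_15 : allFrom (dedAt level1 pack1 [level2, level3, level4] [pack2, pack3, pack4]) 15 18 = true := by decide +kernel

theorem ded1_18 : allFrom (dedAt level1 pack1 [level2, level3, level4] [pack2, pack3, pack4]) 18 21 = true := by decide +kernel

theorem ded1_21 : allFrom (dedAt level1 pack1 [level2, level3, level4] [pack2, pack3, pack4]) 21 24 = true := by decide +kernel

theorem ded1_24 : allFrom (dedAt level1 pack1 [level2, level3, level4] [pack2, pack3, pack4]) 24 27 = true := by decide +kernel

theorem ded1_27 : allFrom (dedAt level1 pack1 [level2, level3, level4] [pack2, pack3, pack4]) 27 30 = true := by decide +kernel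

theorem ded1_30 : allFrom (dedAt level1 pack1 [level2, level3, level4] [pack2, pack3, pack4]) 30 33 = true := by decide +kernel

theorem ded1_33 : allFrom (dedAt level1 pack1 [level2, level3, level4] [pack2, pack3, pack4]) 33 36 = true := by decide +kernel

theorem ded1_36 : allFrom (dedAt level1 pack1 [level2, level3, level4] [pack2, pack3, pack4]) 36 39 = true := by decide +kernel

theorem ded1_39 : allFrom (dedAt level1 pack1 [level2, level3, level4] [pack2, pack3, pack4]) 39 42 = true := by decide +kernel

theorem ded1_42 : allFrom (dedAt level1 pack1 [level2, level3, level4] [pack2, pack3, pack4]) 42 45 = true := by decide +kernel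

theorem ded1_45 : allFrom (dedAt level1 pack1 [level2, level3, level4] [pack2, pack3, pack4]) 45 48 = true := by decide +kernel

theorem ded1_48 : allFrom (dedAt level1 pack1 [level2, level3, level4] [pack2, pack3, pack4]) 48 51 = true := by decide +kernel

theorem ded1_51 : allFrom (dedAt level1 pack1 [level2, level3, level4] [pack2, pack3, pack4]) 51 54 = true := by decide +kernel

theorem ded1_54 : allFrom (dedAt level1 pack1 [level2, level3, level4] [pack2, pack3, pack4]) 54 57 = true := by decide +kernel

end CfsgLib.Sporadic.MultTwoCent
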