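import Mathlib
import Cfsg.Agent.Lib.Sporadic.MultTwoCent.Pack0
import Cfsg.Agent.Lib.Sporadic.MultTwoCent.Pack1
import Cfsg.Agent.Lib.Sporadic.MultTwoCent.Pack2
import Cfsg.Agent.Lib.Sporadic.MultTwoCent.Pack3
import Cfsg.Agent.Lib.Sporadic.MultTwoCent.Pack4
import Cfsg.Agent.Lib.Sporadic.MultTwoCent.Data
import Cfsg.Agent.Lib.Schur.CheckParts

/-!
# Equations of table 1
-/

set_option autoImplicit false
set_option maxRecDepth 100000
set_option maxHeartbeats 0
set_option Elab.async false

noncomputable section

namespace CfsgLib.Sporadic.MultTwoCent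

open CfsgLib.Schur.Cert CfsgLib.Sporadic

theorem eqn1_0 : allFrom (eqnAt level1 pack1 [level2, level3, level4] [pack2, pack3, pack4]) 0 3 = true := by decide +kernel

theorem eqn1_3 : allFrom (eqnAt level1 pack1 [level2, level3, level4] [pack2, pack3, pack4]) 3 6 = true := by decide +kernel

theorem eqn1_6 : allFrom (eqnAt level1 pack1 [level2, level3, level4] [pack2, pack3, pack4]) 6 9 = true := by decide +kernel

theorem eqn1_9 : allFrom (eqnAt level1 pack1 [level2, level3, level4] [pack2, pack3, pack4]) 9 12 = true := by decide +kernel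

theorem eqn1_12 : allFrom (eqnAt level1 pack1 [level2, level3, level4] [pack2, pack3, pack4]) 12 15 = true := by decide +kernel

theorem eqn1_15 : allFrom (eqnAt level1 pack1 [level2, level3, level4] [pack2, pack3, pack4]) 15 18 = true := by decide +kernel

theorem eqn1_18 : allFrom (eqnAt level1 pack1 [level2, level3, level4] [pack2, pack3, pack4]) 18 21 = true := by decide +kernel

theorem eqn1_21 : allFrom (eqnAt level1 pack1 [level2, level3, level4] [pack2, pack3, pack4]) 21 24 = true := by decide +kernel

theorem eqn1_24 : allFrom (eqnAt level1 pack1 [level2, level3, level4] [pack2, pack3, pack4]) 24 25 = true := by decide +kernel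

end CfsgLib.Sporadic.MultTwoCent
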