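import Mathlib
import Cfsg.Agent.Lib.Sporadic.MultTwoCent.Pack0
import Cfsg.Agent.Lib.Sporadic.MultTwoCent.Pack1
import Cfsg.Agent.Lib.Sporadic.MultTwoCent.Pack2
import Cfsg.Agent.Lib.Sporadic.MultTwoCent.Pack3
import Cfsg.Agent.Lib.Sporadic.MultTwoCent.Pack4
import Cfsg.Agent.Lib.Sporadic.MultTwoCent.Data
import Cfsg.Agent.Lib.Schur.CheckParts

/-!
# Shape and permutations of table 2
-/

set_option autoImplicit false
set_option maxRecDepth 100000
set_option maxHeartbeats 0
set_option Elab.async false

noncomputable section

namespace CfsgLib.Sporadic.MultTwoCent

open CfsgLib.Schur.Cert CfsgLib.Sporadic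

theorem head2 : shapeHead level2 [level3, level4] (nextWords (nextWords (top) level0) level1) = true := by decide +kernel

theorem srel2_0 : allFrom (shapeRel (chainRels chain top) level2 (nextWords (nextWords (top) level0) level1)) 0 2 = true := by decide +kernel

theorem srel2_2 : allFrom (shapeRel (chainRels chain top) level2 (nextWords (nextWords (top) level0) level1)) 2 4 = true := by decide +kernel

theorem srel2_4 : allFrom (shapeRel (chainRels chain top) level2 (nextWords (nextWords (top) level0) level1)) 4 6 = true := by decide +kernel

theorem srel2_6 : allFrom (shapeRel (chainRels chain top) level2 (nextWords (nextWords (top) level0) level1)) 6 8 = true := by decide +kernel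

theorem srel2_8 : allFrom (shapeRel (chainRels chain top) level2 (nextWords (nextWords (top) level0) level1)) 8 9 = true := by decide +kernel

theorem row2_0 : allFrom (shapeRow rows level2 [level3, level4]) 0 27 = true := by decide +kernel

theorem permsGen2 : permsGen 568 level2 [level3, level4] = true := by decide +kernel

theorem path2_0 : allFrom (permsPath level2) 0 27 = true := by decide +kernel

theorem permsKey2 : permsKey level2 [level3, level4] = true := by decide +kernel

end CfsgLib.Sporadic.MultTwoCent
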