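import Mathlib
import Cfsg.Agent.Lib.Sporadic.MultTwoCent.Pack0
import Cfsg.Agent.Lib.Sporadic.MultTwoCent.Pack1
import Cfsg.Agent.Lib.Sporadic.MultTwoCent.Pack2
import Cfsg.Agent.Lib.Sporadic.MultTwoCent.Pack3
import Cfsg.Agent.Lib.Sporadic.MultTwoCent.Pack4
import Cfsg.Agent.Lib.Sporadic.MultTwoCent.Data
import Cfsg.Agent.Lib.Schur.CheckParts

/-!
# Shape and permutations of table 3
-/

set_option autoImplicit false
set_option maxRecDepth 100000
set_option maxHeartbeats 0
set_option Elab.async false

noncomputable section

namespace CfsgLib.Sporadic.MultTwoCent

open CfsgLib.Schur.Cert CfsgLib.Sporadic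

theorem head3 : shapeHead level3 [level4] (nextWords (nextWords (nextWords (top) level0) level1) level2) = true := by decide +kernel

theorem srel3_0 : allFrom (shapeRel (chainRels chain top) level3 (nextWords (nextWords (nextWords (top) level0) level1) level2)) 0 2 = true := by decide +kernel

theorem srel3_2 : allFrom (shapeRel (chainRels chain top) level3 (nextWords (nextWords (nextWords (top) level0) level1) level2)) 2 4 = true := by decide +kernel

theorem srel3_4 : allFrom (shapeRel (chainRels chain top) level3 (nextWords (nextWords (nextWords (top) level0) level1) level2)) 4 6 = true := by decide +kernel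

theorem srel3_6 : allFrom (shapeRel (chainRels chain top) level3 (nextWords (nextWords (nextWords (top) level0) level1) level2)) 6 8 = true := by decide +kernel

theorem srel3_8 : allFrom (shapeRel (chainRels chain top) level3 (nextWords (nextWords (nextWords (top) level0) level1) level2)) 8 10 = true := by decide +kernel

theorem srel3_10 : allFrom (shapeRel (chainRels chain top) level3 (nextWords (nextWords (nextWords (top) level0) level1) level2)) 10 12 = true := by decide +kernel

theorem srel3_12 : allFrom (shapeRel (chainRels chain top) level3 (nextWords (nextWords (nextWords (top) level0) level1) level2)) 12 13 = true := by decide +kernel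

theorem row3_0 : allFrom (shapeRow rows level3 [level4]) 0 10 = true := by decide +kernel

theorem permsGen3 : permsGen 568 level3 [level4] = true := by decide +kernel

theorem path3_0 : allFrom (permsPath level3) 0 10 = true := by decide +kernel

theorem permsKey3 : permsKey level3 [level4] = true := by decide +kernel

end CfsgLib.Sporadic.MultTwoCent
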