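import Mathlib
import Cfsg.Agent.Lib.Sporadic.MultTwoCent.Pack0
import Cfsg.Agent.Lib.Sporadic.MultTwoCent.Pack1
import Cfsg.Agent.Lib.Sporadic.MultTwoCent.Pack2
import Cfsg.Agent.Lib.Sporadic.MultTwoCent.Pack3
import Cfsg.Agent.Lib.Sporadic.MultTwoCent.Pack4
import Cfsg.Agent.Lib.Sporadic.MultTwoCent.Data
import Cfsg.Agent.Lib.Schur.CheckParts

/-!
# Deductions of table 4
-/

set_option autoImplicit false
set_option maxRecDepth 100000
set_option maxHeartbeats 0
set_option Elab.async false

noncomputable section

namespace CfsgLib.Sporadic.MultTwoCent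

open CfsgLib.Schur.Cert CfsgLib.Sporadic

theorem ded4_0 : allFrom (dedAt level4 pack4 [] []) 0 60 = true := by decide +kernel

theorem ded4_60 : allFrom (dedAt level4 pack4 [] []) 60 120 = true := by decide +kernel

theorem ded4_120 : allFrom (dedAt level4 pack4 [] []) 120 180 = true := by decide +kernel

theorem ded4_180 : allFrom (dedAt level4 pack4 [] []) 180 193 = true := by decide +kernel

end CfsgLib.Sporadic.MultTwoCent
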