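import Mathlib
import Cfsg.Agent.Lib.Sporadic.MultTwoCent.Check0
import Cfsg.Agent.Lib.Sporadic.MultTwoCent.Check0Row0
import Cfsg.Agent.Lib.Sporadic.MultTwoCent.Check0Row1
import Cfsg.Agent.Lib.Sporadic.MultTwoCent.Check0Row2
import Cfsg.Agent.Lib.Sporadic.MultTwoCent.Check0Row3
import Cfsg.Agent.Lib.Sporadic.MultTwoCent.Check0Row4
import Cfsg.Agent.Lib.Sporadic.MultTwoCent.Check0Row5
import Cfsg.Agent.Lib.Sporadic.MultTwoCent.Check0Rel0
import Cfsg.Agent.Lib.Sporadic.MultTwoCent.Check0Rel1
import Cfsg.Agent.Lib.Sporadic.MultTwoCent.Check0Rel2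
import Cfsg.Agent.Lib.Sporadic.MultTwoCent.Check0Rel3
import Cfsg.Agent.Lib.Sporadic.MultTwoCent.Check0Rel4
import Cfsg.Agent.Lib.Sporadic.MultTwoCent.Check0Rel5
import Cfsg.Agent.Lib.Sporadic.MultTwoCent.Check0Ded0
import Cfsg.Agent.Lib.Sporadic.MultTwoCent.Check0Ded1
import Cfsg.Agent.Lib.Sporadic.MultTwoCent.Check0Ded2
import Cfsg.Agent.Lib.Sporadic.MultTwoCent.Check0Ded3
import Cfsg.Agent.Lib.Sporadic.MultTwoCent.Check0Ded4
import Cfsg.Agent.Lib.Sporadic.MultTwoCent.Check0Ded5
import Cfsg.Agent.Lib.Sporadic.MultTwoCent.Check0Ded6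
import Cfsg.Agent.Lib.Sporadic.MultTwoCent.Check0Ded7
import Cfsg.Agent.Lib.Sporadic.MultTwoCent.Check0Ded8
import Cfsg.Agent.Lib.Sporadic.MultTwoCent.Check0Ded9
import Cfsg.Agent.Lib.Sporadic.MultTwoCent.Check0Ded10
import Cfsg.Agent.Lib.Sporadic.MultTwoCent.Check0Ded11
import Cfsg.Agent.Lib.Sporadic.MultTwoCent.Check0Ded12
import Cfsg.Agent.Lib.Sporadic.MultTwoCent.Check0Ded13
import Cfsg.Agent.Lib.Sporadic.MultTwoCent.Check0Ded14
import Cfsg.Agent.Lib.Sporadic.MultTwoCent.Check0Ded15
import Cfsg.Agent.Lib.Sporadic.MultTwoCent.Check0Ded16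
import Cfsg.Agent.Lib.Sporadic.MultTwoCent.Check0Ded17
import Cfsg.Agent.Lib.Sporadic.MultTwoCent.Check0Ded18
import Cfsg.Agent.Lib.Sporadic.MultTwoCent.Check0Ded19
import Cfsg.Agent.Lib.Sporadic.MultTwoCent.Check0Ded20
import Cfsg.Agent.Lib.Sporadic.MultTwoCent.Check0Ded21
import Cfsg.Agent.Lib.Sporadic.MultTwoCent.Check0Ded22
import Cfsg.Agent.Lib.Sporadic.MultTwoCent.Check0Ded23
import Cfsg.Agent.Lib.Sporadic.MultTwoCent.Check0Ded24
import Cfsg.Agent.Lib.Sporadic.MultTwoCent.Check0Ded25
import Cfsg.Agent.Lib.Sporadic.MultTwoCent.Check0Ded26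
import Cfsg.Agent.Lib.Sporadic.MultTwoCent.Check0Ded27
import Cfsg.Agent.Lib.Sporadic.MultTwoCent.Check0Ded28
import Cfsg.Agent.Lib.Sporadic.MultTwoCent.Check0Ded29
import Cfsg.Agent.Lib.Sporadic.MultTwoCent.Check0Ded30
import Cfsg.Agent.Lib.Sporadic.MultTwoCent.Check0Ded31
import Cfsg.Agent.Lib.Sporadic.MultTwoCent.Check0Ded32
import Cfsg.Agent.Lib.Sporadic.MultTwoCent.Check0Ded33
import Cfsg.Agent.Lib.Sporadic.MultTwoCent.Check0Ded34
import Cfsg.Agent.Lib.Sporadic.MultTwoCent.Check0Ded35
import Cfsg.Agent.Lib.Sporadic.MultTwoCent.Check0Ded36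
import Cfsg.Agent.Lib.Sporadic.MultTwoCent.Check0Ded37
import Cfsg.Agent.Lib.Sporadic.MultTwoCent.Check0Ded38
import Cfsg.Agent.Lib.Sporadic.MultTwoCent.Check0Ded39
import Cfsg.Agent.Lib.Sporadic.MultTwoCent.Check0Ded40
import Cfsg.Agent.Lib.Sporadic.MultTwoCent.Check0Ded41
import Cfsg.Agent.Lib.Sporadic.MultTwoCent.Check0Ded42
import Cfsg.Agent.Lib.Sporadic.MultTwoCent.Check0Eqn0
import Cfsg.Agent.Lib.Sporadic.MultTwoCent.Check0Eqn1
import Cfsg.Agent.Lib.Sporadic.MultTwoCent.Check0Eqn2
import Cfsg.Agent.Lib.Sporadic.MultTwoCent.Check0Eqn3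
import Cfsg.Agent.Lib.Sporadic.MultTwoCent.Check0Eqn4
import Cfsg.Agent.Lib.Sporadic.MultTwoCent.Check0Eqn5
import Cfsg.Agent.Lib.Sporadic.MultTwoCent.Check0Eqn6
import Cfsg.Agent.Lib.Sporadic.MultTwoCent.Check0Eqn7
import Cfsg.Agent.Lib.Sporadic.MultTwoCent.Check0Eqn8
import Cfsg.Agent.Lib.Sporadic.MultTwoCent.Check0Eqn9
import Cfsg.Agent.Lib.Sporadic.MultTwoCent.Check1
import Cfsg.Agent.Lib.Sporadic.MultTwoCent.Check1Row0
import Cfsg.Agent.Lib.Sporadic.MultTwoCent.Check1Rel0
import Cfsg.Agent.Lib.Sporadic.MultTwoCent.Check1Rel1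
import Cfsg.Agent.Lib.Sporadic.MultTwoCent.Check1Rel2
import Cfsg.Agent.Lib.Sporadic.MultTwoCent.Check1Ded0
import Cfsg.Agent.Lib.Sporadic.MultTwoCent.Check1Eqn0
import Cfsg.Agent.Lib.Sporadic.MultTwoCent.Check2
import Cfsg.Agent.Lib.Sporadic.MultTwoCent.Check2Rel0
import Cfsg.Agent.Lib.Sporadic.MultTwoCent.Check2Rel1
import Cfsg.Agent.Lib.Sporadic.MultTwoCent.Check2Ded0
import Cfsg.Agent.Lib.Sporadic.MultTwoCent.Check2Eqn0
import Cfsg.Agent.Lib.Sporadic.MultTwoCent.Check3
import Cfsg.Agent.Lib.Sporadic.MultTwoCent.Check3Rel0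
import Cfsg.Agent.Lib.Sporadic.MultTwoCent.Check3Ded0
import Cfsg.Agent.Lib.Sporadic.MultTwoCent.Check3Eqn0
import Cfsg.Agent.Lib.Sporadic.MultTwoCent.Check4
import Cfsg.Agent.Lib.Sporadic.MultTwoCent.Check4Rel0
import Cfsg.Agent.Lib.Sporadic.MultTwoCent.Check4Ded0
import Cfsg.Agent.Lib.Sporadic.MultTwoCent.Check4Eqn0
import Cfsg.Agent.Lib.Sporadic.MultTwoCent.CheckLin0
import Cfsg.Agent.Lib.Sporadic.MultTwoCent.CheckLin1
import Cfsg.Agent.Lib.Sporadic.MultTwoCent.CheckLin2
import Cfsg.Agent.Lib.Schur.CheckParts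

/-!
# All checks of the chain
-/

set_option autoImplicit false
set_option maxRecDepth 100000
set_option maxHeartbeats 0
set_option Elab.async false

noncomputable section

namespace CfsgLib.Sporadic.MultTwoCent

open CfsgLib.Schur.Cert CfsgLib.Sporadic

theorem shape0 : shapeOK (chainRels chain top) rows level0 [level1, level2, level3, level4] (top) = true :=
  shapeOK_of_parts head0 (allFrom_trans srel0_0 (allFrom_trans srel0_2 (allFrom_trans srel0_4 (allFrom_trans srel0_6 (allFrom_trans srel0_8 (allFrom_trans srel0_10 (allFrom_trans srel0_12 (allFrom_trans srel0_14 (allFrom_trans srel0_16 (allFrom_trans srel0_18 (allFrom_trans srel0_20 (allFrom_trans srel0_22 (allFrom_trans srel0_24 (allFrom_trans srel0_26 (allFrom_trans srel0_28 (allFrom_trans srel0_30 (allFrom_trans srel0_32 (allFrom_trans srel0_34 (allFrom_trans srel0_36 (allFrom_trans srel0_38 (srel0_40))))))))))))))))))))) (allFrom_trans row0_0 (allFrom_trans row0_10 (allFrom_trans row0_20 (allFrom_trans row0_30 (allFrom_trans row0_40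 (allFrom_trans row0_50 (allFrom_trans row0_60 (allFrom_trans row0_70 (allFrom_trans row0_80 (allFrom_trans row0_90 (allFrom_trans row0_100 (allFrom_trans row0_110 (allFrom_trans row0_120 (allFrom_trans row0_130 (allFrom_trans row0_140 (allFrom_trans row0_150 (allFrom_trans row0_160 (allFrom_trans row0_170 (allFrom_trans row0_180 (allFrom_trans row0_190 (allFrom_trans row0_200 (allFrom_trans row0_210 (allFrom_trans row0_220 (allFrom_trans row0_230 (allFrom_trans row0_240 (allFrom_trans row0_250 (allFrom_trans row0_260 (allFrom_trans row0_270 (allFrom_trans row0_280 (allFrom_trans row0_290 (allFrom_trans row0_300 (allFrom_trans row0_310 (allFrom_trans row0_320 (allFrom_trans row0_330 (allFrom_trans row0_340 (allFrom_trans row0_350 (allFrom_trans row0_360 (allFrom_trans row0_370 (allFrom_trans row0_380 (allFrom_trans row0_390 (allFrom_trans row0_400 (allFrom_trans row0_410 (allFrom_trans row0_420 (allFrom_trans row0_430 (allFrom_trans row0_440 (allFrom_trans row0_450 (allFrom_trans row0_460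 (allFrom_trans row0_470 (allFrom_trans row0_480 (allFrom_trans row0_490 (allFrom_trans row0_500 (row0_510))))))))))))))))))))))))))))))))))))))))))))))))))))

theorem deds0 : dedsOK level0 [level1, level2, level3, level4] = true :=
  dedsOK_of_parts pack_ok0 (packsOK_cons pack_ok1 (packsOK_cons pack_ok2 (packsOK_cons pack_ok3 (packsOK_cons pack_ok4 (rfl))))) (allFrom_trans ded0_0 (allFrom_trans ded0_1 (allFrom_trans ded0_2 (allFrom_trans ded0_3 (allFrom_trans ded0_4 (allFrom_trans ded0_5 (allFrom_trans ded0_6 (allFrom_trans ded0_7 (allFrom_trans ded0_8 (allFrom_trans ded0_9 (allFrom_trans ded0_10 (allFrom_trans ded0_11 (allFrom_trans ded0_12 (allFrom_trans ded0_13 (allFrom_trans ded0_14 (allFrom_trans ded0_15 (allFrom_trans ded0_16 (allFrom_trans ded0_17 (allFrom_trans ded0_18 (allFrom_trans ded0_19 (allFrom_trans ded0_20 (allFrom_trans ded0_21 (allFrom_trans ded0_22 (allFrom_trans ded0_23 (allFrom_trans ded0_24 (allFrom_trans ded0_25 (allFrom_trans ded0_26 (allFrom_trans ded0_27 (allFrom_trans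 ded0_28 (allFrom_trans ded0_29 (allFrom_trans ded0_30 (allFrom_trans ded0_31 (allFrom_trans ded0_32 (allFrom_trans ded0_33 (allFrom_trans ded0_34 (allFrom_trans ded0_35 (allFrom_trans ded0_36 (allFrom_trans ded0_37 (allFrom_trans ded0_38 (allFrom_trans ded0_39 (allFrom_trans ded0_40 (allFrom_trans ded0_41 (allFrom_trans ded0_42 (allFrom_trans ded0_43 (allFrom_trans ded0_44 (allFrom_trans ded0_45 (allFrom_trans ded0_46 (allFrom_trans ded0_47 (allFrom_trans ded0_48 (allFrom_trans ded0_49 (allFrom_trans ded0_50 (allFrom_trans ded0_51 (allFrom_trans ded0_52 (allFrom_trans ded0_53 (allFrom_trans ded0_54 (allFrom_trans ded0_55 (allFrom_trans ded0_56 (allFrom_trans ded0_57 (allFrom_trans ded0_58 (allFrom_trans ded0_59 (allFrom_trans ded0_60 (allFrom_trans ded0_61 (allFrom_trans ded0_62 (allFrom_trans ded0_63 (allFrom_trans ded0_64 (allFrom_trans ded0_65 (allFrom_trans ded0_66 (allFrom_trans ded0_67 (allFrom_trans ded0_68 (allFrom_trans ded0_69 (allFrom_trans ded0_70 (allFrom_trans ded0_71 (allFrom_trans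 ded0_72 (allFrom_trans ded0_73 (allFrom_trans ded0_74 (allFrom_trans ded0_75 (allFrom_trans ded0_76 (allFrom_trans ded0_77 (allFrom_trans ded0_78 (allFrom_trans ded0_79 (allFrom_trans ded0_80 (allFrom_trans ded0_81 (allFrom_trans ded0_82 (allFrom_trans ded0_83 (allFrom_trans ded0_84 (allFrom_trans ded0_85 (allFrom_trans ded0_86 (allFrom_trans ded0_87 (allFrom_trans ded0_88 (allFrom_trans ded0_89 (allFrom_trans ded0_90 (allFrom_trans ded0_91 (allFrom_trans ded0_92 (allFrom_trans ded0_93 (allFrom_trans ded0_94 (allFrom_trans ded0_95 (allFrom_trans ded0_96 (allFrom_trans ded0_97 (allFrom_trans ded0_98 (allFrom_trans ded0_99 (allFrom_trans ded0_100 (allFrom_trans ded0_101 (allFrom_trans ded0_102 (allFrom_trans ded0_103 (allFrom_trans ded0_104 (allFrom_trans ded0_105 (allFrom_trans ded0_106 (allFrom_trans ded0_107 (allFrom_trans ded0_108 (allFrom_trans ded0_109 (allFrom_trans ded0_110 (allFrom_trans ded0_111 (allFrom_trans ded0_112 (allFrom_trans ded0_113 (allFrom_trans ded0_114 (allFrom_trans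 ded0_115 (allFrom_trans ded0_116 (allFrom_trans ded0_117 (allFrom_trans ded0_118 (allFrom_trans ded0_119 (allFrom_trans ded0_120 (allFrom_trans ded0_121 (allFrom_trans ded0_122 (allFrom_trans ded0_123 (allFrom_trans ded0_124 (allFrom_trans ded0_125 (allFrom_trans ded0_126 (allFrom_trans ded0_127 (allFrom_trans ded0_128 (allFrom_trans ded0_129 (allFrom_trans ded0_130 (allFrom_trans ded0_131 (allFrom_trans ded0_132 (allFrom_trans ded0_133 (allFrom_trans ded0_134 (allFrom_trans ded0_135 (allFrom_trans ded0_136 (allFrom_trans ded0_137 (allFrom_trans ded0_138 (allFrom_trans ded0_139 (allFrom_trans ded0_140 (allFrom_trans ded0_141 (allFrom_trans ded0_142 (allFrom_trans ded0_143 (allFrom_trans ded0_144 (allFrom_trans ded0_145 (allFrom_trans ded0_146 (allFrom_trans ded0_147 (allFrom_trans ded0_148 (allFrom_trans ded0_149 (allFrom_trans ded0_150 (allFrom_trans ded0_151 (allFrom_trans ded0_152 (allFrom_trans ded0_153 (allFrom_trans ded0_154 (allFrom_trans ded0_155 (allFrom_trans ded0_156 (allFrom_trans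 ded0_157 (allFrom_trans ded0_158 (allFrom_trans ded0_159 (allFrom_trans ded0_160 (allFrom_trans ded0_161 (allFrom_trans ded0_162 (allFrom_trans ded0_163 (allFrom_trans ded0_164 (allFrom_trans ded0_165 (allFrom_trans ded0_166 (allFrom_trans ded0_167 (allFrom_trans ded0_168 (allFrom_trans ded0_169 (allFrom_trans ded0_170 (allFrom_trans ded0_171 (allFrom_trans ded0_172 (allFrom_trans ded0_173 (allFrom_trans ded0_174 (allFrom_trans ded0_175 (allFrom_trans ded0_176 (allFrom_trans ded0_177 (allFrom_trans ded0_178 (allFrom_trans ded0_179 (allFrom_trans ded0_180 (allFrom_trans ded0_181 (allFrom_trans ded0_182 (allFrom_trans ded0_183 (allFrom_trans ded0_184 (allFrom_trans ded0_185 (allFrom_trans ded0_186 (allFrom_trans ded0_187 (allFrom_trans ded0_188 (allFrom_trans ded0_189 (allFrom_trans ded0_190 (allFrom_trans ded0_191 (allFrom_trans ded0_192 (allFrom_trans ded0_193 (allFrom_trans ded0_194 (allFrom_trans ded0_195 (allFrom_trans ded0_196 (allFrom_trans ded0_197 (allFrom_trans ded0_198 (allFrom_trans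 ded0_199 (allFrom_trans ded0_200 (allFrom_trans ded0_201 (allFrom_trans ded0_202 (allFrom_trans ded0_203 (allFrom_trans ded0_204 (allFrom_trans ded0_205 (allFrom_trans ded0_206 (allFrom_trans ded0_207 (allFrom_trans ded0_208 (allFrom_trans ded0_209 (allFrom_trans ded0_210 (allFrom_trans ded0_211 (allFrom_trans ded0_212 (allFrom_trans ded0_213 (allFrom_trans ded0_214 (allFrom_trans ded0_215 (allFrom_trans ded0_216 (allFrom_trans ded0_217 (allFrom_trans ded0_218 (allFrom_trans ded0_219 (allFrom_trans ded0_220 (allFrom_trans ded0_221 (allFrom_trans ded0_222 (allFrom_trans ded0_223 (allFrom_trans ded0_224 (allFrom_trans ded0_225 (allFrom_trans ded0_226 (allFrom_trans ded0_227 (allFrom_trans ded0_228 (allFrom_trans ded0_229 (allFrom_trans ded0_230 (allFrom_trans ded0_231 (allFrom_trans ded0_232 (allFrom_trans ded0_233 (allFrom_trans ded0_234 (allFrom_trans ded0_235 (allFrom_trans ded0_236 (allFrom_trans ded0_237 (allFrom_trans ded0_238 (allFrom_trans ded0_239 (allFrom_trans ded0_240 (allFrom_trans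 ded0_241 (allFrom_trans ded0_242 (allFrom_trans ded0_243 (allFrom_trans ded0_244 (allFrom_trans ded0_245 (allFrom_trans ded0_246 (allFrom_trans ded0_247 (allFrom_trans ded0_248 (allFrom_trans ded0_249 (allFrom_trans ded0_250 (allFrom_trans ded0_251 (allFrom_trans ded0_252 (allFrom_trans ded0_253 (allFrom_trans ded0_254 (allFrom_trans ded0_255 (allFrom_trans ded0_256 (allFrom_trans ded0_257 (allFrom_trans ded0_258 (allFrom_trans ded0_259 (allFrom_trans ded0_260 (allFrom_trans ded0_261 (allFrom_trans ded0_262 (allFrom_trans ded0_263 (allFrom_trans ded0_264 (allFrom_trans ded0_265 (allFrom_trans ded0_266 (allFrom_trans ded0_267 (allFrom_trans ded0_268 (allFrom_trans ded0_269 (allFrom_trans ded0_270 (allFrom_trans ded0_271 (allFrom_trans ded0_272 (allFrom_trans ded0_273 (allFrom_trans ded0_274 (allFrom_trans ded0_275 (allFrom_trans ded0_276 (allFrom_trans ded0_277 (allFrom_trans ded0_278 (allFrom_trans ded0_279 (allFrom_trans ded0_280 (allFrom_trans ded0_281 (allFrom_trans ded0_282 (allFrom_trans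 ded0_283 (allFrom_trans ded0_284 (allFrom_trans ded0_285 (allFrom_trans ded0_286 (allFrom_trans ded0_287 (allFrom_trans ded0_288 (allFrom_trans ded0_289 (allFrom_trans ded0_290 (allFrom_trans ded0_291 (allFrom_trans ded0_292 (allFrom_trans ded0_293 (allFrom_trans ded0_294 (allFrom_trans ded0_295 (allFrom_trans ded0_296 (allFrom_trans ded0_297 (allFrom_trans ded0_298 (allFrom_trans ded0_299 (allFrom_trans ded0_300 (allFrom_trans ded0_301 (allFrom_trans ded0_302 (allFrom_trans ded0_303 (allFrom_trans ded0_304 (allFrom_trans ded0_305 (allFrom_trans ded0_306 (allFrom_trans ded0_307 (allFrom_trans ded0_308 (allFrom_trans ded0_309 (allFrom_trans ded0_310 (allFrom_trans ded0_311 (allFrom_trans ded0_312 (allFrom_trans ded0_313 (allFrom_trans ded0_314 (allFrom_trans ded0_315 (allFrom_trans ded0_316 (allFrom_trans ded0_317 (allFrom_trans ded0_318 (allFrom_trans ded0_319 (allFrom_trans ded0_320 (allFrom_trans ded0_321 (allFrom_trans ded0_322 (allFrom_trans ded0_323 (allFrom_trans ded0_324 (allFrom_trans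 ded0_325 (allFrom_trans ded0_326 (allFrom_trans ded0_327 (allFrom_trans ded0_328 (allFrom_trans ded0_329 (allFrom_trans ded0_330 (allFrom_trans ded0_331 (allFrom_trans ded0_332 (allFrom_trans ded0_333 (allFrom_trans ded0_334 (allFrom_trans ded0_335 (allFrom_trans ded0_336 (allFrom_trans ded0_337 (allFrom_trans ded0_338 (allFrom_trans ded0_339 (allFrom_trans ded0_340 (allFrom_trans ded0_341 (allFrom_trans ded0_342 (allFrom_trans ded0_343 (allFrom_trans ded0_344 (allFrom_trans ded0_345 (allFrom_trans ded0_346 (allFrom_trans ded0_347 (allFrom_trans ded0_348 (allFrom_trans ded0_349 (allFrom_trans ded0_350 (allFrom_trans ded0_351 (allFrom_trans ded0_352 (allFrom_trans ded0_353 (allFrom_trans ded0_354 (allFrom_trans ded0_355 (allFrom_trans ded0_356 (allFrom_trans ded0_357 (allFrom_trans ded0_358 (allFrom_trans ded0_359 (allFrom_trans ded0_360 (allFrom_trans ded0_361 (allFrom_trans ded0_362 (allFrom_trans ded0_363 (allFrom_trans ded0_364 (allFrom_trans ded0_365 (allFrom_trans ded0_366 (allFrom_trans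 ded0_367 (allFrom_trans ded0_368 (allFrom_trans ded0_369 (allFrom_trans ded0_370 (allFrom_trans ded0_371 (allFrom_trans ded0_372 (allFrom_trans ded0_373 (allFrom_trans ded0_374 (allFrom_trans ded0_375 (allFrom_trans ded0_376 (allFrom_trans ded0_377 (allFrom_trans ded0_378 (allFrom_trans ded0_379 (allFrom_trans ded0_380 (allFrom_trans ded0_381 (allFrom_trans ded0_382 (allFrom_trans ded0_383 (allFrom_trans ded0_384 (allFrom_trans ded0_385 (allFrom_trans ded0_386 (allFrom_trans ded0_387 (allFrom_trans ded0_388 (allFrom_trans ded0_389 (allFrom_trans ded0_390 (allFrom_trans ded0_391 (allFrom_trans ded0_392 (allFrom_trans ded0_393 (allFrom_trans ded0_394 (allFrom_trans ded0_395 (allFrom_trans ded0_396 (allFrom_trans ded0_397 (allFrom_trans ded0_398 (allFrom_trans ded0_399 (allFrom_trans ded0_400 (allFrom_trans ded0_401 (allFrom_trans ded0_402 (allFrom_trans ded0_403 (allFrom_trans ded0_404 (allFrom_trans ded0_405 (allFrom_trans ded0_406 (allFrom_trans ded0_407 (allFrom_trans ded0_408 (allFrom_trans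 ded0_409 (allFrom_trans ded0_410 (allFrom_trans ded0_411 (allFrom_trans ded0_412 (allFrom_trans ded0_413 (allFrom_trans ded0_414 (allFrom_trans ded0_415 (allFrom_trans ded0_416 (allFrom_trans ded0_417 (allFrom_trans ded0_418 (allFrom_trans ded0_419 (allFrom_trans ded0_420 (allFrom_trans ded0_421 (allFrom_trans ded0_422 (allFrom_trans ded0_423 (allFrom_trans ded0_424 (allFrom_trans ded0_425 (allFrom_trans ded0_426 (allFrom_trans ded0_427 (allFrom_trans ded0_428 (allFrom_trans ded0_429 (allFrom_trans ded0_430 (allFrom_trans ded0_431 (allFrom_trans ded0_432 (allFrom_trans ded0_433 (allFrom_trans ded0_434 (allFrom_trans ded0_435 (allFrom_trans ded0_436 (allFrom_trans ded0_437 (allFrom_trans ded0_438 (allFrom_trans ded0_439 (allFrom_trans ded0_440 (allFrom_trans ded0_441 (allFrom_trans ded0_442 (allFrom_trans ded0_443 (allFrom_trans ded0_444 (allFrom_trans ded0_445 (allFrom_trans ded0_446 (allFrom_trans ded0_447 (allFrom_trans ded0_448 (allFrom_trans ded0_449 (allFrom_trans ded0_450 (allFrom_trans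 ded0_451 (allFrom_trans ded0_452 (allFrom_trans ded0_453 (allFrom_trans ded0_454 (allFrom_trans ded0_455 (allFrom_trans ded0_456 (allFrom_trans ded0_457 (allFrom_trans ded0_458 (allFrom_trans ded0_459 (allFrom_trans ded0_460 (allFrom_trans ded0_461 (allFrom_trans ded0_462 (allFrom_trans ded0_463 (allFrom_trans ded0_464 (allFrom_trans ded0_465 (allFrom_trans ded0_466 (allFrom_trans ded0_467 (allFrom_trans ded0_468 (allFrom_trans ded0_469 (allFrom_trans ded0_470 (allFrom_trans ded0_471 (allFrom_trans ded0_472 (allFrom_trans ded0_473 (allFrom_trans ded0_474 (allFrom_trans ded0_475 (allFrom_trans ded0_476 (allFrom_trans ded0_477 (allFrom_trans ded0_478 (allFrom_trans ded0_479 (allFrom_trans ded0_480 (allFrom_trans ded0_481 (allFrom_trans ded0_482 (allFrom_trans ded0_483 (allFrom_trans ded0_484 (allFrom_trans ded0_485 (allFrom_trans ded0_486 (allFrom_trans ded0_487 (allFrom_trans ded0_488 (allFrom_trans ded0_489 (allFrom_trans ded0_490 (allFrom_trans ded0_491 (allFrom_trans ded0_492 (allFrom_trans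 ded0_493 (allFrom_trans ded0_494 (allFrom_trans ded0_495 (allFrom_trans ded0_496 (allFrom_trans ded0_497 (allFrom_trans ded0_498 (allFrom_trans ded0_499 (allFrom_trans ded0_500 (allFrom_trans ded0_501 (allFrom_trans ded0_502 (allFrom_trans ded0_503 (allFrom_trans ded0_504 (allFrom_trans ded0_505 (allFrom_trans ded0_506 (allFrom_trans ded0_507 (allFrom_trans ded0_508 (allFrom_trans ded0_509 (allFrom_trans ded0_510 (allFrom_trans ded0_511 (ded0_512)))))))))))))))))))))))))))))))))))))))))))))))))))))))))))))))))))))))))))))))))))))))))))))))))))))))))))))))))))))))))))))))))))))))))))))))))))))))))))))))))))))))))))))))))))))))))))))))))))))))))))))))))))))))))))))))))))))))))))))))))))))))))))))))))))))))))))))))))))))))))))))))))))))))))))))))))))))))))))))))))))))))))))))))))))))))))))))))))))))))))))))))))))))))))))))))))))))))))))))))))))))))))))))))))))))))))))))))))))))))))))))))))))))))))))))))))))))))))))))))))))))))))))))))))))))))))))))))))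

theorem eqns0 : eqnsOK level0 [level1, level2, level3, level4] = true :=
  eqnsOK_of_parts pack_ok0 (packsOK_cons pack_ok1 (packsOK_cons pack_ok2 (packsOK_cons pack_ok3 (packsOK_cons pack_ok4 (rfl))))) (allFrom_trans eqn0_0 (allFrom_trans eqn0_1 (allFrom_trans eqn0_2 (allFrom_trans eqn0_3 (allFrom_trans eqn0_4 (allFrom_trans eqn0_5 (allFrom_trans eqn0_6 (allFrom_trans eqn0_7 (allFrom_trans eqn0_8 (allFrom_trans eqn0_9 (allFrom_trans eqn0_10 (allFrom_trans eqn0_11 (allFrom_trans eqn0_12 (allFrom_trans eqn0_13 (allFrom_trans eqn0_14 (allFrom_trans eqn0_15 (allFrom_trans eqn0_16 (allFrom_trans eqn0_17 (allFrom_trans eqn0_18 (allFrom_trans eqn0_19 (allFrom_trans eqn0_20 (allFrom_trans eqn0_21 (allFrom_trans eqn0_22 (allFrom_trans eqn0_23 (allFrom_trans eqn0_24 (allFrom_trans eqn0_25 (allFrom_trans eqn0_26 (allFrom_trans eqn0_27 (allFrom_trans eqn0_28 (allFrom_trans eqn0_29 (allFrom_trans eqn0_30 (allFrom_trans eqn0_31 (allFrom_trans eqn0_32 (allFrom_trans eqn0_33 (allFrom_trans eqn0_34 (allFrom_trans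 eqn0_35 (allFrom_trans eqn0_36 (allFrom_trans eqn0_37 (allFrom_trans eqn0_38 (allFrom_trans eqn0_39 (allFrom_trans eqn0_40 (allFrom_trans eqn0_41 (allFrom_trans eqn0_42 (allFrom_trans eqn0_43 (allFrom_trans eqn0_44 (allFrom_trans eqn0_45 (allFrom_trans eqn0_46 (allFrom_trans eqn0_47 (allFrom_trans eqn0_48 (allFrom_trans eqn0_49 (allFrom_trans eqn0_50 (allFrom_trans eqn0_51 (allFrom_trans eqn0_52 (allFrom_trans eqn0_53 (allFrom_trans eqn0_54 (allFrom_trans eqn0_55 (allFrom_trans eqn0_56 (allFrom_trans eqn0_57 (allFrom_trans eqn0_58 (eqn0_59))))))))))))))))))))))))))))))))))))))))))))))))))))))))))))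

theorem shape1 : shapeOK (chainRels chain top) rows level1 [level2, level3, level4] (nextWords (top) level0) = true :=
  shapeOK_of_parts head1 (allFrom_trans srel1_0 (allFrom_trans srel1_2 (allFrom_trans srel1_4 (allFrom_trans srel1_6 (allFrom_trans srel1_8 (allFrom_trans srel1_10 (allFrom_trans srel1_12 (allFrom_trans srel1_14 (allFrom_trans srel1_16 (allFrom_trans srel1_18 (srel1_20))))))))))) (allFrom_trans row1_0 (allFrom_trans row1_10 (allFrom_trans row1_20 (allFrom_trans row1_30 (allFrom_trans row1_40 (row1_50))))))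

theorem deds1 : dedsOK level1 [level2, level3, level4] = true :=
  dedsOK_of_parts pack_ok1 (packsOK_cons pack_ok2 (packsOK_cons pack_ok3 (packsOK_cons pack_ok4 (rfl)))) (allFrom_trans ded1_0 (allFrom_trans ded1_3 (allFrom_trans ded1_6 (allFrom_trans ded1_9 (allFrom_trans ded1_12 (allFrom_trans ded1_15 (allFrom_trans ded1_18 (allFrom_trans ded1_21 (allFrom_trans ded1_24 (allFrom_trans ded1_27 (allFrom_trans ded1_30 (allFrom_trans ded1_33 (allFrom_trans ded1_36 (allFrom_trans ded1_39 (allFrom_trans ded1_42 (allFrom_trans ded1_45 (allFrom_trans ded1_48 (allFrom_trans ded1_51 (ded1_54)))))))))))))))))))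

theorem eqns1 : eqnsOK level1 [level2, level3, level4] = true :=
  eqnsOK_of_parts pack_ok1 (packsOK_cons pack_ok2 (packsOK_cons pack_ok3 (packsOK_cons pack_ok4 (rfl)))) (allFrom_trans eqn1_0 (allFrom_trans eqn1_3 (allFrom_trans eqn1_6 (allFrom_trans eqn1_9 (allFrom_trans eqn1_12 (allFrom_trans eqn1_15 (allFrom_trans eqn1_18 (allFrom_trans eqn1_21 (eqn1_24)))))))))

theorem shape2 : shapeOK (chainRels chain top) rows level2 [level3, level4] (nextWords (nextWords (top) level0) level1) = true :=
  shapeOK_of_parts head2 (allFrom_trans srel2_0 (allFrom_trans srel2_2 (allFrom_trans srel2_4 (allFrom_trans srel2_6 (srel2_8))))) (row2_0)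

theorem deds2 : dedsOK level2 [level3, level4] = true :=
  dedsOK_of_parts pack_ok2 (packsOK_cons pack_ok3 (packsOK_cons pack_ok4 (rfl))) (allFrom_trans ded2_0 (allFrom_trans ded2_10 (ded2_20)))

theorem eqns2 : eqnsOK level2 [level3, level4] = true :=
  eqnsOK_of_parts pack_ok2 (packsOK_cons pack_ok3 (packsOK_cons pack_ok4 (rfl))) (allFrom_trans eqn2_0 (eqn2_10))

theorem shape3 : shapeOK (chainRels chain top) rows level3 [level4] (nextWords (nextWords (nextWords (top) level0) level1) level2) = true :=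
  shapeOK_of_parts head3 (allFrom_trans srel3_0 (allFrom_trans srel3_2 (allFrom_trans srel3_4 (allFrom_trans srel3_6 (allFrom_trans srel3_8 (allFrom_trans srel3_10 (srel3_12))))))) (row3_0)

theorem deds3 : dedsOK level3 [level4] = true :=
  dedsOK_of_parts pack_ok3 (packsOK_cons pack_ok4 (rfl)) (allFrom_trans ded3_0 (ded3_10))

theorem eqns3 : eqnsOK level3 [level4] = true :=
  eqnsOK_of_parts pack_ok3 (packsOK_cons pack_ok4 (rfl)) (allFrom_trans eqn3_0 (eqn3_10))

theorem shape4 : shapeOK (chainRels chain top) rows level4 [] (nextWords (nextWords (nextWords (nextWords (top) level0) level1) level2) level3) = true :=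
  shapeOK_of_parts head4 (allFrom_trans srel4_0 (allFrom_trans srel4_2 (srel4_4))) (allFrom_trans row4_0 (row4_80))

theorem deds4 : dedsOK level4 [] = true :=
  dedsOK_of_parts pack_ok4 (rfl) (allFrom_trans ded4_0 (allFrom_trans ded4_60 (allFrom_trans ded4_120 (ded4_180))))

theorem eqns4 : eqnsOK level4 [] = true :=
  eqnsOK_of_parts pack_ok4 (rfl) (eqn4_0)

theorem perms_check : permsOKN 568 chain = true :=
  permsOKN_cons permsGen0 (allFrom_trans rel0_0 (allFrom_trans rel0_1 (allFrom_trans rel0_2 (allFrom_trans rel0_3 (allFrom_trans rel0_4 (allFrom_trans rel0_5 (allFrom_trans rel0_6 (allFrom_trans rel0_7 (allFrom_trans rel0_8 (allFrom_trans rel0_9 (allFrom_trans rel0_10 (allFrom_trans rel0_11 (allFrom_trans rel0_12 (allFrom_trans rel0_13 (allFrom_trans rel0_14 (allFrom_trans rel0_15 (allFrom_trans rel0_16 (allFrom_trans rel0_17 (allFrom_trans rel0_18 (allFrom_trans rel0_19 (allFrom_trans rel0_20 (allFrom_trans rel0_21 (allFrom_trans rel0_22 (allFrom_trans rel0_23 (allFrom_trans rel0_24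 (allFrom_trans rel0_25 (allFrom_trans rel0_26 (allFrom_trans rel0_27 (allFrom_trans rel0_28 (allFrom_trans rel0_29 (allFrom_trans rel0_30 (allFrom_trans rel0_31 (allFrom_trans rel0_32 (allFrom_trans rel0_33 (allFrom_trans rel0_34 (allFrom_trans rel0_35 (allFrom_trans rel0_36 (allFrom_trans rel0_37 (allFrom_trans rel0_38 (allFrom_trans rel0_39 (rel0_40))))))))))))))))))))))))))))))))))))))))) (allFrom_trans path0_0 (allFrom_trans path0_200 (path0_400))) permsKey0 (permsOKN_cons permsGen1 (allFrom_trans rel1_0 (allFrom_trans rel1_1 (allFrom_trans rel1_2 (allFrom_trans rel1_3 (allFrom_trans rel1_4 (allFrom_trans rel1_5 (allFrom_trans rel1_6 (allFrom_trans rel1_7 (allFrom_trans rel1_8 (allFrom_trans rel1_9 (allFrom_trans rel1_10 (allFrom_trans rel1_11 (allFrom_trans rel1_12 (allFrom_trans rel1_13 (allFrom_trans rel1_14 (allFrom_trans rel1_15 (allFrom_trans rel1_16 (allFrom_trans rel1_17 (allFrom_trans rel1_18 (allFrom_trans rel1_19 (rel1_20))))))))))))))))))))) (path1_0) permsKey1 (permsOKN_cons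 permsGen2 (allFrom_trans rel2_0 (allFrom_trans rel2_1 (allFrom_trans rel2_2 (allFrom_trans rel2_3 (allFrom_trans rel2_4 (allFrom_trans rel2_5 (allFrom_trans rel2_6 (allFrom_trans rel2_7 (rel2_8))))))))) (path2_0) permsKey2 (permsOKN_cons permsGen3 (allFrom_trans rel3_0 (allFrom_trans rel3_2 (allFrom_trans rel3_4 (allFrom_trans rel3_6 (allFrom_trans rel3_8 (allFrom_trans rel3_10 (rel3_12))))))) (path3_0) permsKey3 (permsOKN_cons permsGen4 (allFrom_trans rel4_0 (allFrom_trans rel4_2 (rel4_4))) (path4_0) permsKey4 (rfl)))))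

theorem rows_check : rows = relRows (chainRels chain top) ∧ chainExp chain = top.map (wexp vunit) := by decide +kernel

theorem lastWords : (nextWords (nextWords (nextWords (nextWords (nextWords (top) level0) level1) level2) level3) level4).isEmpty = true := by decide +kernel

theorem tables_check : tablesOK (chainRels chain top) rows chain top = true := by
  show tablesOK (chainRels chain top) rows [level0, level1, level2, level3, level4] top = true
  simp only [tablesOK, shape0, deds0, eqns0, shape1, deds1, eqns1, shape2, deds2, eqns2, shape3, deds3, eqns3, shape4, deds4, eqns4, lastWords, Bool.and_self]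

theorem lin_check : lin.ok rows 2 (chainEqns chain ++ extra.map fun e => e.2.2) = true :=
  LinCert.ok_of_parts linHead_check (allFrom_trans linUnit_0 (allFrom_trans linUnit_5 (allFrom_trans linUnit_10 (allFrom_trans linUnit_15 (allFrom_trans linUnit_20 (allFrom_trans linUnit_25 (allFrom_trans linUnit_30 (allFrom_trans linUnit_35 (allFrom_trans linUnit_40 (allFrom_trans linUnit_45 (allFrom_trans linUnit_50 (allFrom_trans linUnit_55 (allFrom_trans linUnit_60 (allFrom_trans linUnit_65 (allFrom_trans linUnit_70 (allFrom_trans linUnit_75 (linUnit_80))))))))))))))))) (allFrom_trans linKind_0 (allFrom_trans linKind_2 (allFrom_trans linKind_4 (allFrom_trans linKind_6 (allFrom_trans linKind_8 (allFrom_trans linKind_10 (allFrom_trans linKind_12 (allFrom_trans linKind_14 (allFrom_trans linKind_16 (allFrom_trans linKind_18 (allFrom_trans linKind_20 (allFrom_trans linKind_22 (allFrom_trans linKind_24 (allFrom_trans linKind_26 (allFrom_trans linKind_28 (allFrom_trans linKind_30 (allFrom_trans linKind_32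 (allFrom_trans linKind_34 (allFrom_trans linKind_36 (allFrom_trans linKind_38 (allFrom_trans linKind_40 (allFrom_trans linKind_42 (allFrom_trans linKind_44 (allFrom_trans linKind_46 (allFrom_trans linKind_48 (allFrom_trans linKind_50 (allFrom_trans linKind_52 (allFrom_trans linKind_54 (allFrom_trans linKind_56 (allFrom_trans linKind_58 (allFrom_trans linKind_60 (allFrom_trans linKind_62 (allFrom_trans linKind_64 (allFrom_trans linKind_66 (allFrom_trans linKind_68 (allFrom_trans linKind_70 (allFrom_trans linKind_72 (allFrom_trans linKind_74 (allFrom_trans linKind_76 (allFrom_trans linKind_78 (linKind_80)))))))))))))))))))))))))))))))))))))))))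

end CfsgLib.Sporadic.MultTwoCent
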