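import Mathlib
import Cfsg.Agent.Lib.Sporadic.MultTwoCent.Pack0
import Cfsg.Agent.Lib.Sporadic.MultTwoCent.Pack1
import Cfsg.Agent.Lib.Sporadic.MultTwoCent.Pack2
import Cfsg.Agent.Lib.Sporadic.MultTwoCent.Pack3
import Cfsg.Agent.Lib.Sporadic.MultTwoCent.Pack4
import Cfsg.Agent.Lib.Sporadic.MultTwoCent.Data
import Cfsg.Agent.Lib.Schur.CheckParts

/-!
# Relations of table 1 for the permutations
-/

set_option autoImplicit false
set_option maxRecDepth 100000
set_option maxHeartbeats 0
set_option Elab.async false

noncomputable section

namespace CfsgLib.Sporadic.MultTwoCent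

open CfsgLib.Schur.Cert CfsgLib.Sporadic

theorem rel1_8 : allFrom (permsRel 568 level1) 8 9 = true := by decide +kernel

theorem rel1_9 : allFrom (permsRel 568 level1) 9 10 = true := by decide +kernel

theorem rel1_10 : allFrom (permsRel 568 level1) 10 11 = true := by decide +kernel

theorem rel1_11 : allFrom (permsRel 568 level1) 11 12 = true := by decide +kernel

theorem rel1_12 : allFrom (permsRel 568 level1) 12 13 = true := by decide +kernel

theorem rel1_13 : allFrom (permsRel 568 level1) 13 14 = true := by decide +kernel

theorem rel1_14 : allFrom (permsRel 568 level1) 14 15 = true := by decide +kernel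

theorem rel1_15 : allFrom (permsRel 568 level1) 15 16 = true := by decide +kernel

end CfsgLib.Sporadic.MultTwoCent
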