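import Mathlib
import Cfsg.Agent.Lib.Sporadic.ChainCertificate
import Cfsg.Agent.Lib.Schur.TrieFast

/-!
# Coset table 0 of a chain
-/

set_option autoImplicit false
set_option maxRecDepth 100000
set_option maxHeartbeats 0
set_option Elab.async false

noncomputable section

namespace CfsgLib.Sporadic.MultTwoCent

open CfsgLib.Schur.Cert

/-- data -/
def next0_000 : Trie (ℕ) := .node (.node (.node (.node (.node (.node (.node (.leaf 1) (.leaf 356)) (.node (.leaf 119) (.leaf 200))) (.node (.node (.leaf 106) (.leaf 152)) (.node (.leaf 278) (.leaf 371)))) (.node (.node (.node (.leaf 55) (.leaf 271)) (.node (.leaf 62) (.leaf 313))) (.node (.node (.leaf 146) (.leaf 172)) (.node (.leaf 93) (.leaf 402))))) (.node (.node (.node (.node (.leaf 4) (.leaf 370)) (.node (.leaf 218) (.leaf 467))) (.node (.node (.leaf 129) (.leaf 163)) (.node (.leaf 95) (.leaf 494)))) (.node (.node (.node (.leaf 81) (.leaf 396)) (.node (.leaf 257) (.leaf 491))) (.node (.node (.leaf 41) (.leaf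 194)) (.node (.leaf 338) (.leaf 433)))))) (.node (.node (.node (.node (.node (.leaf 16) (.leaf 117)) (.node (.leaf 209) (.leaf 460))) (.node (.node (.leaf 118) (.leaf 254)) (.node (.leaf 289) (.leaf 497)))) (.node (.node (.node (.leaf 67) (.leaf 327)) (.node (.leaf 246) (.leaf 424))) (.node (.node (.leaf 164) (.leaf 438)) (.node (.leaf 238) (.leaf 506))))) (.node (.node (.node (.node (.leaf 42) (.leaf 183)) (.node (.leaf 227) (.leaf 226))) (.node (.node (.leaf 30) (.leaf 168)) (.node (.leaf 306) (.leaf 415)))) (.node (.node (.node (.leaf 94) (.leaf 355)) (.node (.leaf 72) (.leaf 272))) (.node (.node (.leaf 44) (.leaf 192)) (.node (.leaf 346) (.leaf 420))))))) (.node (.node (.node (.node (.node (.node (.leaf 8) (.leaf 359)) (.node (.leaf 203) (.leaf 205))) (.node (.node (.leaf 112) (.leaf 409)) (.node (.leaf 196) (.leaf 489)))) (.node (.node (.node (.leaf 11) (.leaf 132)) (.node (.leaf 63) (.leaf 482))) (.node (.node (.leaf 130) (.leaf 175)) (.node (.leaf 322)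 (.leaf 345))))) (.node (.node (.node (.node (.leaf 34) (.leaf 124)) (.node (.leaf 223) (.leaf 416))) (.node (.node (.leaf 135) (.leaf 174)) (.node (.leaf 300) (.leaf 434)))) (.node (.node (.node (.leaf 88) (.leaf 268)) (.node (.leaf 261) (.leaf 258))) (.node (.node (.leaf 43) (.leaf 445)) (.node (.leaf 341) (.leaf 395)))))) (.node (.node (.node (.node (.node (.leaf 15) (.leaf 217)) (.node (.leaf 76) (.leaf 459))) (.node (.node (.leaf 125) (.leaf 407)) (.node (.leaf 294) (.leaf 299)))) (.node (.node (.node (.leaf 73) (.leaf 326)) (.node (.leaf 252) (.leaf 488))) (.node (.node (.leaf 167) (.leaf 260)) (.node (.leaf 332) (.leaf 379))))) (.node (.node (.node (.node (.leaf 48) (.leaf 380)) (.node (.leaf 230) (.leaf 476))) (.node (.node (.leaf 147) (.leaf 170)) (.node (.leaf 96) (.leaf 330)))) (.node (.node (.node (.leaf 100) (.leaf 347)) (.node (.leaf 74) (.leaf 475))) (.node (.node (.leaf 191) (.leaf 242)) (.node (.leaf 352) (.leaf 427)))))))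

/-- data -/
def next0_001 : Trie (ℕ) := .node (.node (.node (.node (.node (.node (.node (.leaf 5) (.leaf 358)) (.node (.leaf 60) (.leaf 343))) (.node (.node (.leaf 109) (.leaf 154)) (.node (.leaf 281) (.leaf 286)))) (.node (.node (.node (.leaf 59) (.leaf 131)) (.node (.leaf 126) (.leaf 240))) (.node (.node (.leaf 157) (.leaf 328)) (.node (.leaf 318) (.leaf 504))))) (.node (.node (.node (.node (.leaf 31) (.leaf 373)) (.node (.leaf 220) (.leaf 469))) (.node (.node (.leaf 85) (.leaf 418)) (.node (.leaf 210) (.leaf 503)))) (.node (.node (.node (.leaf 17) (.leaf 142)) (.node (.leaf 70) (.leaf 447))) (.node (.node (.leaf 178) (.leaf 440)) (.node (.leaf 284) (.leaf 511)))))) (.node (.node (.node (.node (.node (.leaf 2) (.leaf 280)) (.node (.leaf 211) (.leaf 419))) (.node (.node (.leaf 122) (.leaf 412)) (.node (.leaf 136) (.leaf 498)))) (.node (.node (.node (.leaf 13) (.leaf 390)) (.node (.leaf 249) (.leaf 316))) (.node (.node (.leaf 39) (.leaf 351)) (.node (.leaf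 329) (.leaf 410))))) (.node (.node (.node (.node (.leaf 45) (.leaf 127)) (.node (.leaf 228) (.leaf 463))) (.node (.node (.leaf 143) (.leaf 413)) (.node (.leaf 307) (.leaf 507)))) (.node (.node (.node (.leaf 97) (.leaf 148)) (.node (.leaf 128) (.leaf 387))) (.node (.node (.leaf 188) (.leaf 398)) (.node (.leaf 110) (.leaf 428))))))) (.node (.node (.node (.node (.node (.node (.leaf 12) (.leaf 361)) (.node (.leaf 206) (.leaf 446))) (.node (.node (.leaf 114) (.leaf 212)) (.node (.leaf 80) (.leaf 349)))) (.node (.node (.node (.leaf 65) (.leaf 339)) (.node (.leaf 243) (.leaf 483))) (.node (.node (.leaf 35) (.leaf 436)) (.node (.leaf 325) (.leaf 399))))) (.node (.node (.node (.node (.leaf 38) (.leaf 376)) (.node (.leaf 189) (.leaf 225))) (.node (.node (.leaf 137) (.leaf 422)) (.node (.leaf 98) (.leaf 444)))) (.node (.node (.node (.leaf 91) (.leaf 378)) (.node (.leaf 264) (.leaf 493))) (.node (.node (.leaf 184) (.leaf 357)) (.node (.leaf 344) (.leaf 452)))))) (.node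 (.node (.node (.node (.node (.leaf 25) (.leaf 121)) (.node (.leaf 216) (.leaf 310))) (.node (.node (.leaf 32) (.leaf 161)) (.node (.leaf 283) (.leaf 500)))) (.node (.node (.node (.leaf 77) (.leaf 302)) (.node (.leaf 247) (.leaf 394))) (.node (.node (.leaf 171) (.leaf 425)) (.node (.leaf 231) (.leaf 397))))) (.node (.node (.node (.node (.leaf 52) (.leaf 382)) (.node (.leaf 233) (.leaf 478))) (.node (.node (.leaf 151) (.leaf 375)) (.node (.leaf 312) (.leaf 335)))) (.node (.node (.node (.leaf 101) (.leaf 408)) (.node (.leaf 275) (.leaf 298))) (.node (.node (.leaf 103) (.leaf 450)) (.node (.leaf 354) (.leaf 510)))))))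

/-- data -/
def next0_010 : Trie (ℕ) := .node (.node (.node (.node (.node (.node (.node (.leaf 3) (.leaf 113)) (.node (.leaf 198) (.leaf 454))) (.node (.node (.leaf 22) (.leaf 267)) (.node (.leaf 279) (.leaf 449)))) (.node (.node (.node (.leaf 57) (.leaf 384)) (.node (.leaf 237) (.leaf 481))) (.node (.node (.leaf 155) (.leaf 431)) (.node (.leaf 317) (.leaf 429))))) (.node (.node (.node (.node (.leaf 29) (.leaf 150)) (.node (.leaf 54) (.leaf 221))) (.node (.node (.leaf 28) (.leaf 255)) (.node (.leaf 202) (.leaf 486)))) (.node (.node (.node (.leaf 83) (.leaf 362)) (.node (.leaf 92) (.leaf 455))) (.node (.node (.leaf 176) (.leaf 288)) (.node (.leaf 105) (.leaf 477)))))) (.node (.node (.node (.node (.node (.leaf 18) (.leaf 365)) (.node (.leaf 51) (.leaf 262))) (.node (.node (.leaf 120) (.leaf 185)) (.node (.leaf 290) (.leaf 442)))) (.node (.node (.node (.leaf 68) (.leaf 389)) (.node (.leaf 66) (.leaf 485))) (.node (.node (.leaf 165) (.leaf 393)) (.node (.leaf 99)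 (.leaf 502))))) (.node (.node (.node (.node (.leaf 7) (.leaf 368)) (.node (.leaf 208) (.leaf 229))) (.node (.node (.leaf 141) (.leaf 423)) (.node (.leaf 308) (.leaf 353)))) (.node (.node (.node (.leaf 19) (.leaf 404)) (.node (.leaf 234) (.leaf 265))) (.node (.node (.leaf 187) (.leaf 448)) (.node (.leaf 348) (.leaf 499))))))) (.node (.node (.node (.node (.node (.node (.leaf 10) (.leaf 115)) (.node (.leaf 49) (.leaf 293))) (.node (.node (.leaf 82) (.leaf 156)) (.node (.leaf 285) (.leaf 432)))) (.node (.node (.node (.leaf 46) (.leaf 297)) (.node (.leaf 241) (.leaf 315))) (.node (.node (.leaf 160) (.leaf 277)) (.node (.leaf 324) (.leaf 366))))) (.node (.node (.node (.node (.leaf 36) (.leaf 374)) (.node (.leaf 224) (.leaf 421))) (.node (.node (.leaf 69) (.leaf 319)) (.node (.leaf 303) (.leaf 480)))) (.node (.node (.node (.leaf 90) (.leaf 199)) (.node (.leaf 263) (.leaf 474))) (.node (.node (.leaf 182) (.leaf 443)) (.node (.leaf 108) (.leaf 501)))))) (.node (.node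 (.node (.node (.node (.leaf 24) (.leaf 367)) (.node (.leaf 215) (.leaf 464))) (.node (.node (.leaf 37) (.leaf 321)) (.node (.leaf 295) (.leaf 466)))) (.node (.node (.node (.leaf 75) (.leaf 138)) (.node (.leaf 253) (.leaf 417))) (.node (.node (.leaf 169) (.leaf 441)) (.node (.leaf 334) (.leaf 360))))) (.node (.node (.node (.node (.leaf 50) (.leaf 381)) (.node (.leaf 214) (.leaf 248))) (.node (.node (.leaf 149) (.leaf 385)) (.node (.leaf 311) (.leaf 456)))) (.node (.node (.node (.leaf 102) (.leaf 406)) (.node (.leaf 273) (.leaf 411))) (.node (.node (.leaf 140) (.leaf 197)) (.node (.leaf 111) (.leaf 505)))))))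

/-- data -/
def next0_011 : Trie (ℕ) := .node (.node (.node (.node (.node (.node (.node (.leaf 0) (.leaf 337)) (.node (.leaf 201) (.leaf 457))) (.node (.node (.leaf 23) (.leaf 400)) (.node (.leaf 282) (.leaf 391)))) (.node (.node (.node (.leaf 61) (.leaf 386)) (.node (.leaf 239) (.leaf 430))) (.node (.node (.leaf 158) (.leaf 222)) (.node (.leaf 320) (.leaf 342))))) (.node (.node (.node (.node (.leaf 33) (.leaf 123)) (.node (.leaf 177) (.leaf 471))) (.node (.node (.leaf 133) (.leaf 204)) (.node (.leaf 301) (.leaf 323)))) (.node (.node (.node (.leaf 86) (.leaf 144)) (.node (.leaf 193) (.leaf 492))) (.node (.node (.leaf 180) (.leaf 377)) (.node (.leaf 107) (.leaf 509)))))) (.node (.node (.node (.node (.node (.leaf 21) (.leaf 333)) (.node (.leaf 213) (.leaf 462))) (.node (.node (.leaf 26) (.leaf 159)) (.node (.leaf 292) (.leaf 304)))) (.node (.node (.node (.leaf 71) (.leaf 392)) (.node (.leaf 250) (.leaf 487))) (.node (.node (.leaf 166) (.leaf 181)) (.node (.leaf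 331) (.leaf 453))))) (.node (.node (.node (.node (.leaf 47) (.leaf 134)) (.node (.leaf 58) (.leaf 372))) (.node (.node (.leaf 145) (.leaf 426)) (.node (.leaf 219) (.leaf 470)))) (.node (.node (.node (.leaf 20) (.leaf 405)) (.node (.leaf 270) (.leaf 274))) (.node (.node (.leaf 190) (.leaf 435)) (.node (.leaf 350) (.leaf 437))))))) (.node (.node (.node (.node (.node (.node (.leaf 14) (.leaf 363)) (.node (.leaf 87) (.leaf 383))) (.node (.node (.leaf 116) (.leaf 207)) (.node (.leaf 287) (.leaf 496)))) (.node (.node (.node (.leaf 64) (.leaf 388)) (.node (.leaf 245) (.leaf 484))) (.node (.node (.leaf 162) (.leaf 364)) (.node (.leaf 232) (.leaf 508))))) (.node (.node (.node (.node (.leaf 40) (.leaf 179)) (.node (.leaf 56) (.leaf 236))) (.node (.node (.leaf 84) (.leaf 291)) (.node (.leaf 89) (.leaf 495)))) (.node (.node (.node (.leaf 78) (.leaf 401)) (.node (.leaf 266) (.leaf 269))) (.node (.node (.leaf 186) (.leaf 251)) (.node (.leaf 340) (.leaf 461)))))) (.node (.node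 (.node (.node (.node (.leaf 6) (.leaf 369)) (.node (.leaf 53) (.leaf 465))) (.node (.node (.leaf 27) (.leaf 414)) (.node (.leaf 296) (.leaf 490)))) (.node (.node (.node (.leaf 79) (.leaf 139)) (.node (.leaf 256) (.leaf 473))) (.node (.node (.leaf 173) (.leaf 439)) (.node (.leaf 336) (.leaf 403))))) (.node (.node (.node (.node (.leaf 9) (.leaf 309)) (.node (.leaf 235) (.leaf 479))) (.node (.node (.leaf 153) (.leaf 305)) (.node (.leaf 314) (.leaf 472)))) (.node (.node (.node (.leaf 104) (.leaf 244)) (.node (.leaf 276) (.leaf 468))) (.node (.node (.leaf 195) (.leaf 451)) (.node (.leaf 259) (.leaf 458)))))))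

/-- data -/
def next0_100 : Trie (ℕ) := .node (.node (.node (.node (.node (.node (.node (.leaf 2) (.leaf 357)) (.node (.leaf 197) (.leaf 453))) (.node (.node (.leaf 107) (.leaf 246)) (.node (.leaf 270) (.leaf 317)))) (.node (.node (.node (.leaf 56) (.leaf 382)) (.node (.leaf 50) (.leaf 480))) (.node (.node (.leaf 154) (.leaf 273)) (.node (.leaf 316) (.leaf 341))))) (.node (.node (.node (.node (.leaf 28) (.leaf 371)) (.node (.leaf 203) (.leaf 145))) (.node (.node (.leaf 130) (.leaf 416)) (.node (.leaf 298) (.leaf 256)))) (.node (.node (.node (.leaf 82) (.leaf 88)) (.node (.leaf 118) (.leaf 224))) (.node (.node (.leaf 175) (.leaf 120)) (.node (.leaf 339) (.leaf 358)))))) (.node (.node (.node (.node (.node (.leaf 17) (.leaf 230)) (.node (.leaf 160) (.leaf 461))) (.node (.node (.leaf 119) (.leaf 165)) (.node (.leaf 47) (.leaf 215)))) (.node (.node (.node (.leaf 36) (.leaf 332)) (.node (.leaf 247) (.leaf 320))) (.node (.node (.leaf 155) (.leaf 114)) (.node (.leaf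 327) (.leaf 508))))) (.node (.node (.node (.node (.leaf 43) (.leaf 378)) (.node (.leaf 112) (.leaf 475))) (.node (.node (.leaf 140) (.leaf 346)) (.node (.leaf 307) (.leaf 506)))) (.node (.node (.node (.leaf 95) (.leaf 403)) (.node (.leaf 268) (.leaf 492))) (.node (.node (.leaf 186) (.leaf 287)) (.node (.leaf 347) (.leaf 389))))))) (.node (.node (.node (.node (.node (.node (.leaf 9) (.leaf 360)) (.node (.leaf 204) (.leaf 458))) (.node (.node (.leaf 113) (.leaf 410)) (.node (.leaf 284) (.leaf 376)))) (.node (.node (.node (.leaf 63) (.leaf 381)) (.node (.leaf 240) (.leaf 164))) (.node (.node (.leaf 159) (.leaf 434)) (.node (.leaf 323) (.leaf 457))))) (.node (.node (.node (.node (.leaf 35) (.leaf 171)) (.node (.leaf 31) (.leaf 166))) (.node (.node (.leaf 16) (.leaf 421)) (.node (.leaf 302) (.leaf 438)))) (.node (.node (.node (.leaf 89) (.leaf 398)) (.node (.leaf 262) (.leaf 301))) (.node (.node (.leaf 79) (.leaf 414)) (.node (.leaf 342) (.leaf 503)))))) (.node (.node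 (.node (.node (.node (.leaf 23) (.leaf 366)) (.node (.leaf 214) (.leaf 422))) (.node (.node (.leaf 126) (.leaf 133)) (.node (.leaf 48) (.leaf 344)))) (.node (.node (.node (.leaf 74) (.leaf 102)) (.node (.leaf 38) (.leaf 462))) (.node (.node (.leaf 168) (.leaf 440)) (.node (.leaf 333) (.leaf 263))))) (.node (.node (.node (.node (.leaf 49) (.leaf 77)) (.node (.leaf 231) (.leaf 477))) (.node (.node (.leaf 148) (.leaf 428)) (.node (.leaf 239) (.leaf 405)))) (.node (.node (.node (.leaf 101) (.leaf 354)) (.node (.leaf 272) (.leaf 356))) (.node (.node (.leaf 192) (.leaf 449)) (.node (.leaf 289) (.leaf 471)))))))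

/-- data -/
def next0_101 : Trie (ℕ) := .node (.node (.node (.node (.node (.node (.node (.leaf 6) (.leaf 68)) (.node (.leaf 200) (.leaf 456))) (.node (.node (.leaf 110) (.leaf 285)) (.node (.leaf 45) (.leaf 388)))) (.node (.node (.node (.leaf 60) (.leaf 385)) (.node (.leaf 238) (.leaf 423))) (.node (.node (.leaf 106) (.leaf 432)) (.node (.leaf 319) (.leaf 365))))) (.node (.node (.node (.node (.leaf 32) (.leaf 278)) (.node (.leaf 221) (.leaf 470))) (.node (.node (.leaf 132) (.leaf 419)) (.node (.leaf 300) (.leaf 218)))) (.node (.node (.node (.leaf 85) (.leaf 397)) (.node (.leaf 259) (.leaf 370))) (.node (.node (.leaf 179) (.leaf 444)) (.node (.leaf 233) (.leaf 511)))))) (.node (.node (.node (.node (.node (.leaf 20) (.leaf 329)) (.node (.leaf 212) (.leaf 441))) (.node (.node (.leaf 123) (.leaf 413)) (.node (.leaf 282) (.leaf 483)))) (.node (.node (.node (.leaf 70) (.leaf 391)) (.node (.leaf 198) (.leaf 486))) (.node (.node (.leaf 33) (.leaf 390)) (.node (.leaf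 330) (.leaf 509))))) (.node (.node (.node (.node (.leaf 46) (.leaf 81)) (.node (.leaf 229) (.leaf 264))) (.node (.node (.leaf 144) (.leaf 425)) (.node (.leaf 309) (.leaf 448)))) (.node (.node (.node (.leaf 98) (.leaf 401)) (.node (.leaf 269) (.leaf 184))) (.node (.node (.leaf 189) (.leaf 125)) (.node (.leaf 349) (.leaf 476))))))) (.node (.node (.node (.node (.node (.node (.leaf 13) (.leaf 362)) (.node (.leaf 207) (.leaf 180))) (.node (.node (.leaf 115) (.leaf 97)) (.node (.leaf 286) (.leaf 392)))) (.node (.node (.node (.leaf 66) (.leaf 387)) (.node (.leaf 244) (.leaf 482))) (.node (.node (.leaf 137) (.leaf 437)) (.node (.leaf 324) (.leaf 445))))) (.node (.node (.node (.node (.leaf 39) (.leaf 122)) (.node (.leaf 225) (.leaf 473))) (.node (.node (.leaf 138) (.leaf 404)) (.node (.leaf 304) (.leaf 497)))) (.node (.node (.node (.leaf 92) (.leaf 400)) (.node (.leaf 265) (.leaf 314))) (.node (.node (.leaf 185) (.leaf 447)) (.node (.leaf 345) (.leaf 303)))))) (.node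 (.node (.node (.node (.node (.leaf 26) (.leaf 75)) (.node (.leaf 217) (.leaf 408))) (.node (.node (.leaf 14) (.leaf 318)) (.node (.leaf 176) (.leaf 501)))) (.node (.node (.node (.leaf 78) (.leaf 86)) (.node (.leaf 255) (.leaf 490))) (.node (.node (.leaf 172) (.leaf 442)) (.node (.leaf 335) (.leaf 361))))) (.node (.node (.node (.node (.leaf 53) (.leaf 109)) (.node (.leaf 234) (.leaf 352))) (.node (.node (.leaf 152) (.leaf 430)) (.node (.leaf 313) (.leaf 467)))) (.node (.node (.node (.leaf 10) (.leaf 295)) (.node (.leaf 201) (.leaf 494))) (.node (.node (.leaf 194) (.leaf 129)) (.node (.leaf 355) (.leaf 369)))))))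

/-- data -/
def next0_110 : Trie (ℕ) := .node (.node (.node (.node (.node (.node (.node (.leaf 4) (.leaf 209)) (.node (.leaf 199) (.leaf 455))) (.node (.node (.leaf 108) (.leaf 178)) (.node (.leaf 280) (.leaf 195)))) (.node (.node (.node (.leaf 58) (.leaf 384)) (.node (.leaf 34) (.leaf 220))) (.node (.node (.leaf 156) (.leaf 409)) (.node (.leaf 55) (.leaf 478))))) (.node (.node (.node (.node (.leaf 30) (.leaf 372)) (.node (.leaf 219) (.leaf 468))) (.node (.node (.leaf 131) (.leaf 417)) (.node (.leaf 299) (.leaf 406)))) (.node (.node (.node (.leaf 84) (.leaf 386)) (.node (.leaf 258) (.leaf 173))) (.node (.node (.leaf 177) (.leaf 443)) (.node (.leaf 157) (.leaf 311)))))) (.node (.node (.node (.node (.node (.leaf 19) (.leaf 312)) (.node (.leaf 210) (.leaf 257))) (.node (.node (.leaf 121) (.leaf 338)) (.node (.leaf 291) (.leaf 363)))) (.node (.node (.node (.leaf 69) (.leaf 83)) (.node (.leaf 248) (.leaf 460))) (.node (.node (.leaf 40) (.leaf 373)) (.node (.leaf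 328) (.leaf 250))))) (.node (.node (.node (.node (.leaf 44) (.leaf 379)) (.node (.leaf 61) (.leaf 261))) (.node (.node (.leaf 142) (.leaf 424)) (.node (.leaf 52) (.leaf 507)))) (.node (.node (.node (.leaf 96) (.leaf 331)) (.node (.leaf 206) (.leaf 436))) (.node (.node (.leaf 141) (.leaf 223)) (.node (.leaf 290) (.leaf 488))))))) (.node (.node (.node (.node (.node (.node (.leaf 11) (.leaf 253)) (.node (.leaf 205) (.leaf 459))) (.node (.node (.leaf 12) (.leaf 411)) (.node (.leaf 116) (.leaf 252)))) (.node (.node (.node (.leaf 64) (.leaf 90)) (.node (.leaf 242) (.leaf 167))) (.node (.node (.leaf 161) (.leaf 435)) (.node (.leaf 57) (.leaf 426))))) (.node (.node (.node (.node (.leaf 37) (.leaf 375)) (.node (.leaf 190) (.leaf 472))) (.node (.node (.leaf 136) (.leaf 336)) (.node (.leaf 73) (.leaf 504)))) (.node (.node (.node (.leaf 8) (.leaf 399)) (.node (.leaf 42) (.leaf 487))) (.node (.node (.leaf 183) (.leaf 446)) (.node (.leaf 343) (.leaf 348)))))) (.node (.node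 (.node (.node (.node (.leaf 0) (.leaf 368)) (.node (.leaf 213) (.leaf 322))) (.node (.node (.leaf 127) (.leaf 100)) (.node (.leaf 296) (.leaf 499)))) (.node (.node (.node (.leaf 76) (.leaf 394)) (.node (.leaf 254) (.leaf 489))) (.node (.node (.leaf 170) (.leaf 396)) (.node (.leaf 191) (.leaf 374))))) (.node (.node (.node (.node (.leaf 51) (.leaf 306)) (.node (.leaf 232) (.leaf 158))) (.node (.node (.leaf 150) (.leaf 429)) (.node (.leaf 235) (.leaf 479)))) (.node (.node (.node (.leaf 103) (.leaf 407)) (.node (.leaf 274) (.leaf 485))) (.node (.node (.leaf 193) (.leaf 143)) (.node (.leaf 353) (.leaf 350)))))))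

/-- data -/
def next0_111 : Trie (ℕ) := .node (.node (.node (.node (.node (.node (.node (.leaf 7) (.leaf 227)) (.node (.leaf 202) (.leaf 245))) (.node (.node (.leaf 111) (.leaf 216)) (.node (.leaf 283) (.leaf 481)))) (.node (.node (.node (.leaf 62) (.leaf 149)) (.node (.leaf 153) (.leaf 266))) (.node (.node (.leaf 104) (.leaf 433)) (.node (.leaf 321) (.leaf 450))))) (.node (.node (.node (.node (.leaf 1) (.leaf 151)) (.node (.leaf 222) (.leaf 182))) (.node (.node (.leaf 134) (.leaf 420)) (.node (.leaf 292) (.leaf 451)))) (.node (.node (.node (.leaf 87) (.leaf 228)) (.node (.leaf 260) (.leaf 464))) (.node (.node (.leaf 181) (.leaf 359)) (.node (.leaf 340) (.leaf 454)))))) (.node (.node (.node (.node (.node (.leaf 22) (.leaf 71)) (.node (.leaf 29) (.leaf 463))) (.node (.node (.leaf 124) (.leaf 147)) (.node (.leaf 293) (.leaf 469)))) (.node (.node (.node (.leaf 72) (.leaf 393)) (.node (.leaf 251) (.leaf 169))) (.node (.node (.leaf 21) (.leaf 439)) (.node (.leaf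 91) (.leaf 510))))) (.node (.node (.node (.node (.leaf 3) (.leaf 380)) (.node (.leaf 59) (.leaf 187))) (.node (.node (.leaf 146) (.leaf 427)) (.node (.leaf 310) (.leaf 308)))) (.node (.node (.node (.leaf 99) (.leaf 279)) (.node (.leaf 271) (.leaf 491))) (.node (.node (.leaf 25) (.leaf 418)) (.node (.leaf 351) (.leaf 465))))))) (.node (.node (.node (.node (.node (.node (.leaf 15) (.leaf 364)) (.node (.leaf 208) (.leaf 135))) (.node (.node (.leaf 117) (.leaf 241)) (.node (.leaf 288) (.leaf 249)))) (.node (.node (.node (.leaf 5) (.leaf 367)) (.node (.leaf 243) (.leaf 281))) (.node (.node (.leaf 163) (.leaf 188)) (.node (.leaf 326) (.leaf 496))))) (.node (.node (.node (.node (.leaf 41) (.leaf 377)) (.node (.leaf 226) (.leaf 474))) (.node (.node (.leaf 139) (.leaf 294)) (.node (.leaf 305) (.leaf 505)))) (.node (.node (.node (.leaf 93) (.leaf 402)) (.node (.leaf 267) (.leaf 484))) (.node (.node (.leaf 24) (.leaf 237)) (.node (.leaf 65) (.leaf 498)))))) (.node (.node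 (.node (.node (.node (.leaf 27) (.leaf 325)) (.node (.leaf 211) (.leaf 466))) (.node (.node (.leaf 128) (.leaf 415)) (.node (.leaf 297) (.leaf 502)))) (.node (.node (.node (.leaf 80) (.leaf 395)) (.node (.leaf 94) (.leaf 412))) (.node (.node (.leaf 174) (.leaf 334)) (.node (.leaf 337) (.leaf 493))))) (.node (.node (.node (.node (.leaf 54) (.leaf 383)) (.node (.leaf 236) (.leaf 162))) (.node (.node (.leaf 18) (.leaf 276)) (.node (.leaf 315) (.leaf 431)))) (.node (.node (.node (.leaf 105) (.leaf 275)) (.node (.leaf 277) (.leaf 495))) (.node (.node (.leaf 196) (.leaf 452)) (.node (.leaf 67) (.leaf 500)))))))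

/-- data -/
def next0 : Trie (ℕ) := .node (.node (.node (next0_000) (next0_001)) (.node (next0_010) (next0_011))) (.node (.node (next0_100) (next0_101)) (.node (next0_110) (next0_111)))

/-- data -/
def prev0_000 : Trie (ℕ) := .node (.node (.node (.node (.node (.node (.node (.leaf 3) (.leaf 175)) (.node (.leaf 186) (.leaf 289))) (.node (.node (.leaf 39) (.leaf 227)) (.node (.leaf 376) (.leaf 377)))) (.node (.node (.node (.leaf 78) (.leaf 369)) (.node (.leaf 101) (.leaf 404))) (.node (.node (.leaf 220) (.leaf 252)) (.node (.leaf 149) (.leaf 469))))) (.node (.node (.node (.node (.leaf 8) (.leaf 440)) (.node (.leaf 307) (.leaf 323))) (.node (.node (.leaf 198) (.leaf 239)) (.node (.leaf 153) (.leaf 397)))) (.node (.node (.node (.leaf 28) (.leaf 459)) (.node (.leaf 113) (.leaf 453))) (.node (.node (.leaf 68) (.leaf 281)) (.node (.leaf 418) (.leaf 455)))))) (.node (.node (.node (.node (.node (.leaf 4) (.leaf 182)) (.node (.leaf 202) (.leaf 299))) (.node (.node (.leaf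 184) (.leaf 354)) (.node (.leaf 384) (.leaf 477)))) (.node (.node (.node (.leaf 23) (.leaf 207)) (.node (.leaf 344) (.leaf 424))) (.node (.node (.leaf 63) (.leaf 493)) (.node (.leaf 231) (.leaf 428))))) (.node (.node (.node (.node (.leaf 13) (.leaf 266)) (.node (.leaf 320) (.leaf 318))) (.node (.node (.leaf 52) (.leaf 246)) (.node (.leaf 142) (.leaf 479)))) (.node (.node (.node (.leaf 151) (.leaf 222)) (.node (.leaf 118) (.leaf 370))) (.node (.node (.leaf 73) (.leaf 278)) (.node (.leaf 413) (.leaf 482))))))) (.node (.node (.node (.node (.node (.node (.leaf 16) (.leaf 364)) (.node (.leaf 292) (.leaf 295))) (.node (.node (.leaf 41) (.leaf 229)) (.node (.leaf 196) (.leaf 502)))) (.node (.node (.node (.leaf 21) (.leaf 203)) (.node (.leaf 104) (.leaf 504))) (.node (.node (.leaf 60) (.leaf 256)) (.node (.leaf 154) (.leaf 423))))) (.node (.node (.node (.node (.leaf 59) (.leaf 191)) (.node (.leaf 314) (.leaf 313))) (.node (.node (.leaf 87) (.leaf 247)) (.node (.leaf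 326) (.leaf 447)))) (.node (.node (.node (.leaf 30) (.leaf 217)) (.node (.leaf 115) (.leaf 358))) (.node (.node (.leaf 71) (.leaf 411)) (.node (.leaf 319) (.leaf 462)))))) (.node (.node (.node (.node (.node (.leaf 6) (.leaf 308)) (.node (.leaf 125) (.leaf 304))) (.node (.node (.leaf 140) (.leaf 236)) (.node (.leaf 339) (.leaf 392)))) (.node (.node (.node (.leaf 120) (.leaf 212)) (.node (.leaf 352) (.leaf 506))) (.node (.node (.leaf 245) (.leaf 359)) (.node (.leaf 407) (.leaf 435))))) (.node (.node (.node (.node (.leaf 81) (.leaf 242)) (.node (.leaf 325) (.leaf 330))) (.node (.node (.leaf 177) (.leaf 249)) (.node (.leaf 146) (.leaf 412)))) (.node (.node (.node (.leaf 130) (.leaf 426)) (.node (.leaf 122) (.leaf 470))) (.node (.node (.leaf 276) (.leaf 284)) (.node (.leaf 172) (.leaf 487)))))))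

/-- data -/
def prev0_001 : Trie (ℕ) := .node (.node (.node (.node (.node (.node (.node (.leaf 10) (.leaf 436)) (.node (.leaf 100) (.leaf 291))) (.node (.node (.leaf 169) (.leaf 228)) (.node (.leaf 368) (.leaf 382)))) (.node (.node (.node (.leaf 20) (.leaf 201)) (.node (.leaf 103) (.leaf 338))) (.node (.node (.leaf 214) (.leaf 254)) (.node (.leaf 408) (.leaf 420))))) (.node (.node (.node (.node (.leaf 9) (.leaf 443)) (.node (.leaf 96) (.leaf 480))) (.node (.node (.leaf 69) (.leaf 240)) (.node (.leaf 210) (.leaf 461)))) (.node (.node (.node (.leaf 29) (.leaf 216)) (.node (.leaf 114) (.leaf 468))) (.node (.node (.leaf 70) (.leaf 272)) (.node (.leaf 380) (.leaf 458)))))) (.node (.node (.node (.node (.node (.leaf 5) (.leaf 183)) (.node (.leaf 301) (.leaf 430))) (.node (.node (.leaf 188) (.leaf 476)) (.node (.leaf 209) (.leaf 511)))) (.node (.node (.node (.leaf 24) (.leaf 446)) (.node (.leaf 348) (.leaf 347))) (.node (.node (.leaf 64) (.leaf 305)) (.node (.leaf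 185) (.leaf 463))))) (.node (.node (.node (.node (.leaf 75) (.leaf 195)) (.node (.leaf 322) (.leaf 490))) (.node (.node (.leaf 53) (.leaf 248)) (.node (.leaf 144) (.leaf 437)))) (.node (.node (.node (.leaf 155) (.leaf 223)) (.node (.leaf 119) (.leaf 457))) (.node (.node (.leaf 74) (.leaf 310)) (.node (.leaf 171) (.leaf 488))))))) (.node (.node (.node (.node (.node (.node (.leaf 15) (.leaf 393)) (.node (.leaf 283) (.leaf 298))) (.node (.node (.leaf 178) (.leaf 300)) (.node (.leaf 129) (.leaf 385)))) (.node (.node (.node (.leaf 22) (.leaf 204)) (.node (.leaf 107) (.leaf 342))) (.node (.node (.leaf 61) (.leaf 258)) (.node (.leaf 156) (.leaf 465))))) (.node (.node (.node (.node (.leaf 65) (.leaf 192)) (.node (.leaf 273) (.leaf 317))) (.node (.node (.leaf 51) (.leaf 483)) (.node (.leaf 157) (.leaf 475)))) (.node (.node (.node (.leaf 145) (.leaf 398)) (.node (.leaf 117) (.leaf 360))) (.node (.node (.leaf 72) (.leaf 277)) (.node (.leaf 168) (.leaf 489)))))) (.node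 (.node (.node (.node (.node (.leaf 7) (.leaf 187)) (.node (.leaf 306) (.leaf 378))) (.node (.node (.leaf 55) (.leaf 237)) (.node (.leaf 134) (.leaf 395)))) (.node (.node (.node (.leaf 37) (.leaf 302)) (.node (.leaf 340) (.leaf 419))) (.node (.node (.leaf 250) (.leaf 485)) (.node (.leaf 232) (.leaf 464))))) (.node (.node (.node (.node (.leaf 88) (.leaf 450)) (.node (.leaf 99) (.leaf 335))) (.node (.node (.leaf 56) (.leaf 251)) (.node (.leaf 355) (.leaf 414)))) (.node (.node (.node (.leaf 160) (.leaf 226)) (.node (.leaf 123) (.leaf 390))) (.node (.node (.leaf 162) (.leaf 286)) (.node (.leaf 328) (.leaf 510)))))))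

/-- data -/
def prev0_010 : Trie (ℕ) := .node (.node (.node (.node (.node (.node (.node (.leaf 0) (.leaf 176)) (.node (.leaf 80) (.leaf 349))) (.node (.node (.leaf 38) (.leaf 333)) (.node (.leaf 179) (.leaf 449)))) (.node (.node (.node (.leaf 19) (.leaf 200)) (.node (.leaf 334) (.leaf 429))) (.node (.node (.leaf 58) (.leaf 473)) (.node (.leaf 406) (.leaf 417))))) (.node (.node (.node (.node (.leaf 50) (.leaf 189)) (.node (.leaf 91) (.leaf 311))) (.node (.node (.leaf 48) (.leaf 259)) (.node (.leaf 136) (.leaf 399)))) (.node (.node (.node (.leaf 133) (.leaf 351)) (.node (.leaf 147) (.leaf 496))) (.node (.node (.leaf 257) (.leaf 271)) (.node (.leaf 165) (.leaf 456)))))) (.node (.node (.node (.node (.node (.leaf 31) (.leaf 441)) (.node (.leaf 86) (.leaf 361))) (.node (.node (.leaf 44) (.leaf 234)) (.node (.leaf 131) (.leaf 387)))) (.node (.node (.node (.leaf 112) (.leaf 293)) (.node (.leaf 109) (.leaf 366))) (.node (.node (.leaf 241) (.leaf 262)) (.node (.leaf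 158) (.leaf 452))))) (.node (.node (.node (.node (.leaf 14) (.leaf 194)) (.node (.leaf 95) (.leaf 324))) (.node (.node (.leaf 215) (.leaf 484)) (.node (.leaf 268) (.leaf 431)))) (.node (.node (.node (.leaf 33) (.leaf 416)) (.node (.leaf 329) (.leaf 365))) (.node (.node (.leaf 270) (.leaf 371)) (.node (.leaf 170) (.leaf 509))))))) (.node (.node (.node (.node (.node (.node (.leaf 2) (.leaf 180)) (.node (.leaf 83) (.leaf 297))) (.node (.node (.leaf 85) (.leaf 230)) (.node (.leaf 381) (.leaf 491)))) (.node (.node (.node (.leaf 77) (.leaf 389)) (.node (.leaf 105) (.leaf 405))) (.node (.node (.leaf 62) (.leaf 374)) (.node (.leaf 409) (.leaf 425))))) (.node (.node (.node (.node (.leaf 11) (.leaf 357)) (.node (.leaf 93) (.leaf 315))) (.node (.node (.leaf 82) (.leaf 244)) (.node (.leaf 139) (.leaf 402)))) (.node (.node (.node (.leaf 143) (.leaf 287)) (.node (.leaf 363) (.leaf 507))) (.node (.node (.leaf 264) (.leaf 274)) (.node (.leaf 167) (.leaf 501)))))) (.node (.node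 (.node (.node (.node (.leaf 42) (.leaf 439)) (.node (.leaf 89) (.leaf 494))) (.node (.node (.leaf 46) (.leaf 267)) (.node (.leaf 388) (.leaf 503)))) (.node (.node (.node (.leaf 26) (.leaf 211)) (.node (.leaf 111) (.leaf 481))) (.node (.node (.leaf 66) (.leaf 265)) (.node (.leaf 161) (.leaf 438))))) (.node (.node (.node (.node (.leaf 17) (.leaf 197)) (.node (.leaf 98) (.leaf 346))) (.node (.node (.leaf 224) (.leaf 454)) (.node (.leaf 401) (.leaf 497)))) (.node (.node (.node (.leaf 35) (.leaf 225)) (.node (.leaf 150) (.leaf 372))) (.node (.node (.leaf 76) (.leaf 285)) (.node (.leaf 173) (.leaf 499)))))))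

/-- data -/
def prev0_011 : Trie (ℕ) := .node (.node (.node (.node (.node (.node (.node (.leaf 1) (.leaf 255)) (.node (.leaf 290) (.leaf 442))) (.node (.node (.leaf 40) (.leaf 467)) (.node (.leaf 127) (.leaf 383)))) (.node (.node (.node (.leaf 102) (.leaf 343)) (.node (.leaf 336) (.leaf 394))) (.node (.node (.leaf 233) (.leaf 312)) (.node (.leaf 152) (.leaf 422))))) (.node (.node (.node (.node (.leaf 57) (.leaf 190)) (.node (.leaf 92) (.leaf 495))) (.node (.node (.leaf 49) (.leaf 294)) (.node (.leaf 138) (.leaf 400)))) (.node (.node (.node (.leaf 137) (.leaf 218)) (.node (.leaf 279) (.leaf 379))) (.node (.node (.leaf 261) (.leaf 448)) (.node (.leaf 166) (.leaf 505)))))) (.node (.node (.node (.node (.node (.leaf 36) (.leaf 321)) (.node (.leaf 303) (.leaf 500))) (.node (.node (.leaf 45) (.leaf 235)) (.node (.leaf 132) (.leaf 396)))) (.node (.node (.node (.leaf 116) (.leaf 460)) (.node (.leaf 110) (.leaf 508))) (.node (.node (.leaf 243) (.leaf 263)) (.node (.leaf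 159) (.leaf 432))))) (.node (.node (.node (.node (.leaf 79) (.leaf 206)) (.node (.leaf 97) (.leaf 445))) (.node (.node (.leaf 54) (.leaf 316)) (.node (.leaf 219) (.leaf 444)))) (.node (.node (.node (.leaf 34) (.leaf 421)) (.node (.leaf 121) (.leaf 373))) (.node (.node (.leaf 275) (.leaf 492)) (.node (.leaf 375) (.leaf 474))))))) (.node (.node (.node (.node (.node (.node (.leaf 25) (.leaf 181)) (.node (.leaf 84) (.leaf 451))) (.node (.node (.leaf 43) (.leaf 296)) (.node (.leaf 309) (.leaf 433)))) (.node (.node (.node (.leaf 106) (.leaf 205)) (.node (.leaf 108) (.leaf 345))) (.node (.node (.leaf 126) (.leaf 260)) (.node (.leaf 238) (.leaf 427))))) (.node (.node (.node (.node (.leaf 67) (.leaf 193)) (.node (.leaf 94) (.leaf 332))) (.node (.node (.leaf 135) (.leaf 386)) (.node (.leaf 141) (.leaf 403)))) (.node (.node (.node (.leaf 32) (.leaf 221)) (.node (.leaf 280) (.leaf 367))) (.node (.node (.leaf 128) (.leaf 350)) (.node (.leaf 174) (.leaf 466)))))) (.node (.node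 (.node (.node (.node (.leaf 12) (.leaf 288)) (.node (.leaf 90) (.leaf 486))) (.node (.node (.leaf 47) (.leaf 478)) (.node (.leaf 327) (.leaf 410)))) (.node (.node (.node (.leaf 27) (.leaf 213)) (.node (.leaf 356) (.leaf 353))) (.node (.node (.leaf 253) (.leaf 269)) (.node (.leaf 163) (.leaf 471))))) (.node (.node (.node (.node (.leaf 18) (.leaf 199)) (.node (.leaf 331) (.leaf 472))) (.node (.node (.leaf 208) (.leaf 362)) (.node (.leaf 148) (.leaf 415)))) (.node (.node (.node (.leaf 164) (.leaf 341)) (.node (.leaf 124) (.leaf 434))) (.node (.node (.leaf 282) (.leaf 391)) (.node (.leaf 337) (.leaf 498)))))))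

/-- data -/
def prev0_100 : Trie (ℕ) := .node (.node (.node (.node (.node (.node (.node (.leaf 13) (.leaf 464)) (.node (.leaf 79) (.leaf 289))) (.node (.node (.leaf 37) (.leaf 424)) (.node (.leaf 124) (.leaf 474)))) (.node (.node (.node (.leaf 18) (.leaf 199)) (.node (.leaf 136) (.leaf 336))) (.node (.node (.leaf 57) (.leaf 414)) (.node (.leaf 432) (.leaf 416))))) (.node (.node (.node (.node (.leaf 84) (.leaf 188)) (.node (.leaf 90) (.leaf 310))) (.node (.node (.leaf 47) (.leaf 341)) (.node (.leaf 135) (.leaf 435)))) (.node (.node (.node (.leaf 204) (.leaf 214)) (.node (.leaf 206) (.leaf 354))) (.node (.node (.leaf 152) (.leaf 269)) (.node (.leaf 164) (.leaf 487)))))) (.node (.node (.node (.node (.node (.leaf 53) (.leaf 410)) (.node (.leaf 85) (.leaf 454))) (.node (.node (.leaf 43) (.leaf 233)) (.node (.leaf 130) (.leaf 386)))) (.node (.node (.node (.leaf 105) (.leaf 205)) (.node (.leaf 108) (.leaf 345))) (.node (.node (.leaf 99) (.leaf 260)) (.node (.leaf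 157) (.leaf 505))))) (.node (.node (.node (.node (.leaf 119) (.leaf 193)) (.node (.leaf 94) (.leaf 398))) (.node (.node (.leaf 304) (.leaf 460)) (.node (.leaf 323) (.leaf 405)))) (.node (.node (.node (.leaf 32) (.leaf 265)) (.node (.leaf 442) (.leaf 364))) (.node (.node (.leaf 368) (.leaf 452)) (.node (.leaf 169) (.leaf 469))))))) (.node (.node (.node (.node (.node (.node (.leaf 1) (.leaf 179)) (.node (.leaf 82) (.leaf 450))) (.node (.node (.leaf 258) (.leaf 230)) (.node (.leaf 127) (.leaf 383)))) (.node (.node (.node (.leaf 40) (.leaf 211)) (.node (.leaf 420) (.leaf 339))) (.node (.node (.leaf 333) (.leaf 444)) (.node (.leaf 307) (.leaf 439))))) (.node (.node (.node (.node (.leaf 10) (.leaf 351)) (.node (.leaf 92) (.leaf 342))) (.node (.node (.leaf 49) (.leaf 243)) (.node (.leaf 138) (.leaf 401)))) (.node (.node (.node (.leaf 217) (.leaf 475)) (.node (.leaf 390) (.leaf 441))) (.node (.node (.leaf 197) (.leaf 273)) (.node (.leaf 166) (.leaf 511)))))) (.node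 (.node (.node (.node (.node (.leaf 69) (.leaf 184)) (.node (.leaf 88) (.leaf 365))) (.node (.node (.leaf 45) (.leaf 296)) (.node (.leaf 132) (.leaf 425)))) (.node (.node (.node (.leaf 25) (.leaf 210)) (.node (.leaf 110) (.leaf 348))) (.node (.node (.leaf 65) (.leaf 263)) (.node (.leaf 159) (.leaf 440))))) (.node (.node (.node (.node (.leaf 16) (.leaf 196)) (.node (.leaf 97) (.leaf 431))) (.node (.node (.leaf 54) (.leaf 501)) (.node (.leaf 417) (.leaf 506)))) (.node (.node (.node (.leaf 34) (.leaf 224)) (.node (.leaf 359) (.leaf 370))) (.node (.node (.leaf 75) (.leaf 283)) (.node (.leaf 453) (.leaf 488)))))))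

/-- data -/
def prev0_101 : Trie (ℕ) := .node (.node (.node (.node (.node (.node (.node (.leaf 0) (.leaf 177)) (.node (.leaf 80) (.leaf 305))) (.node (.node (.leaf 38) (.leaf 397)) (.node (.leaf 126) (.leaf 483)))) (.node (.node (.node (.leaf 161) (.leaf 249)) (.node (.leaf 415) (.leaf 379))) (.node (.node (.leaf 58) (.leaf 316)) (.node (.leaf 151) (.leaf 422))))) (.node (.node (.node (.node (.leaf 95) (.leaf 189)) (.node (.leaf 91) (.leaf 311))) (.node (.node (.leaf 48) (.leaf 329)) (.node (.leaf 137) (.leaf 399)))) (.node (.node (.node (.leaf 160) (.leaf 285)) (.node (.leaf 321) (.leaf 356))) (.node (.node (.leaf 360) (.leaf 434)) (.node (.leaf 165) (.leaf 503)))))) (.node (.node (.node (.node (.node (.leaf 62) (.leaf 419)) (.node (.leaf 86) (.leaf 301))) (.node (.node (.leaf 44) (.leaf 234)) (.node (.leaf 131) (.leaf 388)))) (.node (.node (.node (.leaf 181) (.leaf 208)) (.node (.leaf 109) (.leaf 485))) (.node (.node (.leaf 98) (.leaf 262)) (.node (.leaf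 158) (.leaf 430))))) (.node (.node (.node (.node (.leaf 14) (.leaf 202)) (.node (.leaf 96) (.leaf 324))) (.node (.node (.leaf 293) (.leaf 344)) (.node (.leaf 466) (.leaf 407)))) (.node (.node (.node (.leaf 33) (.leaf 438)) (.node (.leaf 120) (.leaf 366))) (.node (.node (.leaf 278) (.leaf 280)) (.node (.leaf 489) (.leaf 472))))))) (.node (.node (.node (.node (.node (.node (.leaf 2) (.leaf 180)) (.node (.leaf 83) (.leaf 362))) (.node (.node (.leaf 42) (.leaf 231)) (.node (.leaf 170) (.leaf 499)))) (.node (.node (.node (.leaf 172) (.leaf 343)) (.node (.leaf 404) (.leaf 396))) (.node (.node (.leaf 300) (.leaf 496)) (.node (.leaf 264) (.leaf 426))))) (.node (.node (.node (.node (.leaf 11) (.leaf 274)) (.node (.leaf 93) (.leaf 465))) (.node (.node (.leaf 302) (.leaf 244)) (.node (.leaf 140) (.leaf 402)))) (.node (.node (.node (.leaf 31) (.leaf 219)) (.node (.leaf 403) (.leaf 468))) (.node (.node (.leaf 176) (.leaf 493)) (.node (.leaf 320) (.leaf 463)))))) (.node (.node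 (.node (.node (.node (.leaf 78) (.leaf 192)) (.node (.leaf 89) (.leaf 308))) (.node (.node (.leaf 46) (.leaf 367)) (.node (.leaf 185) (.leaf 428)))) (.node (.node (.node (.leaf 26) (.leaf 212)) (.node (.leaf 111) (.leaf 350))) (.node (.node (.leaf 66) (.leaf 268)) (.node (.leaf 162) (.leaf 446))))) (.node (.node (.node (.node (.leaf 17) (.leaf 198)) (.node (.leaf 413) (.leaf 372))) (.node (.node (.leaf 175) (.leaf 509)) (.node (.leaf 147) (.leaf 481)))) (.node (.node (.node (.leaf 35) (.leaf 334)) (.node (.leaf 149) (.leaf 373))) (.node (.node (.leaf 76) (.leaf 288)) (.node (.leaf 173) (.leaf 491)))))))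

/-- data -/
def prev0_110 : Trie (ℕ) := .node (.node (.node (.node (.node (.node (.node (.leaf 19) (.leaf 393)) (.node (.leaf 382) (.leaf 290))) (.node (.node (.leaf 247) (.leaf 227)) (.node (.leaf 125) (.leaf 380)))) (.node (.node (.node (.leaf 106) (.leaf 252)) (.node (.leaf 101) (.leaf 337))) (.node (.node (.leaf 326) (.leaf 253)) (.node (.leaf 150) (.leaf 451))))) (.node (.node (.node (.node (.leaf 8) (.leaf 352)) (.node (.leaf 400) (.leaf 314))) (.node (.node (.leaf 282) (.leaf 239)) (.node (.leaf 257) (.leaf 507)))) (.node (.node (.node (.leaf 28) (.leaf 215)) (.node (.leaf 113) (.leaf 355))) (.node (.node (.leaf 68) (.leaf 510)) (.node (.leaf 327) (.leaf 470)))))) (.node (.node (.node (.node (.node (.leaf 4) (.leaf 182)) (.node (.leaf 102) (.leaf 299))) (.node (.node (.leaf 213) (.leaf 266)) (.node (.leaf 190) (.leaf 484)))) (.node (.node (.node (.leaf 23) (.leaf 207)) (.node (.leaf 427) (.leaf 346))) (.node (.node (.leaf 63) (.leaf 494)) (.node (.leaf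 242) (.leaf 429))))) (.node (.node (.node (.node (.leaf 123) (.leaf 423)) (.node (.leaf 163) (.leaf 353))) (.node (.node (.leaf 52) (.leaf 246)) (.node (.leaf 142) (.leaf 406)))) (.node (.node (.node (.leaf 229) (.leaf 222)) (.node (.leaf 118) (.leaf 394))) (.node (.node (.leaf 73) (.leaf 279)) (.node (.leaf 455) (.leaf 471))))))) (.node (.node (.node (.node (.node (.node (.leaf 39) (.leaf 409)) (.node (.leaf 332) (.leaf 504))) (.node (.node (.leaf 41) (.leaf 271)) (.node (.leaf 128) (.leaf 384)))) (.node (.node (.node (.leaf 21) (.leaf 203)) (.node (.leaf 328) (.leaf 340))) (.node (.node (.leaf 60) (.leaf 256)) (.node (.leaf 154) (.leaf 445))))) (.node (.node (.node (.node (.leaf 107) (.leaf 191)) (.node (.leaf 291) (.leaf 476))) (.node (.node (.leaf 50) (.leaf 480)) (.node (.leaf 141) (.leaf 459)))) (.node (.node (.node (.leaf 30) (.leaf 218)) (.node (.leaf 115) (.leaf 358))) (.node (.node (.leaf 71) (.leaf 361)) (.node (.leaf 387) (.leaf 462)))))) (.node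 (.node (.node (.node (.node (.leaf 6) (.leaf 186)) (.node (.leaf 121) (.leaf 306))) (.node (.node (.leaf 284) (.leaf 236)) (.node (.leaf 133) (.leaf 392)))) (.node (.node (.node (.leaf 194) (.leaf 436)) (.node (.leaf 433) (.leaf 349))) (.node (.node (.leaf 286) (.leaf 482)) (.node (.leaf 375) (.leaf 495))))) (.node (.node (.node (.node (.leaf 139) (.leaf 322)) (.node (.leaf 241) (.leaf 330))) (.node (.node (.leaf 55) (.leaf 250)) (.node (.leaf 146) (.leaf 412)))) (.node (.node (.node (.leaf 153) (.leaf 448)) (.node (.leaf 122) (.leaf 486))) (.node (.node (.leaf 378) (.leaf 292)) (.node (.leaf 261) (.leaf 490)))))))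

/-- data -/
def prev0_111 : Trie (ℕ) := .node (.node (.node (.node (.node (.node (.node (.leaf 27) (.leaf 178)) (.node (.leaf 81) (.leaf 294))) (.node (.node (.leaf 255) (.leaf 228)) (.node (.leaf 449) (.leaf 467)))) (.node (.node (.node (.leaf 20) (.leaf 201)) (.node (.leaf 103) (.leaf 338))) (.node (.node (.leaf 59) (.leaf 254)) (.node (.leaf 259) (.leaf 458))))) (.node (.node (.node (.node (.leaf 9) (.leaf 319)) (.node (.leaf 331) (.leaf 312))) (.node (.node (.leaf 297) (.leaf 240)) (.node (.leaf 143) (.leaf 478)))) (.node (.node (.node (.leaf 29) (.leaf 216)) (.node (.leaf 114) (.leaf 357))) (.node (.node (.leaf 70) (.leaf 272)) (.node (.leaf 167) (.leaf 461)))))) (.node (.node (.node (.node (.node (.leaf 5) (.leaf 183)) (.node (.leaf 87) (.leaf 303))) (.node (.node (.leaf 270) (.leaf 313)) (.node (.leaf 144) (.leaf 389)))) (.node (.node (.node (.leaf 24) (.leaf 209)) (.node (.leaf 276) (.leaf 347))) (.node (.node (.leaf 64) (.leaf 457)) (.node (.leaf 221)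 (.leaf 443))))) (.node (.node (.node (.node (.leaf 15) (.leaf 195)) (.node (.leaf 104) (.leaf 325))) (.node (.node (.leaf 235) (.leaf 248)) (.node (.leaf 145) (.leaf 408)))) (.node (.node (.node (.leaf 155) (.leaf 223)) (.node (.leaf 411) (.leaf 369))) (.node (.node (.leaf 74) (.leaf 281)) (.node (.leaf 171) (.leaf 473))))))) (.node (.node (.node (.node (.node (.node (.leaf 3) (.leaf 492)) (.node (.leaf 391) (.leaf 298))) (.node (.node (.leaf 267) (.leaf 232)) (.node (.leaf 129) (.leaf 385)))) (.node (.node (.node (.leaf 22) (.leaf 318)) (.node (.leaf 421) (.leaf 418))) (.node (.node (.leaf 61) (.leaf 371)) (.node (.leaf 156) (.leaf 437))))) (.node (.node (.node (.node (.leaf 12) (.leaf 315)) (.node (.leaf 275) (.leaf 317))) (.node (.node (.leaf 51) (.leaf 245)) (.node (.leaf 456) (.leaf 508)))) (.node (.node (.node (.leaf 225) (.leaf 497)) (.node (.leaf 117) (.leaf 363))) (.node (.node (.leaf 72) (.leaf 277)) (.node (.leaf 168) (.leaf 500)))))) (.node (.node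 (.node (.node (.node (.leaf 7) (.leaf 187)) (.node (.leaf 381) (.leaf 309))) (.node (.node (.leaf 116) (.leaf 238)) (.node (.leaf 134) (.leaf 395)))) (.node (.node (.node (.leaf 200) (.leaf 502)) (.node (.leaf 112) (.leaf 479))) (.node (.node (.leaf 67) (.leaf 295)) (.node (.leaf 220) (.leaf 447))))) (.node (.node (.node (.node (.leaf 148) (.leaf 376)) (.node (.leaf 100) (.leaf 335))) (.node (.node (.leaf 56) (.leaf 251)) (.node (.leaf 377) (.leaf 477)))) (.node (.node (.node (.leaf 36) (.leaf 226)) (.node (.leaf 237) (.leaf 374))) (.node (.node (.leaf 77) (.leaf 287)) (.node (.leaf 174) (.leaf 498)))))))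

/-- data -/
def prev0 : Trie (ℕ) := .node (.node (.node (prev0_000) (prev0_001)) (.node (prev0_010) (prev0_011))) (.node (.node (prev0_100) (prev0_101)) (.node (prev0_110) (prev0_111)))

/-- data -/
def lab0_00000 : Trie (Word) := .node (.node (.node (.node (.node (.leaf ([])) (.leaf ([]))) (.node (.leaf ([(0, false), (1, false), (1, false), (0, false), (1, true), (1, true), (0, true), (0, true), (1, false), (1, false), (1, false), (0, true), (0, true)])) (.leaf ([])))) (.node (.node (.leaf ([])) (.leaf ([]))) (.node (.leaf ([])) (.leaf ([(1, true), (0, false), (1, true), (0, false), (1, true), (1, true), (0, true), (1, true), (0, true), (1, false), (0, false), (1, true), (1, true)]))))) (.node (.node (.node (.leaf ([])) (.leaf ([(0, true), (0, true), (1, true), (0, true), (0, true), (1, false), (1, false), (0, true), (1, true), (1, true), (0, false), (1, true)]))) (.node (.leaf ([(1, true), (0, true), (1, false), (1, false), (0, true), (0, true), (1, true),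 (1, true), (0, true), (1, false), (0, true), (0, true)])) (.leaf ([(0, true), (0, true), (1, false), (1, false), (1, false), (0, true), (1, false), (0, false), (1, false), (1, false), (1, false)])))) (.node (.node (.leaf ([(0, true), (1, true), (0, false), (1, false), (1, false), (0, false), (1, false), (0, false), (1, false), (0, true), (1, false), (1, false), (0, true), (1, false)])) (.leaf ([]))) (.node (.leaf ([])) (.leaf ([(1, true), (1, true), (0, false), (1, false), (1, false), (1, false), (0, false), (1, true), (0, false), (1, true), (0, true), (1, false), (1, false), (0, true)])))))) (.node (.node (.node (.node (.leaf ([])) (.leaf ([]))) (.node (.leaf ([])) (.leaf ([])))) (.node (.node (.leaf ([])) (.leaf ([]))) (.node (.leaf ([(1, false), (0, false), (1, true), (0, true), (1, true), (1, true), (1, true), (1, true), (1, true), (0, true), (1, true), (0, true), (1, true)])) (.leaf ([(1, true), (1, true), (0, true), (1, true), (0, false), (1, false), (0,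 true), (1, true), (0, true), (0, true), (1, true), (1, true), (1, true)]))))) (.node (.node (.node (.leaf ([])) (.leaf ([]))) (.node (.leaf ([])) (.leaf ([])))) (.node (.node (.leaf ([])) (.leaf ([(1, false), (0, false), (1, false), (0, false), (1, true), (1, true), (0, true), (0, true), (1, true), (0, true), (0, true), (1, true)]))) (.node (.leaf ([])) (.leaf ([(0, true), (1, false), (0, false), (1, true), (1, true), (1, true), (0, true), (1, true), (0, true), (1, true)]))))))

/-- data -/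
def lab0_00001 : Trie (Word) := .node (.node (.node (.node (.node (.leaf ([])) (.leaf ([]))) (.node (.leaf ([])) (.leaf ([])))) (.node (.node (.leaf ([])) (.leaf ([(0, true), (1, false), (0, true), (1, true), (0, false), (1, true), (0, false), (1, false), (0, true), (0, true), (1, false), (0, true), (0, true), (1, true), (1, true)]))) (.node (.leaf ([])) (.leaf ([]))))) (.node (.node (.node (.leaf ([])) (.leaf ([(0, true), (0, true)]))) (.node (.leaf ([])) (.leaf ([(1, true), (0, true), (0, true), (1, true), (0, false), (1, true), (0, true), (0, true), (1, true), (0, true), (0, true), (1, false), (0, true), (1, false), (1, false)])))) (.node (.node (.leaf ([])) (.leaf ([]))) (.node (.leaf ([(1, true), (0, false), (1, true), (0, true), (1, true), (0, true), (1, false), (0, true), (1, false), (0, true), (1, false), (0, false), (1, true)])) (.leaf ([(1, true), (1, true), (0, true), (1, true), (1, true), (0, true), (1, false), (1, false), (0, false), (1, true),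 (0, true), (1, false), (0, false)])))))) (.node (.node (.node (.node (.leaf ([])) (.leaf ([(0, true), (0, true), (1, true), (0, true), (1, true), (1, true), (0, true), (1, false), (0, true), (0, true), (1, false), (0, false), (1, true)]))) (.node (.leaf ([])) (.leaf ([])))) (.node (.node (.leaf ([])) (.leaf ([]))) (.node (.leaf ([])) (.leaf ([(0, false), (1, true), (1, true), (0, false), (1, true), (0, false), (1, false), (1, false), (1, false), (0, false), (1, true)]))))) (.node (.node (.node (.leaf ([])) (.leaf ([(1, false), (0, false), (1, true), (0, true), (0, true), (1, false), (0, false), (1, true), (0, true), (1, true), (1, true), (1, true), (1, true), (0, false), (1, false)]))) (.node (.leaf ([])) (.leaf ([(1, true), (0, true), (1, true), (0, false), (1, true), (1, true), (0, true), (1, false), (0, true), (1, true), (1, true), (0, false), (1, true)])))) (.node (.node (.leaf ([])) (.leaf ([]))) (.node (.leaf ([])) (.leaf ([(1, true), (0, true), (1, false),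 (1, false), (0, false), (1, false), (1, false), (1, false), (1, false), (0, false)]))))))

/-- data -/
def lab0_00010 : Trie (Word) := .node (.node (.node (.node (.node (.leaf ([])) (.leaf ([]))) (.node (.leaf ([])) (.leaf ([])))) (.node (.node (.leaf ([])) (.leaf ([]))) (.node (.leaf ([(1, false), (1, false), (1, false), (0, true), (1, false), (0, true), (1, false), (1, false), (0, true), (1, true), (1, true), (0, true)])) (.leaf ([(0, true), (1, false), (0, true), (1, false), (0, true), (1, true), (1, true), (0, false), (1, true), (0, true), (0, true), (1, false), (0, false), (1, true)]))))) (.node (.node (.node (.leaf ([])) (.leaf ([]))) (.node (.leaf ([])) (.leaf ([])))) (.node (.node (.leaf ([(1, true), (0, false), (1, true), (1, true), (1, true), (0, true), (1, true), (1, true), (1, true), (0, true), (1, false), (1, false), (1, false)])) (.leaf ([]))) (.node (.leaf ([])) (.leaf ([])))))) (.node (.node (.node (.node (.leaf ([])) (.leaf ([]))) (.node (.leaf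 ([])) (.leaf ([(1, true), (1, true), (1, true), (0, true), (1, true), (0, false), (1, true), (1, true), (1, true), (0, true), (0, true)])))) (.node (.node (.leaf ([])) (.leaf ([(1, true), (0, false), (1, true), (0, true), (1, true), (0, true), (0, true), (1, true), (1, true), (1, true), (1, true), (0, false), (1, false)]))) (.node (.leaf ([(0, false), (1, true), (1, true), (1, true), (0, true), (1, true), (0, false), (1, true), (0, false), (1, true), (0, true), (1, true), (0, false), (1, false)])) (.leaf ([(1, false), (0, true), (0, true), (1, false), (0, true), (1, false), (0, true), (1, true), (0, false), (1, true), (0, false), (1, true), (0, true), (1, false)]))))) (.node (.node (.node (.leaf ([])) (.leaf ([(1, true), (0, true), (1, true), (1, true), (0, true), (1, false), (1, false), (1, false), (0, false), (1, false), (1, false), (1, false), (1, false), (0, true)]))) (.node (.leaf ([])) (.leaf ([])))) (.node (.node (.leaf ([])) (.leaf ([]))) (.node (.leaf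 ([])) (.leaf ([]))))))

/-- data -/
def lab0_00011 : Trie (Word) := .node (.node (.node (.node (.node (.leaf ([(0, false)])) (.leaf ([(0, false), (1, true), (1, true), (1, true), (1, true), (0, true), (1, true), (1, true), (1, true), (0, false), (1, false), (1, false), (0, false), (1, false)]))) (.node (.leaf ([(0, true), (1, false), (0, false), (1, false), (1, false), (1, false), (0, false), (1, false), (0, false), (1, true), (0, false), (1, false), (0, false)])) (.leaf ([(0, true), (1, false), (0, true), (1, true), (1, true), (0, false), (1, false), (0, true), (1, false), (1, false), (0, true), (1, true), (0, true)])))) (.node (.node (.leaf ([])) (.leaf ([(0, true), (1, false), (0, false), (1, false), (0, false), (1, true), (1, true), (0, true), (1, false), (0, true), (1, false), (0, true), (1, true)]))) (.node (.leaf ([])) (.leaf ([]))))) (.node (.node (.node (.leaf ([])) (.leaf ([(0, true), (1, true), (0, true), (0, true), (1, true), (1, true), (0, false),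 (1, true), (0, false), (1, false), (0, false), (1, true), (0, true), (0, true)]))) (.node (.leaf ([])) (.leaf ([])))) (.node (.node (.leaf ([])) (.leaf ([(1, false), (1, false), (1, false), (0, true), (1, false), (0, false), (1, false), (0, true), (1, true), (1, true), (1, true), (1, true), (0, true)]))) (.node (.leaf ([])) (.leaf ([(1, true), (0, false), (1, false), (0, true), (1, false), (0, false), (1, true), (1, true), (0, true), (0, true), (1, true), (0, true)])))))) (.node (.node (.node (.node (.leaf ([])) (.leaf ([(1, false), (0, false), (1, false), (0, true), (1, false), (1, false), (1, false), (1, false), (0, true), (0, true), (1, false), (0, false), (1, true), (0, false)]))) (.node (.leaf ([])) (.leaf ([])))) (.node (.node (.leaf ([])) (.leaf ([]))) (.node (.leaf ([(1, true), (0, false), (1, true), (1, true), (0, false), (1, true), (0, true), (1, true), (0, true), (1, true), (1, true), (0, true), (1, false), (0, false)])) (.leaf ([]))))) (.node (.node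 (.node (.leaf ([])) (.leaf ([(0, true), (0, true), (1, true), (0, true), (0, true), (1, false), (1, false), (0, true), (1, true), (1, true), (0, false), (1, true), (1, true), (1, true), (0, false)]))) (.node (.leaf ([])) (.leaf ([(0, false), (1, false), (0, true), (1, false), (1, false), (0, true), (1, false), (1, false), (1, false), (1, false)])))) (.node (.node (.leaf ([])) (.leaf ([(1, false), (1, false), (0, true), (1, true), (0, false), (1, true), (0, false), (1, false), (0, true), (0, true), (1, false)]))) (.node (.leaf ([])) (.leaf ([]))))))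

/-- data -/
def lab0_00100 : Trie (Word) := .node (.node (.node (.node (.node (.leaf ([])) (.leaf ([]))) (.node (.leaf ([(0, false), (1, true), (0, true), (1, false), (0, true), (0, true), (1, false), (0, false), (1, true), (1, true), (0, false), (1, true), (0, false)])) (.leaf ([(1, false), (0, true), (1, false), (0, true), (1, false), (0, false), (1, false), (0, true), (1, false), (0, false), (1, false), (0, true), (1, true), (0, true), (0, true)])))) (.node (.node (.leaf ([])) (.leaf ([]))) (.node (.leaf ([])) (.leaf ([]))))) (.node (.node (.node (.leaf ([])) (.leaf ([]))) (.node (.leaf ([(1, true), (1, true), (1, true), (0, true), (0, true), (1, false), (1, false), (1, false), (1, false), (0, false)])) (.leaf ([])))) (.node (.node (.leaf ([])) (.leaf ([(1, false), (1, false), (0, true), (0, true), (1, true), (0, true), (0, true), (1, true), (0, true), (1, false), (0, true), (1, false), (0, false), (1, true), (0, false)]))) (.node (.leaf ([])) (.leaf ([(0,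 true), (1, true), (1, true), (1, true), (1, true), (0, true), (1, true), (1, true), (0, false), (1, false)])))))) (.node (.node (.node (.node (.leaf ([])) (.leaf ([]))) (.node (.leaf ([])) (.leaf ([])))) (.node (.node (.leaf ([(1, true), (0, true), (1, true), (0, true), (1, false), (0, false), (1, false), (1, false), (1, false), (0, true), (1, true), (1, true), (1, true)])) (.leaf ([]))) (.node (.leaf ([(1, false), (1, false), (0, false), (1, false), (0, true), (0, true), (1, true), (0, false), (1, false), (1, false), (1, false), (0, false)])) (.leaf ([]))))) (.node (.node (.node (.leaf ([])) (.leaf ([]))) (.node (.leaf ([])) (.leaf ([(1, false), (0, false), (1, true), (0, true), (0, true), (1, true), (1, true), (0, false), (1, true), (0, true)])))) (.node (.node (.leaf ([])) (.leaf ([(1, false), (0, true), (1, false), (1, false), (0, false), (1, true), (0, false), (1, false), (1, false), (0, true), (1, false), (0, false), (1, false)]))) (.node (.leaf ([(1,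 true), (1, true), (1, true), (1, true), (0, false), (1, false), (0, false), (1, false), (0, false), (1, false), (0, false), (1, false)])) (.leaf ([]))))))

/-- data -/
def lab0_00101 : Trie (Word) := .node (.node (.node (.node (.node (.leaf ([])) (.leaf ([(1, false), (0, true), (1, true), (0, true), (0, true), (1, true), (0, false), (1, false), (1, false), (0, false), (1, false), (0, true), (0, true)]))) (.node (.leaf ([])) (.leaf ([(1, false), (1, false), (0, true), (0, true), (1, false), (0, true), (1, false), (0, false), (1, true), (1, true), (1, true), (0, true), (1, true)])))) (.node (.node (.leaf ([])) (.leaf ([]))) (.node (.leaf ([(1, false), (0, false), (1, false), (1, false), (0, false), (1, true), (0, false), (1, false), (0, false), (1, false), (0, false), (1, false), (0, true)])) (.leaf ([]))))) (.node (.node (.node (.leaf ([])) (.leaf ([]))) (.node (.leaf ([])) (.leaf ([(1, false), (0, true), (1, false), (0, true), (1, true), (1, true), (1, true),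 (0, false), (1, true), (1, true), (1, true), (0, true), (1, false), (0, true), (1, true)])))) (.node (.node (.leaf ([(1, true), (0, true), (0, true), (1, false), (1, false), (1, false), (1, false), (0, false), (1, false), (0, false), (1, false)])) (.leaf ([(1, true), (0, true), (0, true), (1, true), (0, false), (1, true), (0, true), (0, true), (1, true), (0, true), (0, true), (1, false), (0, true), (1, false), (1, false)]))) (.node (.leaf ([])) (.leaf ([(0, false), (1, true), (0, true), (1, true), (0, true), (1, true), (0, true), (1, true), (1, true), (0, false), (1, false), (0, false), (1, true), (1, true)])))))) (.node (.node (.node (.node (.leaf ([])) (.leaf ([]))) (.node (.leaf ([])) (.leaf ([(1, true), (1, true), (1, true), (0, true), (0, true), (1, false), (0, true), (1, true), (1, true), (0, false), (1, false), (0, true), (1, true), (1, true)])))) (.node (.node (.leaf ([])) (.leaf ([(1, false), (0, true), (1, true), (1, true), (1, true), (0, true), (1,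 false), (0, true), (1, false), (0, true), (1, false), (0, false), (1, true)]))) (.node (.leaf ([(1, false), (1, false), (0, false), (1, true), (1, true), (0, false), (1, false), (0, false), (1, false), (1, false), (0, false)])) (.leaf ([(1, true), (0, true), (1, false), (0, true), (1, false), (0, false), (1, true), (0, false), (1, false), (0, true), (1, true), (1, true), (1, true)]))))) (.node (.node (.node (.leaf ([])) (.leaf ([]))) (.node (.leaf ([(0, true), (0, true), (1, true), (1, true), (1, true), (0, true), (0, true), (1, false), (1, false), (0, true), (1, true), (1, true), (0, true)])) (.leaf ([(1, false), (0, false), (1, false), (0, true), (1, false), (0, false), (1, false), (1, false), (1, false), (0, false), (1, true), (0, false)])))) (.node (.node (.leaf ([])) (.leaf ([(0, true), (1, false), (0, true), (1, false), (0, true), (0, true), (1, false), (0, true), (0, true), (1, false), (0, false), (1, true), (0, false)]))) (.node (.leaf ([])) (.leaf ([(0,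 true), (1, true), (0, false), (1, false), (0, true), (1, true), (1, true), (0, false), (1, false), (1, false), (0, false), (1, false), (1, false)]))))))

/-- data -/
def lab0_00110 : Trie (Word) := .node (.node (.node (.node (.node (.leaf ([])) (.leaf ([]))) (.node (.leaf ([])) (.leaf ([(1, false), (0, false), (1, false), (1, false), (1, false), (0, true), (1, false), (1, false), (0, true), (1, false), (0, false), (1, true)])))) (.node (.node (.leaf ([])) (.leaf ([(1, false), (1, false), (1, false), (0, false), (1, true), (0, false), (1, false), (0, false), (1, false), (1, false), (1, false), (0, false), (1, false)]))) (.node (.leaf ([])) (.leaf ([(1, false), (0, true), (0, true), (1, false), (1, false), (1, false), (0, true), (0, true), (1, false), (1, false), (0, true), (1, true), (0, true), (1, false)]))))) (.node (.node (.node (.leaf ([])) (.leaf ([(0, false), (1, false), (1, false), (1, false), (0, true), (1, false), (1, false), (1, false), (1, false),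 (0, true), (0, true), (1, true), (1, true), (1, true)]))) (.node (.leaf ([])) (.leaf ([])))) (.node (.node (.leaf ([])) (.leaf ([]))) (.node (.leaf ([])) (.leaf ([(0, false), (1, true), (1, true), (0, false), (1, false), (0, false), (1, true), (0, true), (1, true), (0, false), (1, false), (1, false), (0, false)])))))) (.node (.node (.node (.node (.leaf ([])) (.leaf ([]))) (.node (.leaf ([(0, false), (1, true), (0, true), (0, true), (1, true), (0, true), (1, true), (0, false), (1, true), (0, false), (1, false)])) (.leaf ([])))) (.node (.node (.leaf ([])) (.leaf ([]))) (.node (.leaf ([(1, false), (0, true), (0, true), (1, false), (0, true), (1, false), (0, true), (0, true), (1, true), (0, false), (1, true), (0, true), (0, true), (1, true)])) (.leaf ([(0, false), (1, true), (1, true), (1, true), (1, true), (0, true), (1, true), (0, true), (1, true), (0, true), (0, true), (1, true), (0, false), (1, false)]))))) (.node (.node (.node (.leaf ([])) (.leaf ([(0, true),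 (1, true), (0, true), (1, true), (0, true), (1, true), (1, true), (0, true), (1, false), (0, true), (0, true), (1, false)]))) (.node (.leaf ([])) (.leaf ([])))) (.node (.node (.leaf ([])) (.leaf ([(0, true), (1, true), (0, false), (1, false), (1, false), (0, true), (1, true), (1, true), (0, false), (1, false), (0, true), (1, false), (0, false)]))) (.node (.leaf ([])) (.leaf ([(0, true), (1, false), (0, true), (0, true), (1, true), (1, true), (0, true), (1, true), (1, true), (0, true), (0, true), (1, true), (0, false), (1, false)]))))))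

/-- data -/
def lab0_00111 : Trie (Word) := .node (.node (.node (.node (.node (.leaf ([])) (.leaf ([]))) (.node (.leaf ([])) (.leaf ([(1, true), (0, true), (1, true), (0, false), (1, false), (0, true), (1, true), (0, false), (1, true), (1, true), (0, true)])))) (.node (.node (.leaf ([(0, false), (1, true), (1, true), (0, true), (1, true), (0, false), (1, false), (1, false), (0, true), (0, true), (1, true), (0, true), (1, false), (1, false), (1, false)])) (.leaf ([]))) (.node (.leaf ([(1, false), (0, false), (1, false), (0, true), (1, false), (1, false), (0, true), (1, false), (1, false), (1, false), (1, false), (0, true), (0, true), (1, false)])) (.leaf ([]))))) (.node (.node (.node (.leaf ([])) (.leaf ([(1, true), (1, true), (1, true), (0, false), (1, true), (0, true), (1, true), (1, true), (1, true), (0, true), (1, false), (1, false), (1, false), (0, true)]))) (.node (.leaf ([(0, true), (1, true), (0, true), (1, false), (0, true), (1, true), (0, true), (1,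 false), (0, false), (1, false), (1, false), (1, false), (1, false), (1, false)])) (.leaf ([(0, true), (1, false), (0, true), (0, true), (1, true), (1, true), (0, false), (1, true), (1, true), (1, true), (0, false), (1, false), (0, true), (1, true)])))) (.node (.node (.leaf ([])) (.leaf ([(1, false), (0, false), (1, true), (0, false), (1, false), (1, false), (0, true), (1, false), (1, false), (0, false), (1, true), (1, true), (0, false), (1, false)]))) (.node (.leaf ([(1, true), (0, false), (1, false), (1, false), (0, false), (1, false), (1, false), (1, false), (0, false), (1, false), (1, false)])) (.leaf ([(1, false), (1, false), (1, false), (0, true), (0, true), (1, false), (0, false), (1, true), (0, true), (1, false), (0, false), (1, false), (1, false)])))))) (.node (.node (.node (.node (.leaf ([])) (.leaf ([]))) (.node (.leaf ([])) (.leaf ([])))) (.node (.node (.leaf ([])) (.leaf ([(0, false), (1, true), (1, true), (0, true), (1, false), (0, false), (1, true),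 (0, true), (1, false), (1, false), (1, false)]))) (.node (.leaf ([])) (.leaf ([]))))) (.node (.node (.node (.leaf ([(0, true), (0, true), (1, true), (0, false), (1, false), (1, false), (0, true), (0, true), (1, true), (1, true), (0, false), (1, false)])) (.leaf ([]))) (.node (.leaf ([])) (.leaf ([(1, false), (0, true), (1, true), (0, false), (1, true), (1, true), (0, false), (1, true), (1, true), (1, true), (0, true), (1, true)])))) (.node (.node (.leaf ([(0, true), (1, true), (1, true), (1, true), (1, true), (0, true), (0, true), (1, false), (1, false), (1, false)])) (.leaf ([]))) (.node (.leaf ([])) (.leaf ([(0, false), (1, true), (0, false), (1, true), (1, true), (0, true), (1, false), (0, false), (1, false), (0, false), (1, false), (1, false), (0, true), (1, true)]))))))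

/-- data -/
def lab0_01000 : Trie (Word) := .node (.node (.node (.node (.node (.leaf ([])) (.leaf ([]))) (.node (.leaf ([])) (.leaf ([])))) (.node (.node (.leaf ([])) (.leaf ([(0, false), (1, false), (0, false), (1, false), (0, true), (1, false), (0, false), (1, true), (0, true), (1, true), (0, true), (1, true), (0, true), (1, false)]))) (.node (.leaf ([])) (.leaf ([(0, true), (0, true), (1, true), (1, true), (0, true), (1, true), (0, false), (1, true), (0, false), (1, false), (0, true), (1, true), (0, false)]))))) (.node (.node (.node (.leaf ([])) (.leaf ([]))) (.node (.leaf ([])) (.leaf ([])))) (.node (.node (.leaf ([])) (.leaf ([]))) (.node (.leaf ([])) (.leaf ([(1, true), (0, false), (1, true), (0, true), (1, true), (1, true), (1, true), (0, false), (1, false), (0, false), (1, true), (1, true), (0, true), (0, true), (1, true)])))))) (.node (.node (.node (.node (.leaf ([])) (.leaf ([(1, true), (0, true), (1, false), (0, true), (1, false), (0, false), (1,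 false), (0, true), (0, true), (1, false), (0, true)]))) (.node (.leaf ([])) (.leaf ([])))) (.node (.node (.leaf ([])) (.leaf ([(0, false), (1, false), (1, false), (0, true), (1, false), (0, true), (0, true), (1, true), (0, false), (1, true), (1, true), (0, false), (1, false), (1, false)]))) (.node (.leaf ([(0, false), (1, true), (0, true), (1, true), (0, true), (1, true), (0, true), (1, false), (0, true), (1, true), (1, true), (0, true), (1, true)])) (.leaf ([(0, true), (1, true), (1, true), (0, true), (1, false), (0, false), (1, false), (0, true), (1, true), (0, true), (1, false), (1, false), (0, true)]))))) (.node (.node (.node (.leaf ([])) (.leaf ([(0, true), (0, true), (1, true), (0, false), (1, false), (1, false), (0, false), (1, true), (0, false), (1, true), (0, false), (1, true), (1, true), (1, true)]))) (.node (.leaf ([(1, true), (0, false), (1, false), (1, false), (0, true), (0, true), (1, true), (1, true), (0, true), (1, false), (0, true)])) (.leaf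 ([(1, false), (0, false), (1, false), (0, false), (1, false), (1, false), (1, false), (0, true), (1, true), (0, false)])))) (.node (.node (.leaf ([])) (.leaf ([(1, false), (0, true), (1, false), (1, false), (0, false), (1, true), (1, true), (0, true), (0, true), (1, false), (0, true), (0, true)]))) (.node (.leaf ([])) (.leaf ([(1, true), (0, true), (1, true), (0, false), (1, false), (0, true), (0, true), (1, true), (0, true), (1, true), (0, true)]))))))

/-- data -/
def lab0_01001 : Trie (Word) := .node (.node (.node (.node (.node (.leaf ([])) (.leaf ([]))) (.node (.leaf ([])) (.leaf ([(1, false), (0, false), (1, false), (1, false), (0, false), (1, false), (0, true), (1, false), (1, false), (0, true)])))) (.node (.node (.leaf ([])) (.leaf ([(0, false), (1, true), (0, true), (0, true), (1, true), (0, false), (1, false), (0, false), (1, false), (0, true), (1, false), (1, false), (0, false)]))) (.node (.leaf ([])) (.leaf ([(0, true), (1, false), (0, true), (1,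 true), (1, true), (1, true), (0, true), (1, true), (0, false), (1, true), (0, true), (1, true)]))))) (.node (.node (.node (.leaf ([])) (.leaf ([]))) (.node (.leaf ([])) (.leaf ([])))) (.node (.node (.leaf ([])) (.leaf ([(0, false), (1, true), (1, true), (0, false), (1, true), (0, true), (1, true), (1, true), (0, true), (1, true)]))) (.node (.leaf ([])) (.leaf ([(1, false), (0, true), (0, true), (1, false), (0, true), (0, true), (1, false), (0, true), (1, true), (0, false), (1, false), (0, true), (1, true)])))))) (.node (.node (.node (.node (.leaf ([])) (.leaf ([(1, false), (0, true), (0, true), (1, false), (0, true), (0, true), (1, false), (1, false), (0, true), (1, true), (0, true), (1, true)]))) (.node (.leaf ([(1, false), (0, false), (1, false), (0, false), (1, false), (1, false), (1, false), (1, false), (1, false), (0, false), (1, false), (0, true), (1, true)])) (.leaf ([])))) (.node (.node (.leaf ([])) (.leaf ([]))) (.node (.leaf ([])) (.leaf ([(1, true),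 (1, true), (0, true), (0, true), (1, true), (1, true), (0, false), (1, false), (1, false), (1, false), (0, true), (1, true), (1, true), (0, true)]))))) (.node (.node (.node (.leaf ([])) (.leaf ([]))) (.node (.leaf ([(0, true), (1, true), (1, true), (0, false), (1, true), (0, true), (1, true), (0, true), (1, false), (0, true), (0, true), (1, false), (0, true)])) (.leaf ([])))) (.node (.node (.leaf ([])) (.leaf ([]))) (.node (.leaf ([])) (.leaf ([(1, false), (0, false), (1, true), (1, true), (0, true), (1, true), (0, false), (1, true), (0, false), (1, false), (0, false), (1, false), (0, false), (1, true)]))))))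

/-- data -/
def lab0_01010 : Trie (Word) := .node (.node (.node (.node (.node (.leaf ([])) (.leaf ([]))) (.node (.leaf ([])) (.leaf ([(0, true), (1, true), (0, true), (1, true), (1, true), (0, false), (1, true), (0, true), (1, true), (0, true), (1, false)])))) (.node (.node (.leaf ([(0, true), (0, true), (1, false), (1, false), (0, false), (1, true), (1, true), (0, true), (0, true), (1, false), (1, false), (1, false), (0, true), (0, true)])) (.leaf ([]))) (.node (.leaf ([])) (.leaf ([(1, true), (0, true), (1, true), (0, true), (1, true), (0, true), (0, true), (1, true), (1, true), (0, false), (1, true), (0, false)]))))) (.node (.node (.node (.leaf ([(1, false), (0, false), (1, true), (0, false), (1, true), (0, true), (1, true), (0, true), (1, true), (1, true), (0, true), (0, true), (1, false), (1, false), (0, true)])) (.leaf ([(1, true), (0, false), (1, false), (0, false), (1, false), (0, true), (1, false), (1, false), (0, false), (1, false), (0, false)])))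 (.node (.leaf ([])) (.leaf ([(1, false), (1, false), (0, false), (1, false), (0, true), (1, true), (0, true), (1, true), (0, true), (0, true), (1, true), (0, false), (1, true), (0, true)])))) (.node (.node (.leaf ([])) (.leaf ([(0, true), (1, true), (0, false), (1, true), (0, true), (1, false), (1, false), (0, false), (1, true), (1, true), (0, true), (1, false), (0, false)]))) (.node (.leaf ([])) (.leaf ([(1, true), (0, true), (1, false), (1, false), (0, true), (1, true), (1, true), (0, false), (1, true), (1, true), (0, true), (1, false), (0, true), (1, true)])))))) (.node (.node (.node (.node (.leaf ([])) (.leaf ([]))) (.node (.leaf ([])) (.leaf ([(0, false), (1, false), (0, true), (1, false), (0, true), (0, true), (1, false), (0, false), (1, false), (0, false), (1, true), (0, true), (1, true), (1, true)])))) (.node (.node (.leaf ([(0, true), (1, true), (0, false), (1, true), (0, true), (1, true), (1, true), (1, true), (0, true), (0, true), (1, true), (0, true),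 (1, false)])) (.leaf ([(1, false), (0, true), (1, false), (0, true), (0, true), (1, true), (1, true), (1, true), (0, true), (1, false), (1, false)]))) (.node (.leaf ([])) (.leaf ([(0, true), (1, true), (0, true), (1, true), (0, true), (1, false), (0, true), (0, true), (1, true), (0, true), (1, false), (1, false), (0, false), (1, false)]))))) (.node (.node (.node (.leaf ([])) (.leaf ([(0, false), (1, false), (0, true), (1, true), (1, true), (0, true), (0, true), (1, false), (0, true), (1, false), (0, true), (1, true), (0, false), (1, false)]))) (.node (.leaf ([])) (.leaf ([(1, false), (1, false), (1, false), (1, false), (1, false), (0, true), (1, true), (0, false), (1, true), (0, true), (1, false), (0, true), (1, true)])))) (.node (.node (.leaf ([])) (.leaf ([(1, false), (1, false), (1, false), (1, false), (0, true), (1, true), (1, true), (0, false), (1, false), (0, false), (1, true), (0, false)]))) (.node (.leaf ([])) (.leaf ([(0, true), (1, false), (1, false),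 (1, false), (1, false), (0, true), (1, false), (1, false), (0, false), (1, false), (1, false), (0, false)]))))))

/-- data -/
def lab0_01011 : Trie (Word) := .node (.node (.node (.node (.node (.leaf ([])) (.leaf ([]))) (.node (.leaf ([])) (.leaf ([])))) (.node (.node (.leaf ([(0, false), (1, true), (1, true), (0, true), (0, true), (1, false), (1, false), (0, false), (1, false), (0, false), (1, false), (0, true), (1, false), (0, true), (1, true)])) (.leaf ([(0, true), (1, true), (0, false), (1, true), (1, true), (1, true), (0, false), (1, false), (0, true), (1, true), (0, false), (1, true), (0, false)]))) (.node (.leaf ([])) (.leaf ([(0, false), (1, true), (0, true), (1, false), (1, false), (0, true), (1, true), (0, true), (1, false), (0, false), (1, false), (0, false)]))))) (.node (.node (.node (.leaf ([])) (.leaf ([]))) (.node (.leaf ([])) (.leaf ([(1, true), (0, true), (0, true), (1, true), (0, false), (1, true), (0, true), (0, true), (1, true), (0, true),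 (0, true), (1, false), (0, true), (1, false), (1, false)])))) (.node (.node (.leaf ([])) (.leaf ([]))) (.node (.leaf ([])) (.leaf ([])))))) (.node (.node (.node (.node (.leaf ([])) (.leaf ([]))) (.node (.leaf ([(1, false), (0, true), (0, true), (1, false), (0, true), (1, false), (0, true), (0, true), (1, true), (0, false), (1, true), (0, true), (0, true), (1, true)])) (.leaf ([(1, false), (0, true), (1, true), (0, false), (1, true), (0, false), (1, true), (0, false), (1, false), (1, false), (1, false), (0, false), (1, true)])))) (.node (.node (.leaf ([])) (.leaf ([(0, true), (1, true), (0, false), (1, true), (0, false), (1, false), (0, true), (1, false), (0, true), (0, true), (1, false), (0, false), (1, true), (0, false)]))) (.node (.leaf ([])) (.leaf ([(0, false), (1, false), (0, false), (1, false), (0, true), (0, true), (1, true), (0, true), (1, false), (0, false), (1, false)]))))) (.node (.node (.node (.leaf ([])) (.leaf ([]))) (.node (.leaf ([])) (.leaf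 ([(1, false), (1, false), (0, true), (1, false), (0, true), (1, true), (0, false), (1, true), (0, false), (1, true), (0, false), (1, false), (1, false), (1, false)])))) (.node (.node (.leaf ([(0, true), (1, true), (0, true), (1, false), (0, true), (1, true), (0, true), (1, true), (1, true), (1, true), (0, true), (1, true), (0, false)])) (.leaf ([]))) (.node (.leaf ([])) (.leaf ([(1, false), (0, true), (1, false), (0, false), (1, false), (1, false), (0, true), (1, true), (0, true), (1, true), (0, true), (1, true), (0, true), (0, true)]))))))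

/-- data -/
def lab0_01100 : Trie (Word) := .node (.node (.node (.node (.node (.leaf ([])) (.leaf ([(1, false), (0, true), (0, true), (1, false), (1, false), (0, true), (1, true), (1, true), (0, true), (1, true), (0, true), (1, false), (1, false), (1, false)]))) (.node (.leaf ([])) (.leaf ([])))) (.node (.node (.leaf ([])) (.leaf ([(0, true), (0, true), (1, false), (0, false), (1, false), (0, false), (1, true), (0, false), (1, false), (0, false), (1, false), (0, true), (1, false), (1, false)]))) (.node (.leaf ([])) (.leaf ([(1, true), (0, true), (0, true), (1, true), (0, true), (1, true), (0, false), (1, true), (0, false), (1, false), (0, true), (1, true), (1, true), (1, true)]))))) (.node (.node (.node (.leaf ([])) (.leaf ([]))) (.node (.leaf ([])) (.leaf ([(0, false), (1, false), (0, true), (1, true), (1, true), (0, false), (1, true), (0, false), (1, true), (0, false), (1, false), (0, true), (1, false), (1, false)])))) (.node (.node (.leaf ([])) (.leaf ([(1,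 true), (0, true), (1, true), (0, true), (0, true), (1, false), (0, false), (1, true), (0, true), (1, true), (1, true), (1, true), (1, true), (0, true), (1, true)]))) (.node (.leaf ([])) (.leaf ([])))))) (.node (.node (.node (.node (.leaf ([])) (.leaf ([]))) (.node (.leaf ([(1, true), (0, false), (1, false), (1, false), (0, true), (0, true), (1, true), (1, true), (0, true), (1, false), (0, true)])) (.leaf ([])))) (.node (.node (.leaf ([])) (.leaf ([(1, false), (1, false), (1, false), (0, true), (0, true), (1, true), (1, true), (1, true), (1, true), (0, false), (1, true), (1, true), (1, true), (0, true)]))) (.node (.leaf ([])) (.leaf ([(1, true), (1, true), (0, false), (1, true), (0, true), (1, true), (0, true), (1, false), (0, true), (1, true), (0, true), (1, true), (0, true), (0, true)]))))) (.node (.node (.node (.leaf ([])) (.leaf ([(0, true), (1, true), (1, true), (0, true), (1, true), (0, true), (1, false), (1, false), (0, true), (1, true), (1, true)])))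 (.node (.leaf ([(1, false), (0, true), (1, true), (0, false), (1, false), (1, false), (1, false), (0, false), (1, false), (1, false), (1, false), (0, false)])) (.leaf ([])))) (.node (.node (.leaf ([])) (.leaf ([(0, true), (0, true), (1, true), (0, false), (1, true), (1, true), (0, true), (1, true), (0, true), (1, false), (0, false), (1, true), (0, false)]))) (.node (.leaf ([])) (.leaf ([(1, false), (0, true), (1, true), (0, true), (0, true), (1, false), (0, true), (0, true), (1, true), (0, true), (1, true), (0, true), (0, true)]))))))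

/-- data -/
def lab0_01101 : Trie (Word) := .node (.node (.node (.node (.node (.leaf ([])) (.leaf ([(1, false), (1, false), (0, true), (1, true), (0, true), (0, true), (1, true), (1, true), (0, true), (1, true), (1, true), (0, true), (1, true), (0, true)]))) (.node (.leaf ([])) (.leaf ([])))) (.node (.node (.leaf ([])) (.leaf ([]))) (.node (.leaf ([])) (.leaf ([(0, false), (1, false), (0, false), (1, true), (1, true), (0, false), (1, true), (0, true), (1, false), (1, false), (0, false), (1, true), (0, false)]))))) (.node (.node (.node (.leaf ([])) (.leaf ([]))) (.node (.leaf ([])) (.leaf ([])))) (.node (.node (.leaf ([])) (.leaf ([]))) (.node (.leaf ([])) (.leaf ([(0, true), (1, false), (0, true), (1, false), (1, false), (0, true), (0, true), (1, false), (0, false), (1, false), (0, false), (1, false)])))))) (.node (.node (.node (.node (.leaf ([])) (.leaf ([(1, true), (0, true), (0, true), (1, true), (1, true), (1, true), (1, true), (0, false), (1, true), (1,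 true), (0, false), (1, true), (0, true), (1, true)]))) (.node (.leaf ([])) (.leaf ([(1, true), (1, true), (1, true), (0, true), (1, false), (0, true), (1, false), (0, true), (1, false), (0, false), (1, true), (0, false), (1, true), (1, true)])))) (.node (.node (.leaf ([])) (.leaf ([]))) (.node (.leaf ([(0, true), (1, false), (1, false), (1, false), (0, false), (1, false), (0, false), (1, true), (0, false), (1, false), (1, false), (0, true), (0, true)])) (.leaf ([(1, false), (1, false), (0, true), (1, true), (0, false), (1, true), (1, true), (1, true), (0, false), (1, false), (0, true), (1, false)]))))) (.node (.node (.node (.leaf ([])) (.leaf ([]))) (.node (.leaf ([])) (.leaf ([(0, true), (1, false), (0, true), (1, true), (0, true), (1, false), (1, false), (0, false), (1, true), (1, true), (1, true), (1, true)])))) (.node (.node (.leaf ([])) (.leaf ([(0, false), (1, false), (0, true), (0, true), (1, false), (1, false), (0, true), (1, true), (0, false), (1, true),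 (0, true), (1, false)]))) (.node (.leaf ([])) (.leaf ([(1, false), (1, false), (0, false), (1, true), (0, false), (1, true), (0, false), (1, true), (1, true), (0, false), (1, false), (1, false), (1, false)]))))))

/-- data -/
def lab0_01110 : Trie (Word) := .node (.node (.node (.node (.node (.leaf ([])) (.leaf ([]))) (.node (.leaf ([(1, true), (1, true), (0, false), (1, false), (1, false), (1, false), (1, false), (1, false), (0, false), (1, true), (0, false), (1, false)])) (.leaf ([(1, true), (0, false), (1, false), (1, false), (0, true), (0, true), (1, false), (0, true), (1, false), (0, true), (0, true), (1, true), (1, true), (0, false)])))) (.node (.node (.leaf ([])) (.leaf ([(1, false), (1, false), (0, true), (1, false), (0, true), (0, true), (1, true), (0, false), (1, true), (1, true)]))) (.node (.leaf ([])) (.leaf ([]))))) (.node (.node (.node (.leaf ([(1, true), (0, true), (1, true), (0, true), (1, true), (1, true), (1, true), (1, true), (0, true), (0,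 true), (1, false)])) (.leaf ([]))) (.node (.leaf ([])) (.leaf ([])))) (.node (.node (.leaf ([])) (.leaf ([(0, false), (1, false), (1, false), (1, false), (1, false), (0, false), (1, true), (0, true), (1, true), (0, false), (1, true), (1, true), (1, true)]))) (.node (.leaf ([(0, true), (1, true), (1, true), (0, false), (1, true), (0, true), (1, true), (0, true), (0, true), (1, false), (1, false), (1, false), (0, true)])) (.leaf ([])))))) (.node (.node (.node (.node (.leaf ([])) (.leaf ([(0, true), (1, true), (1, true), (1, true), (0, true), (1, true), (1, true), (1, true), (0, true), (1, false), (0, false), (1, true)]))) (.node (.leaf ([])) (.leaf ([(1, false), (0, false), (1, true), (0, false), (1, true), (0, false), (1, false), (1, false), (0, true), (1, true), (0, true), (1, true), (0, false)])))) (.node (.node (.leaf ([(1, true), (0, true), (1, false), (0, true), (1, true), (1, true), (1, true), (1, true), (1, true), (0, true), (1, false), (1, false)])) (.leaf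 ([(0, true), (0, true), (1, false), (0, false), (1, true), (0, true), (1, true), (0, false), (1, true), (0, true), (1, true), (0, false), (1, true), (0, false), (1, true)]))) (.node (.leaf ([])) (.leaf ([(1, true), (0, false), (1, false), (0, true), (1, true), (1, true), (0, true), (1, false), (1, false), (0, true), (0, true), (1, true), (0, true), (1, true)]))))) (.node (.node (.node (.leaf ([(1, true), (1, true), (1, true), (0, false), (1, false), (0, true), (0, true), (1, true), (1, true), (0, true), (1, false), (0, false), (1, false), (1, false), (0, true)])) (.leaf ([]))) (.node (.leaf ([])) (.leaf ([(0, false), (1, true), (1, true), (0, false), (1, false), (0, true), (1, true), (1, true), (0, true), (1, false), (0, true), (1, true), (0, false), (1, false), (0, false)])))) (.node (.node (.leaf ([])) (.leaf ([(1, true), (1, true), (1, true), (0, false), (1, false), (0, true), (1, true), (0, false), (1, false), (1, false), (0, true)]))) (.node (.leaf ([(0,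 false), (1, true), (0, true), (1, false), (1, false), (0, true), (1, true), (0, true), (1, true), (0, false), (1, false)])) (.leaf ([(0, true), (1, true), (0, true), (1, true), (0, false), (1, false), (0, false), (1, true), (1, true), (0, false), (1, false), (0, true)]))))))

/-- data -/
def lab0_01111 : Trie (Word) := .node (.node (.node (.node (.node (.leaf ([(0, true)])) (.leaf ([]))) (.node (.leaf ([])) (.leaf ([])))) (.node (.node (.leaf ([])) (.leaf ([]))) (.node (.leaf ([(1, false), (1, false), (0, true), (1, false), (0, true), (0, true), (1, true), (0, false), (1, true), (1, true), (0, true), (0, true)])) (.leaf ([(1, false), (0, true), (0, true), (1, false), (0, false), (1, false), (0, true), (0, true), (1, false), (0, true), (1, true), (0, true)]))))) (.node (.node (.node (.leaf ([])) (.leaf ([]))) (.node (.leaf ([])) (.leaf ([(1, false), (1, false), (0, true), (1, true), (0, false), (1, true), (0, true), (1, false), (1, false), (1, false), (0, false),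 (1, true), (0, true), (1, false)])))) (.node (.node (.leaf ([])) (.leaf ([(0, false), (1, false), (0, true), (0, true), (1, false), (0, true), (1, false), (0, true), (0, true), (1, true), (0, true), (1, true), (0, false), (1, true), (1, true)]))) (.node (.leaf ([])) (.leaf ([(1, true), (1, true), (0, true), (0, true), (1, false), (0, true), (1, false), (1, false), (0, true), (1, false), (0, true), (1, true), (1, true), (1, true)])))))) (.node (.node (.node (.node (.leaf ([])) (.leaf ([(1, true), (0, true), (1, false), (0, false), (1, true), (0, false), (1, true), (0, true), (0, true), (1, false), (1, false), (0, false), (1, true), (0, true)]))) (.node (.leaf ([])) (.leaf ([])))) (.node (.node (.leaf ([])) (.leaf ([(0, false), (1, false), (0, true), (1, false), (1, false), (1, false), (0, true), (0, true), (1, false), (0, true), (1, false), (0, false), (1, true)]))) (.node (.leaf ([])) (.leaf ([(1, false), (0, true), (1, true), (1, true), (1, true), (0, true),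 (1, false), (0, true), (1, false), (1, false), (0, true)]))))) (.node (.node (.node (.leaf ([])) (.leaf ([(1, true), (1, true), (0, false), (1, false), (1, false), (1, false), (0, true), (0, true), (1, true), (0, false), (1, true)]))) (.node (.leaf ([])) (.leaf ([(0, true), (0, true), (1, false), (0, false), (1, false), (1, false), (0, true), (0, true), (1, false), (0, false), (1, false)])))) (.node (.node (.leaf ([])) (.leaf ([]))) (.node (.leaf ([(1, false), (0, false), (1, true), (0, true), (1, true), (0, false), (1, true), (0, false), (1, true), (0, false), (1, false), (0, false), (1, true), (0, false)])) (.leaf ([]))))))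

/-- data -/
def lab0_10000 : Trie (Word) := .node (.node (.node (.node (.node (.leaf ([])) (.leaf ([]))) (.node (.leaf ([])) (.leaf ([])))) (.node (.node (.leaf ([])) (.leaf ([(1, true), (0, false), (1, false), (0, true), (0, true), (1, false), (1, false), (0, true), (0, true), (1, false), (0, false), (1, false), (0, false)]))) (.node (.leaf ([(0, true), (1, true), (1, true), (0, true), (1, false), (0, true), (1, false), (0, false), (1, true), (1, true), (0, true), (1, false), (0, true), (1, true), (0, true)])) (.leaf ([(1, true), (1, true), (0, true), (0, true), (1, false), (0, false), (1, false), (0, false), (1, false), (1, false), (1, false), (0, false), (1, false)]))))) (.node (.node (.node (.leaf ([])) (.leaf ([(1, false), (0, true), (1, true), (0, false), (1, true), (0, false), (1, false), (1, false), (1, false), (0, false), (1, true), (0, false), (1, true), (0, false), (1, false)]))) (.node (.leaf ([(0, false), (1, true), (0, false), (1, true), (0, true),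 (1, true), (1, true), (1, true), (0, true), (1, true), (0, false), (1, true), (0, false)])) (.leaf ([])))) (.node (.node (.leaf ([])) (.leaf ([(1, false), (0, false), (1, true), (1, true), (0, false), (1, false), (0, true), (1, false), (0, false), (1, false), (0, false), (1, false), (0, true)]))) (.node (.leaf ([])) (.leaf ([(1, false), (1, false), (1, false), (0, false), (1, true), (1, true), (1, true), (0, true), (1, false), (1, false), (1, false), (0, true), (1, true), (1, true)])))))) (.node (.node (.node (.node (.leaf ([])) (.leaf ([]))) (.node (.leaf ([(1, false), (0, true), (1, false), (0, false), (1, true), (1, true), (1, true), (0, true), (0, true), (1, false), (0, false), (1, true), (0, true), (1, true)])) (.leaf ([])))) (.node (.node (.leaf ([])) (.leaf ([]))) (.node (.leaf ([])) (.leaf ([(0, false), (1, false), (1, false), (0, true), (1, false), (1, false), (0, true), (1, false), (1, false), (0, false), (1, false), (0, false), (1, false), (0, true),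 (1, false)]))))) (.node (.node (.node (.leaf ([])) (.leaf ([]))) (.node (.leaf ([(0, true), (1, false), (1, false), (0, true), (0, true), (1, false), (0, false), (1, true), (0, true), (0, true), (1, false), (1, false), (0, false)])) (.leaf ([(1, false), (0, true), (1, true), (0, true), (1, false), (0, false), (1, true), (1, true), (0, true), (0, true), (1, true), (1, true), (0, true)])))) (.node (.node (.leaf ([])) (.leaf ([(1, true), (0, true), (1, true), (1, true), (0, true), (1, true), (1, true), (0, true), (1, false), (1, false), (0, false), (1, false), (0, false), (1, false), (0, true), (0, true)]))) (.node (.leaf ([])) (.leaf ([(0, false), (1, false), (0, true), (1, true), (0, false), (1, true), (0, true), (1, true), (0, false), (1, true), (0, false), (1, false), (0, true), (0, true)]))))))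

/-- data -/
def lab0_10001 : Trie (Word) := .node (.node (.node (.node (.node (.leaf ([])) (.leaf ([(0, true), (1, true), (0, true), (0, true), (1, false), (0, true), (0, true), (1, true), (0, true), (1, false), (0, false), (1, true), (0, false)]))) (.node (.leaf ([(0, true), (1, false), (0, true), (1, false), (0, false), (1, false), (1, false), (1, false), (0, false), (1, false), (0, true), (1, false), (0, true)])) (.leaf ([])))) (.node (.node (.leaf ([])) (.leaf ([(0, true), (1, false), (0, true), (0, true), (1, true), (0, false), (1, true), (1, true), (0, false), (1, false), (1, false), (0, false), (1, false), (1, false)]))) (.node (.leaf ([])) (.leaf ([(1, true), (0, true), (1, true), (0, true), (0, true), (1, false), (1, false), (0, false), (1, true), (0, true), (1, true), (0, true), (0, true), (1, true)]))))) (.node (.node (.node (.leaf ([(1, true)])) (.leaf ([(0, true), (1, false), (0, true), (0, true), (1, false), (0, true), (1, true), (0, false), (1,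 false), (1, false), (0, false), (1, false), (0, true), (0, true)]))) (.node (.leaf ([])) (.leaf ([(0, true), (1, true), (0, true), (1, true), (0, true), (0, true), (1, true), (1, true), (0, true), (0, true), (1, true), (0, true), (1, false)])))) (.node (.node (.leaf ([(0, true), (1, true), (0, false), (1, false), (0, true), (1, false), (0, true), (0, true), (1, true), (0, false), (1, true), (1, true), (0, true)])) (.leaf ([]))) (.node (.leaf ([])) (.leaf ([(1, true), (1, true), (1, true), (0, true), (0, true), (1, true), (0, false), (1, false), (0, true), (1, false), (1, false), (1, false), (0, true), (1, true)])))))) (.node (.node (.node (.node (.leaf ([])) (.leaf ([]))) (.node (.leaf ([(1, true), (0, false), (1, false), (1, false), (0, true), (0, true), (1, true), (1, true), (0, true), (1, false), (0, false)])) (.leaf ([])))) (.node (.node (.leaf ([])) (.leaf ([(1, false), (0, false), (1, false), (1, false), (1, false), (1, false), (0, true), (1, false), (0,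 true), (1, true), (1, true), (0, false), (1, true)]))) (.node (.leaf ([])) (.leaf ([]))))) (.node (.node (.node (.leaf ([])) (.leaf ([]))) (.node (.leaf ([])) (.leaf ([(0, true), (1, true), (0, false), (1, false), (1, false), (0, true), (1, true), (1, true), (0, false), (1, false), (0, true), (1, false), (0, false)])))) (.node (.node (.leaf ([(1, true), (0, true), (1, true), (1, true), (0, true), (1, true), (1, true), (0, true), (1, false), (1, false), (0, false), (1, false), (0, false), (1, false), (0, true), (0, true)])) (.leaf ([(0, true), (1, true), (1, true), (1, true), (0, false), (1, true), (0, false), (1, false), (0, false), (1, true), (1, true), (0, true), (0, true)]))) (.node (.leaf ([])) (.leaf ([(1, true), (0, true), (1, true), (0, false), (1, true), (0, false), (1, true), (1, true), (1, true), (0, false), (1, false), (1, false)]))))))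

/-- data -/
def lab0_10010 : Trie (Word) := .node (.node (.node (.node (.node (.leaf ([])) (.leaf ([]))) (.node (.leaf ([])) (.leaf ([])))) (.node (.node (.leaf ([])) (.leaf ([]))) (.node (.leaf ([])) (.leaf ([(0, true), (0, true), (1, false), (1, false), (0, true), (1, true), (0, true), (1, false), (0, true), (1, false), (1, false), (1, false), (0, false)]))))) (.node (.node (.node (.leaf ([])) (.leaf ([(1, false), (0, false), (1, true), (0, true), (1, true), (1, true), (0, true), (1, false), (0, true), (1, true)]))) (.node (.leaf ([])) (.leaf ([])))) (.node (.node (.leaf ([])) (.leaf ([]))) (.node (.leaf ([])) (.leaf ([(0, false), (1, false), (0, true), (1, false), (0, false), (1, false), (0, true), (1, false), (1, false), (0, true), (1, false), (0, true), (1, true), (1, true)])))))) (.node (.node (.node (.node (.leaf ([])) (.leaf ([(0, false), (1, false), (0, false), (1, true), (0, false), (1, false), (0, false), (1, true), (0, true), (0, true), (1, false),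 (0, true), (1, false)]))) (.node (.leaf ([])) (.leaf ([(0, false), (1, true), (0, true), (1, true), (0, true), (1, true), (0, false), (1, true), (0, true), (1, true), (0, true), (1, true), (0, true)])))) (.node (.node (.leaf ([])) (.leaf ([]))) (.node (.leaf ([])) (.leaf ([(1, true), (0, true), (0, true), (1, true), (1, true), (0, false), (1, true), (1, true), (0, false), (1, false), (0, true), (0, true), (1, false), (1, false)]))))) (.node (.node (.node (.leaf ([])) (.leaf ([]))) (.node (.leaf ([])) (.leaf ([(1, false), (0, true), (1, false), (0, false), (1, true), (1, true), (1, true), (0, true), (1, true), (0, false), (1, true), (0, false), (1, true), (0, true), (1, true)])))) (.node (.node (.leaf ([(1, true), (0, false), (1, false), (0, true), (0, true), (1, false), (1, false), (1, false), (0, false), (1, false), (0, true), (1, false), (0, false)])) (.leaf ([(1, false), (0, true), (1, true), (0, true), (1, true), (1, true), (0, true), (1, true), (1, true),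 (0, true), (1, false), (1, false), (1, false)]))) (.node (.leaf ([])) (.leaf ([(0, true), (1, true), (0, true), (0, true), (1, true), (0, true), (1, true), (0, true), (1, true), (1, true), (1, true), (0, false), (1, false), (1, false)]))))))

/-- data -/
def lab0_10011 : Trie (Word) := .node (.node (.node (.node (.node (.leaf ([])) (.leaf ([]))) (.node (.leaf ([])) (.leaf ([(1, true), (1, true), (0, true), (1, false), (0, true), (1, true), (1, true), (0, true), (1, false), (0, false), (1, true)])))) (.node (.node (.leaf ([])) (.leaf ([(0, true), (0, true), (1, true), (0, true), (1, true), (1, true), (0, true), (1, false), (0, false), (1, true), (0, true), (0, true), (1, true), (0, false)]))) (.node (.leaf ([])) (.leaf ([(0, false), (1, false), (0, true), (0, true), (1, false), (0, false), (1, true), (0, true), (1, true), (1, true), (1, true), (0, true), (1, true), (0, false), (1, true)]))))) (.node (.node (.node (.leaf ([])) (.leaf ([(1, false), (0, true), (1,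 true), (1, true), (0, false), (1, false), (1, false), (0, false), (1, false), (1, false), (0, false), (1, true), (0, false), (1, true)]))) (.node (.leaf ([])) (.leaf ([(1, true), (1, true), (0, true), (0, true), (1, false), (0, false), (1, false), (1, false), (0, false), (1, false), (0, true), (1, false), (1, false), (0, true), (0, true)])))) (.node (.node (.leaf ([])) (.leaf ([]))) (.node (.leaf ([])) (.leaf ([(0, true), (1, true), (0, false), (1, true), (0, true), (1, false), (1, false), (0, false), (1, true), (1, true), (0, true), (1, false), (0, false)])))))) (.node (.node (.node (.node (.leaf ([])) (.leaf ([]))) (.node (.leaf ([])) (.leaf ([])))) (.node (.node (.leaf ([])) (.leaf ([]))) (.node (.leaf ([(0, true), (1, false), (1, false), (1, false), (1, false), (0, false), (1, false), (1, false), (1, false), (1, false), (1, false), (0, true)])) (.leaf ([(1, true), (0, false), (1, true), (0, true), (0, true), (1, true), (0, false), (1, true), (0, true), (1,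 false), (0, false), (1, false), (0, true), (1, true)]))))) (.node (.node (.node (.leaf ([])) (.leaf ([(1, true), (0, true), (0, true), (1, false), (0, false), (1, true), (0, true), (1, true), (0, true), (0, true), (1, false), (0, true), (1, false)]))) (.node (.leaf ([])) (.leaf ([(0, false), (1, false), (0, true), (1, false), (1, false), (1, false), (0, true), (1, true), (0, true), (1, false), (0, false), (1, true), (1, true), (0, false)])))) (.node (.node (.leaf ([])) (.leaf ([]))) (.node (.leaf ([(0, true), (1, true), (1, true), (0, true), (1, true), (0, true), (0, true), (1, true), (0, true), (1, false), (1, false), (0, true), (1, false), (1, false), (1, false)])) (.leaf ([(0, false), (1, true), (1, true), (0, false), (1, true), (0, false), (1, false), (0, false), (1, true), (0, false), (1, true)]))))))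

/-- data -/
def lab0_10100 : Trie (Word) := .node (.node (.node (.node (.node (.leaf ([])) (.leaf ([]))) (.node (.leaf ([])) (.leaf ([])))) (.node (.node (.leaf ([])) (.leaf ([(1, true), (0, false), (1, false), (0, true), (1, true), (0, false), (1, true), (0, true), (1, true), (1, true), (1, true), (1, true), (0, false)]))) (.node (.leaf ([])) (.leaf ([(1, true), (1, true), (0, true), (1, false), (1, false), (0, false), (1, true), (0, false), (1, true), (1, true), (0, true), (1, false), (1, false), (0, true)]))))) (.node (.node (.node (.leaf ([])) (.leaf ([]))) (.node (.leaf ([])) (.leaf ([(0, false), (1, false), (0, true), (1, true), (0, true), (0, true), (1, false), (0, false), (1, false), (1, false), (1, false), (0, false), (1, false), (0, true)])))) (.node (.node (.leaf ([(1, true), (1, true), (0, true), (0, true), (1, true), (1, true), (1, true), (1, true), (0, true), (1, false), (0, true), (1, true), (0, true), (1, true), (0, false)])) (.leaf ([]))) (.node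 (.leaf ([])) (.leaf ([(0, true), (1, false), (1, false), (1, false), (0, true), (1, false), (0, false), (1, false), (0, false), (1, true), (1, true), (0, false), (1, false)])))))) (.node (.node (.node (.node (.leaf ([])) (.leaf ([(0, true), (1, true), (0, true), (1, true), (0, true), (1, true), (0, false), (1, true), (0, true), (1, false), (0, true), (1, false), (0, false), (1, false)]))) (.node (.leaf ([])) (.leaf ([])))) (.node (.node (.leaf ([])) (.leaf ([]))) (.node (.leaf ([])) (.leaf ([]))))) (.node (.node (.node (.leaf ([])) (.leaf ([]))) (.node (.leaf ([])) (.leaf ([(0, true), (1, false), (1, false), (0, true), (1, true), (0, false), (1, false), (0, false), (1, true), (1, true), (1, true), (0, false), (1, true), (0, true)])))) (.node (.node (.leaf ([])) (.leaf ([]))) (.node (.leaf ([(1, true), (1, true), (0, true), (1, true), (1, true), (0, true), (1, false), (1, false), (0, true), (1, false), (0, true), (0, true), (1, true), (0, false)])) (.leaf ([(1,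 false), (1, false), (0, true), (1, false), (0, true), (1, false), (1, false), (1, false), (0, true), (1, true), (0, true), (1, true), (1, true), (1, true)]))))))

/-- data -/
def lab0_10101 : Trie (Word) := .node (.node (.node (.node (.node (.leaf ([])) (.leaf ([(0, false), (1, false), (0, false), (1, false), (1, false), (0, false), (1, true), (1, true), (1, true), (0, true), (0, true), (1, false), (0, false), (1, true)]))) (.node (.leaf ([])) (.leaf ([(0, true), (1, false), (1, false), (0, true), (0, true), (1, false), (0, true), (1, true), (0, false), (1, false), (1, false), (1, false)])))) (.node (.node (.leaf ([])) (.leaf ([]))) (.node (.leaf ([(0, false), (1, false), (1, false), (1, false), (0, true), (1, true), (1, true), (1, true), (0, false), (1, false), (0, true), (1, false), (1, false), (1, false)])) (.leaf ([(1, true), (0, true), (1, false), (0, false), (1, true), (0, false), (1, true), (0, true), (1, false)]))))) (.node (.node (.node (.leaf ([]))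 (.leaf ([]))) (.node (.leaf ([(0, false), (1, false), (0, false), (1, true), (1, true), (1, true), (1, true), (0, true), (0, true), (1, false), (1, false)])) (.leaf ([])))) (.node (.node (.leaf ([(0, true), (1, true), (1, true), (0, true), (1, true), (0, true), (0, true), (1, true), (1, true), (1, true), (0, false), (1, true), (1, true), (0, false), (1, false)])) (.leaf ([(1, false), (0, true), (1, true), (0, true), (1, true), (1, true), (0, true), (0, true), (1, true), (1, true), (0, false), (1, true), (0, true)]))) (.node (.leaf ([])) (.leaf ([])))))) (.node (.node (.node (.node (.leaf ([])) (.leaf ([(1, true), (1, true), (1, true), (0, false), (1, true), (0, true), (1, false), (1, false), (1, false), (0, false), (1, true), (1, true), (1, true), (0, true)]))) (.node (.leaf ([])) (.leaf ([(0, false), (1, true), (0, true), (1, false), (0, true), (1, true), (1, true), (0, true), (1, true), (1, true), (0, true), (0, true), (1, true)])))) (.node (.node (.leaf ([]))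 (.leaf ([]))) (.node (.leaf ([])) (.leaf ([(1, true), (0, true), (1, true), (1, true), (1, true), (0, true), (1, true), (0, true), (1, true), (0, true), (0, true), (1, false), (1, false)]))))) (.node (.node (.node (.leaf ([])) (.leaf ([(1, false), (0, true), (0, true), (1, true), (1, true), (1, true), (0, true), (1, false), (1, false), (0, true), (1, true)]))) (.node (.leaf ([])) (.leaf ([])))) (.node (.node (.leaf ([])) (.leaf ([]))) (.node (.leaf ([])) (.leaf ([(0, true), (1, true), (0, true), (1, false), (1, false), (1, false), (1, false), (0, false), (1, false), (0, true), (1, true), (1, true), (0, false), (1, true)]))))))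

/-- data -/
def lab0_10110 : Trie (Word) := .node (.node (.node (.node (.node (.leaf ([])) (.leaf ([]))) (.node (.leaf ([])) (.leaf ([(0, true), (0, true), (1, true), (0, true), (1, false), (1, false), (0, true), (0, true), (1, true), (0, false), (1, true), (1, true), (0, false)])))) (.node (.node (.leaf ([])) (.leaf ([]))) (.node (.leaf ([])) (.leaf ([(1, true), (0, false), (1, false), (0, false), (1, false), (0, true), (1, true), (0, true), (1, false), (0, true), (1, true), (0, true), (1, false), (0, true), (1, true)]))))) (.node (.node (.node (.leaf ([])) (.leaf ([]))) (.node (.leaf ([])) (.leaf ([(0, false), (1, false), (0, true), (1, true), (0, true), (0, true), (1, false), (1, false), (1, false), (0, false), (1, false), (0, true), (0, true)])))) (.node (.node (.leaf ([(1, true), (0, true), (1, true), (0, false), (1, false), (0, false), (1, true), (1, true), (0, false), (1, true), (0, false), (1, true), (1, true), (0, false)])) (.leaf ([]))) (.node (.leaf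 ([(0, false), (1, false), (1, false), (0, true), (1, false), (0, true), (0, true), (1, true), (0, false), (1, true), (0, true), (1, false), (0, false)])) (.leaf ([(0, false), (1, true), (0, true), (1, true), (1, true), (0, false), (1, false), (1, false), (0, false), (1, true), (0, true), (1, true), (1, true), (0, true)])))))) (.node (.node (.node (.node (.leaf ([])) (.leaf ([(1, true), (0, true), (1, true), (0, false), (1, true), (0, false), (1, false), (0, true), (1, false), (0, false), (1, false), (0, false), (1, false), (0, false)]))) (.node (.leaf ([])) (.leaf ([])))) (.node (.node (.leaf ([])) (.leaf ([(0, false), (1, false), (0, false), (1, false), (0, false), (1, false), (0, true), (1, false), (0, false), (1, false), (0, false), (1, false), (0, true)]))) (.node (.leaf ([])) (.leaf ([(1, false), (0, true), (0, true), (1, true), (0, false), (1, true), (1, true), (0, false), (1, true), (0, true), (1, true), (1, true)]))))) (.node (.node (.node (.leaf ([]))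 (.leaf ([]))) (.node (.leaf ([])) (.leaf ([(1, false), (1, false), (0, false), (1, false), (1, false), (0, false), (1, true), (0, false), (1, false), (0, true), (1, false), (0, true), (1, true), (0, true)])))) (.node (.node (.leaf ([])) (.leaf ([]))) (.node (.leaf ([])) (.leaf ([]))))))

/-- data -/
def lab0_10111 : Trie (Word) := .node (.node (.node (.node (.node (.leaf ([])) (.leaf ([(1, true), (1, true), (0, true), (0, true), (1, true), (0, false), (1, true), (0, false), (1, false), (0, false), (1, true), (0, false), (1, false), (1, false), (0, true)]))) (.node (.leaf ([])) (.leaf ([(1, true), (0, true), (1, true), (1, true), (0, true), (0, true), (1, true), (0, true), (1, false), (0, false), (1, false), (0, false), (1, false)])))) (.node (.node (.leaf ([])) (.leaf ([(0, true), (1, false), (0, false), (1, false), (0, true), (1, false), (1, false), (1, false), (0, true), (1, true), (0, true), (1, false), (0, false), (1, false), (0, false)]))) (.node (.leaf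 ([(0, true), (1, true), (1, true), (0, false), (1, false), (0, false), (1, true), (0, false), (1, true), (1, true), (0, false), (1, false), (0, false)])) (.leaf ([]))))) (.node (.node (.node (.leaf ([])) (.leaf ([]))) (.node (.leaf ([])) (.leaf ([])))) (.node (.node (.leaf ([])) (.leaf ([]))) (.node (.leaf ([])) (.leaf ([(1, false), (1, false), (1, false), (0, true), (0, true), (1, false), (0, true), (1, true), (0, false), (1, true), (0, false), (1, true), (0, false)])))))) (.node (.node (.node (.node (.leaf ([])) (.leaf ([(1, true), (1, true), (0, true), (0, true), (1, false), (1, false), (1, false), (1, false), (0, true), (1, true), (0, true)]))) (.node (.leaf ([])) (.leaf ([(1, true), (1, true), (1, true), (0, true), (1, false), (0, true), (0, true), (1, true), (0, false), (1, true), (1, true), (0, true), (1, false), (1, false), (0, true)])))) (.node (.node (.leaf ([])) (.leaf ([]))) (.node (.leaf ([])) (.leaf ([(0, false), (1, false), (1, false), (0, true),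 (1, false), (0, false), (1, true), (1, true), (1, true), (1, true), (0, false), (1, true), (0, false), (1, true), (0, true)]))))) (.node (.node (.node (.leaf ([])) (.leaf ([(1, true), (1, true), (0, false), (1, true), (0, false), (1, true), (0, true), (1, false), (1, false), (1, false), (0, true), (1, false), (0, true), (0, true)]))) (.node (.leaf ([(1, true), (1, true), (0, true), (1, true), (1, true), (1, true), (0, false), (1, true), (1, true), (1, true), (0, false), (1, false), (0, true), (0, true)])) (.leaf ([])))) (.node (.node (.leaf ([])) (.leaf ([(1, true), (0, true), (1, false), (0, true), (1, false), (0, true), (1, true), (1, true), (1, true), (0, true), (1, false), (0, true), (1, false), (0, false), (1, true)]))) (.node (.leaf ([])) (.leaf ([(1, true), (0, true), (0, true), (1, false), (0, true), (0, true), (1, false), (0, false), (1, false), (0, true), (1, false), (1, false), (0, true)]))))))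

/-- data -/
def lab0_11000 : Trie (Word) := .node (.node (.node (.node (.node (.leaf ([])) (.leaf ([(1, true), (0, true), (1, false), (1, false), (1, false), (0, true), (1, false), (0, true), (1, true), (0, false), (1, false), (0, true), (1, true), (0, true)]))) (.node (.leaf ([])) (.leaf ([])))) (.node (.node (.leaf ([])) (.leaf ([(1, false), (1, false), (1, false), (0, true), (1, true), (1, true), (0, true), (1, false), (0, false), (1, false), (0, false), (1, false)]))) (.node (.leaf ([])) (.leaf ([]))))) (.node (.node (.node (.leaf ([])) (.leaf ([(0, false), (1, true), (0, false), (1, false), (0, true), (1, false), (0, false), (1, true), (0, false), (1, true), (0, true)]))) (.node (.leaf ([])) (.leaf ([(0, false), (1, true), (1, true), (1, true), (1, true), (1, true), (0, true), (1, true), (1, true), (1, true), (1, true), (0, false)])))) (.node (.node (.leaf ([])) (.leaf ([(0, false), (1, false), (0, true), (1, false), (0, true), (1, true), (0, false), (1,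 true), (0, true), (1, true), (0, true), (0, true), (1, false), (0, true)]))) (.node (.leaf ([])) (.leaf ([(0, true), (1, false), (0, true), (0, true), (1, true), (1, true), (0, true), (1, false), (1, false), (0, true), (1, true), (0, false), (1, true), (0, true)])))))) (.node (.node (.node (.node (.leaf ([])) (.leaf ([]))) (.node (.leaf ([])) (.leaf ([])))) (.node (.node (.leaf ([])) (.leaf ([]))) (.node (.leaf ([])) (.leaf ([(0, true), (1, false), (0, true), (1, false), (0, true), (1, true), (0, false), (1, false), (0, false), (1, true), (0, true), (1, true), (0, false)]))))) (.node (.node (.node (.leaf ([])) (.leaf ([(1, false), (0, true), (0, true), (1, false), (0, false), (1, false), (0, true), (1, true), (1, true), (0, true), (0, true), (1, false), (0, false), (1, false)]))) (.node (.leaf ([])) (.leaf ([])))) (.node (.node (.leaf ([])) (.leaf ([]))) (.node (.leaf ([(0, false), (1, false), (0, false), (1, false), (1, false), (0, false), (1, true), (0, true),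 (1, false), (0, false), (1, false), (0, true), (1, false)])) (.leaf ([(1, false), (1, false), (0, false), (1, false), (0, true), (1, false), (1, false), (0, true), (1, false), (0, true), (0, true), (1, true)]))))))

/-- data -/
def lab0_11001 : Trie (Word) := .node (.node (.node (.node (.node (.leaf ([])) (.leaf ([(0, true), (1, true), (0, false), (1, false), (1, false), (0, true), (0, true), (1, true), (1, true), (1, true), (0, false), (1, false), (0, false)]))) (.node (.leaf ([])) (.leaf ([(0, false), (1, false), (0, false), (1, true), (0, true), (1, false), (0, false), (1, true), (0, false), (1, true), (1, true), (1, true), (0, false), (1, false)])))) (.node (.node (.leaf ([])) (.leaf ([(1, false), (0, true), (0, true), (1, true), (1, true), (0, true), (1, false), (0, true), (0, true), (1, false), (0, false), (1, false), (1, false)]))) (.node (.leaf ([])) (.leaf ([(1, false), (1, false), (0, false), (1, false), (1, false), (0, false), (1, false), (1, false),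 (1, false), (1, false), (1, false), (0, false), (1, false), (1, false)]))))) (.node (.node (.node (.leaf ([])) (.leaf ([]))) (.node (.leaf ([])) (.leaf ([(0, false), (1, false), (0, false), (1, false), (0, false), (1, true), (0, true), (0, true), (1, false), (1, false), (0, false), (1, true), (1, true), (1, true), (0, false)])))) (.node (.node (.leaf ([(1, false)])) (.leaf ([(0, true), (1, false), (0, true), (1, false), (0, true), (1, false), (0, false), (1, true), (0, true), (0, true), (1, true), (1, true), (1, true)]))) (.node (.leaf ([])) (.leaf ([])))))) (.node (.node (.node (.node (.leaf ([])) (.leaf ([]))) (.node (.leaf ([(0, true), (0, true), (1, false), (0, true), (1, false), (0, true), (1, false), (1, false), (0, true), (0, true), (1, true), (1, true), (0, false)])) (.leaf ([(1, false), (0, true), (0, true), (1, false), (0, true), (1, true), (0, false), (1, true), (0, false), (1, false), (1, false), (1, false), (0, true), (0, true)])))) (.node (.node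 (.leaf ([])) (.leaf ([]))) (.node (.leaf ([])) (.leaf ([]))))) (.node (.node (.node (.leaf ([])) (.leaf ([(0, true), (1, false), (1, false), (1, false), (0, true), (0, true), (1, false), (1, false), (1, false), (1, false), (1, false), (0, false)]))) (.node (.leaf ([(0, true), (1, true), (0, true), (1, false), (0, false), (1, false), (1, false), (1, false), (1, false), (0, true), (0, true), (1, false), (1, false), (0, false)])) (.leaf ([(1, false), (0, true), (1, false), (0, true), (1, false), (0, false), (1, true), (0, false), (1, false), (1, false), (1, false), (0, true), (1, true), (0, true)])))) (.node (.node (.leaf ([(0, true), (1, true), (0, false), (1, false), (0, false), (1, true), (0, true), (0, true), (1, false), (0, false), (1, false), (0, false), (1, false), (0, true)])) (.leaf ([(1, false), (1, false), (0, true), (1, true), (0, true), (0, true), (1, false), (0, true), (0, true), (1, true), (1, true), (0, false)]))) (.node (.leaf ([(0, true), (1,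 true), (0, false), (1, false), (1, false), (0, false), (1, true), (0, false), (1, false), (0, true), (1, true)])) (.leaf ([(0, true), (0, true), (1, false), (0, false), (1, true), (0, true), (1, true), (1, true), (0, true), (1, false), (0, false), (1, true), (0, false)]))))))

/-- data -/
def lab0_11010 : Trie (Word) := .node (.node (.node (.node (.node (.leaf ([])) (.leaf ([(0, false), (1, true), (1, true), (1, true), (0, true), (0, true), (1, true), (0, false), (1, true), (0, true), (1, false), (1, false), (0, true), (0, true), (1, true)]))) (.node (.leaf ([])) (.leaf ([])))) (.node (.node (.leaf ([])) (.leaf ([]))) (.node (.leaf ([(0, true), (1, true), (0, false), (1, true), (0, true), (1, true), (1, true), (1, true), (0, true), (0, true), (1, true), (0, true), (1, false)])) (.leaf ([(0, true), (0, true), (1, false), (0, true), (0, true), (1, false), (0, true), (1, false), (1, false), (0, true), (0, true), (1, true)]))))) (.node (.node (.node (.leaf ([]))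 (.leaf ([(1, false), (0, false), (1, false), (0, true), (1, true), (0, true), (0, true), (1, false), (1, false), (1, false), (0, true), (1, true), (0, false), (1, true)]))) (.node (.leaf ([])) (.leaf ([(1, true), (1, true), (0, false), (1, false), (0, false), (1, true), (0, true), (1, false), (0, false), (1, false), (1, false), (0, true), (0, true)])))) (.node (.node (.leaf ([])) (.leaf ([]))) (.node (.leaf ([])) (.leaf ([(0, false), (1, false), (0, false), (1, true), (1, true), (0, false), (1, false), (0, true), (1, true), (1, true), (1, true), (0, false), (1, false), (0, false)])))))) (.node (.node (.node (.node (.leaf ([])) (.leaf ([]))) (.node (.leaf ([(0, false), (1, false), (0, false), (1, true), (1, true), (0, false), (1, false), (0, true), (1, false), (0, true), (1, true), (0, false), (1, true), (0, true)])) (.leaf ([])))) (.node (.node (.leaf ([])) (.leaf ([(1, false), (1, false), (0, false), (1, true), (1, true), (1, true), (0, false), (1, false),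 (1, false), (1, false), (0, true), (1, true), (1, true), (1, true)]))) (.node (.leaf ([(1, true), (0, false), (1, false), (0, false), (1, true), (0, true), (1, true), (1, true), (0, true), (0, true), (1, false), (0, true), (1, true), (0, false)])) (.leaf ([]))))) (.node (.node (.node (.leaf ([])) (.leaf ([]))) (.node (.leaf ([])) (.leaf ([(0, true), (0, true), (1, true), (1, true), (1, true), (1, true), (1, true), (0, true), (1, false), (1, false), (0, true)])))) (.node (.node (.leaf ([])) (.leaf ([]))) (.node (.leaf ([])) (.leaf ([(1, false), (0, true), (1, true), (0, true), (1, false), (1, false), (0, false), (1, false), (0, true), (0, true), (1, false), (0, true), (1, true), (0, true), (1, true)]))))))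

/-- data -/
def lab0_11011 : Trie (Word) := .node (.node (.node (.node (.node (.leaf ([])) (.leaf ([]))) (.node (.leaf ([(0, false), (1, true), (1, true), (0, false), (1, false), (0, true), (1, false), (1, false), (1, false), (1, false), (0, false), (1, false), (0, false)])) (.leaf ([(0, true), (0, true)])))) (.node (.node (.leaf ([])) (.leaf ([]))) (.node (.leaf ([])) (.leaf ([]))))) (.node (.node (.node (.leaf ([])) (.leaf ([]))) (.node (.leaf ([])) (.leaf ([])))) (.node (.node (.leaf ([])) (.leaf ([(1, false), (0, true), (0, true), (1, false), (0, true), (1, true), (1, true), (0, true), (0, true), (1, false), (1, false), (1, false)]))) (.node (.leaf ([(0, true), (1, false), (0, false), (1, false), (0, false), (1, true), (1, true), (0, true), (1, false), (0, false), (1, true), (1, true), (0, false), (1, true)])) (.leaf ([(0, false), (1, true), (0, false), (1, false), (0, true), (1, false), (0, true), (1, false), (1, false), (0, true), (1, true)])))))) (.node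 (.node (.node (.node (.leaf ([])) (.leaf ([(1, true), (1, true), (1, true), (0, false), (1, false), (0, false), (1, false), (1, false), (1, false), (0, true), (1, true), (0, true), (1, true), (1, true), (1, true)]))) (.node (.leaf ([])) (.leaf ([])))) (.node (.node (.leaf ([])) (.leaf ([]))) (.node (.leaf ([(1, true), (0, true), (1, false), (1, false), (0, true), (1, false), (0, false), (1, false), (0, true), (1, true), (0, true), (1, true), (0, false), (1, true)])) (.leaf ([(1, true), (0, true), (1, false), (0, false), (1, true), (0, true), (1, true), (0, false), (1, true), (0, true), (1, false), (1, false), (0, false), (1, false)]))))) (.node (.node (.node (.leaf ([])) (.leaf ([]))) (.node (.leaf ([])) (.leaf ([(1, false), (1, false), (0, true), (1, true), (1, true), (0, true), (0, true), (1, true), (1, true), (0, true), (1, true), (0, true), (1, true)])))) (.node (.node (.leaf ([])) (.leaf ([(0, false), (1, false), (0, true), (1, false), (0, false), (1, true),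 (1, true), (0, false), (1, true), (0, false), (1, true), (1, true), (1, true)]))) (.node (.leaf ([])) (.leaf ([]))))))

/-- data -/
def lab0_11100 : Trie (Word) := .node (.node (.node (.node (.node (.leaf ([])) (.leaf ([(1, true), (0, true), (1, true), (0, true), (1, true), (0, false), (1, false), (1, false), (0, false), (1, true), (1, true), (1, true)]))) (.node (.leaf ([])) (.leaf ([(0, false), (1, false), (0, false), (1, true), (0, true), (0, true), (1, false), (0, true), (1, true), (0, true), (1, true), (1, true), (1, true), (0, true)])))) (.node (.node (.leaf ([])) (.leaf ([(0, false), (1, true), (0, true), (1, false), (1, false), (1, false), (0, true), (0, true), (1, true), (1, true), (1, true), (0, false), (1, false), (0, true)]))) (.node (.leaf ([])) (.leaf ([(1, false), (0, false), (1, true), (1, true), (1, true), (1, true), (0, true), (0, true), (1, false), (0, true), (1, true), (0, true)]))))) (.node (.node (.node (.leaf ([])) (.leaf ([(1, false),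 (0, true), (1, false), (0, true), (1, true), (0, false), (1, true), (0, false), (1, true), (0, true), (1, true), (1, true), (0, true)]))) (.node (.leaf ([(1, true), (0, true), (1, false), (1, false), (0, true), (1, true), (0, false), (1, true), (1, true), (1, true), (0, true), (1, true), (1, true)])) (.leaf ([(1, true), (0, false), (1, true), (1, true), (1, true), (1, true), (0, true), (1, false), (0, false), (1, false), (0, true), (1, true)])))) (.node (.node (.leaf ([(1, false), (0, false), (1, true), (0, false), (1, true), (0, false), (1, false), (1, false), (0, true), (1, true), (1, true), (0, false), (1, false)])) (.leaf ([]))) (.node (.leaf ([])) (.leaf ([(1, false), (1, false), (0, true), (0, true), (1, true), (1, true), (0, true), (1, true), (0, true), (1, true), (0, false), (1, false), (1, false), (0, false)])))))) (.node (.node (.node (.node (.leaf ([])) (.leaf ([(0, false), (1, false), (0, false), (1, true), (0, true), (1, false), (1, false), (1,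 false), (0, false), (1, false), (1, false), (0, false)]))) (.node (.leaf ([])) (.leaf ([(0, true), (0, true), (1, false), (0, true), (0, true), (1, true), (0, false), (1, true), (0, true), (1, false), (0, true), (1, false), (0, true)])))) (.node (.node (.leaf ([])) (.leaf ([]))) (.node (.leaf ([(1, true), (1, true), (0, true), (1, true), (1, true), (1, true), (1, true), (1, true), (0, true), (1, true), (1, true), (0, true), (1, true), (1, true)])) (.leaf ([(1, false), (0, true), (1, false), (0, false), (1, false), (0, false), (1, true), (0, true), (1, false), (0, false), (1, true), (0, false), (1, true)]))))) (.node (.node (.node (.leaf ([])) (.leaf ([(0, false), (1, true), (0, true), (1, false), (1, false), (1, false), (0, true), (0, true), (1, true), (1, true), (1, true), (0, false), (1, false), (0, true)]))) (.node (.leaf ([])) (.leaf ([(0, false), (1, false), (0, true), (0, true), (1, false), (1, false), (1, false), (0, true), (1, false), (0, false), (1,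 false), (0, true), (1, false), (0, true), (1, true)])))) (.node (.node (.leaf ([])) (.leaf ([(0, true), (0, true), (1, true), (0, false), (1, false), (0, true), (0, true), (1, true), (0, false), (1, false), (0, true), (1, true), (1, true), (0, false), (1, true)]))) (.node (.leaf ([])) (.leaf ([(1, false), (0, false), (1, true), (0, false), (1, false), (0, false), (1, true), (0, false), (1, false), (0, false), (1, true), (0, true), (1, true), (0, true), (1, false)]))))))

/-- data -/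
def lab0_11101 : Trie (Word) := .node (.node (.node (.node (.node (.leaf ([])) (.leaf ([]))) (.node (.leaf ([])) (.leaf ([])))) (.node (.node (.leaf ([])) (.leaf ([(0, true), (1, true), (1, true), (1, true), (1, true), (1, true), (0, true), (0, true), (1, true), (1, true), (1, true), (0, false)]))) (.node (.leaf ([])) (.leaf ([(1, true), (1, true), (0, true), (1, false), (1, false), (1, false), (0, true), (1, false), (0, true), (1, false), (0, false), (1, false)]))))) (.node (.node (.node (.leaf ([])) (.leaf ([]))) (.node (.leaf ([])) (.leaf ([])))) (.node (.node (.leaf ([])) (.leaf ([]))) (.node (.leaf ([(1, false), (0, true), (1, false), (0, false), (1, false), (0, false), (1, true), (0, true), (1, true), (0, false), (1, true), (1, true), (0, false), (1, false)])) (.leaf ([])))))) (.node (.node (.node (.node (.leaf ([])) (.leaf ([]))) (.node (.leaf ([(1, true), (1, true), (0, true), (1, true), (0, false), (1, false), (0, false), (1, false), (0, false), (1,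 false), (0, true), (1, false), (0, true), (0, true)])) (.leaf ([(0, false), (1, false), (0, true), (0, true), (1, true), (0, true), (1, false), (1, false), (0, true), (1, true), (0, true), (1, true), (1, true), (1, true), (1, true)])))) (.node (.node (.leaf ([])) (.leaf ([]))) (.node (.leaf ([])) (.leaf ([(1, true), (0, true), (1, true), (0, true), (1, true), (0, false), (1, false), (0, true), (0, true), (1, false), (1, false), (0, false), (1, false)]))))) (.node (.node (.node (.leaf ([])) (.leaf ([(0, true), (1, false), (1, false), (0, true), (0, true), (1, true), (0, true), (0, true), (1, false), (0, false), (1, true), (1, true)]))) (.node (.leaf ([])) (.leaf ([(0, false), (1, true), (1, true), (0, false), (1, true), (0, true), (1, true), (0, true), (0, true), (1, true), (0, true), (0, true), (1, false)])))) (.node (.node (.leaf ([])) (.leaf ([(0, true), (1, false), (1, false), (0, true), (1, true), (1, true), (1, true), (0, true), (1, false), (1, false),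 (1, false), (0, true), (0, true), (1, false), (0, false)]))) (.node (.leaf ([])) (.leaf ([(0, true), (1, false), (0, false), (1, false), (0, true), (1, true), (0, true), (1, false), (0, false), (1, true), (0, false), (1, true), (0, false)]))))))

/-- data -/
def lab0_11110 : Trie (Word) := .node (.node (.node (.node (.node (.leaf ([])) (.leaf ([]))) (.node (.leaf ([])) (.leaf ([])))) (.node (.node (.leaf ([])) (.leaf ([(1, true), (0, false), (1, true), (0, true), (1, true), (0, false), (1, false), (0, true), (1, true), (1, true), (0, true), (1, true), (0, true)]))) (.node (.leaf ([])) (.leaf ([(1, false), (0, false), (1, true), (0, true), (1, false), (0, true), (1, true), (1, true), (0, true), (1, false), (0, false)]))))) (.node (.node (.node (.leaf ([])) (.leaf ([(1, true), (0, false), (1, true), (1, true), (0, true), (1, true), (0, true), (1, true), (0, true), (1, true), (0, true)]))) (.node (.leaf ([(0, true), (0, true), (1, false), (1, false), (0, true),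 (1, false), (1, false), (0, true), (1, true), (1, true), (0, false), (1, true), (1, true)])) (.leaf ([(0, true), (1, false), (0, true), (1, true), (0, false), (1, true), (0, false), (1, false), (0, true), (0, true), (1, true), (1, true), (0, false), (1, true)])))) (.node (.node (.leaf ([])) (.leaf ([(0, false), (1, true), (1, true), (0, true), (1, true), (1, true), (0, false), (1, false), (1, false), (0, false), (1, true), (0, true), (1, true), (0, false), (1, false)]))) (.node (.leaf ([])) (.leaf ([(0, false), (1, true), (0, true), (1, false), (1, false), (0, true), (1, false), (0, true), (1, false), (1, false), (1, false), (0, false), (1, true), (1, true)])))))) (.node (.node (.node (.node (.leaf ([])) (.leaf ([]))) (.node (.leaf ([])) (.leaf ([])))) (.node (.node (.leaf ([])) (.leaf ([(0, false), (1, false), (1, false), (1, false), (0, false), (1, false), (0, false), (1, true), (0, true), (0, true), (1, false), (0, true), (1, true), (0, true)]))) (.node (.leaf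 ([])) (.leaf ([]))))) (.node (.node (.node (.leaf ([])) (.leaf ([]))) (.node (.leaf ([])) (.leaf ([(0, false), (1, true), (0, true), (0, true), (1, true), (0, true), (0, true), (1, true), (0, true), (1, true), (0, true), (0, true), (1, false), (0, true), (1, false)])))) (.node (.node (.leaf ([])) (.leaf ([(1, false), (0, true), (1, false), (1, false), (0, true), (1, true), (0, false), (1, false), (1, false), (0, true), (1, true), (0, true), (1, true), (0, false)]))) (.node (.leaf ([])) (.leaf ([(0, true), (0, true), (1, true), (0, true), (1, false), (0, true), (0, true), (1, true), (0, true), (1, false), (1, false), (0, true), (0, true), (1, true), (0, false)]))))))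

/-- data -/
def lab0_11111 : Trie (Word) := .node (.node (.node (.node (.node (.leaf ([])) (.leaf ([(1, true), (0, true), (0, true), (1, true), (0, false), (1, true), (1, true), (1, true), (0, true), (1, false), (0, false), (1, true), (0, true), (1, false), (0, false)]))) (.node (.leaf ([(1, false), (0, false), (1, true), (0, true), (0, true), (1, false), (0, true), (1, true), (0, false), (1, false), (1, false), (0, true), (0, true)])) (.leaf ([])))) (.node (.node (.leaf ([])) (.leaf ([]))) (.node (.leaf ([])) (.leaf ([]))))) (.node (.node (.node (.leaf ([])) (.leaf ([]))) (.node (.leaf ([(1, true), (0, false), (1, false), (1, false), (0, true), (0, true), (1, true), (1, true), (0, true), (1, false), (0, false)])) (.leaf ([(0, true), (1, false), (0, false), (1, true), (0, true), (1, true), (1, true), (0, true), (0, true), (1, true), (1, true), (1, true), (1, true)])))) (.node (.node (.leaf ([])) (.leaf ([(0, false), (1, true), (1, true), (0, false), (1, true),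 (0, true), (0, true), (1, false), (1, false), (1, false), (1, false), (0, true)]))) (.node (.leaf ([])) (.leaf ([(1, false), (0, false), (1, true), (1, true), (0, false), (1, true), (0, false), (1, true), (0, true), (1, false), (0, true)])))))) (.node (.node (.node (.node (.leaf ([])) (.leaf ([]))) (.node (.leaf ([])) (.leaf ([])))) (.node (.node (.leaf ([])) (.leaf ([(1, true), (0, false), (1, true), (0, true), (0, true), (1, false), (0, true), (1, true), (0, true), (1, false), (0, true), (1, true), (0, true)]))) (.node (.leaf ([])) (.leaf ([(0, false), (1, true), (0, false), (1, false), (0, true), (0, true), (1, false), (1, false), (0, false), (1, false), (1, false), (0, true), (1, false), (0, true)]))))) (.node (.node (.node (.leaf ([])) (.leaf ([(0, true), (1, true), (1, true), (0, true), (1, true), (1, true), (1, true), (0, false), (1, false), (0, true), (1, true), (0, true)]))) (.node (.leaf ([])) (.leaf ([])))) (.node (.node (.leaf ([])) (.leaf ([])))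 (.node (.leaf ([])) (.leaf ([(0, false), (1, true), (0, true), (1, false), (1, false), (1, false), (1, false), (0, true), (1, false), (1, false), (1, false), (0, true), (1, true), (0, false), (1, false)]))))))

/-- data -/
def lab0 : Trie (Word) := .node (.node (.node (.node (.node (lab0_00000) (lab0_00001)) (.node (lab0_00010) (lab0_00011))) (.node (.node (lab0_00100) (lab0_00101)) (.node (lab0_00110) (lab0_00111)))) (.node (.node (.node (lab0_01000) (lab0_01001)) (.node (lab0_01010) (lab0_01011))) (.node (.node (lab0_01100) (lab0_01101)) (.node (lab0_01110) (lab0_01111))))) (.node (.node (.node (.node (lab0_10000) (lab0_10001)) (.node (lab0_10010) (lab0_10011))) (.node (.node (lab0_10100) (lab0_10101)) (.node (lab0_10110) (lab0_10111)))) (.node (.node (.node (lab0_11000) (lab0_11001)) (.node (lab0_11010) (lab0_11011))) (.node (.node (lab0_11100) (lab0_11101)) (.node (lab0_11110) (lab0_11111)))))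

/-- data -/
def val0_000000 : Trie (Vec) := .node (.node (.node (.node (.leaf ([])) (.leaf ([]))) (.node (.leaf ([14666, (-59091), (-99264), (-5619), (-21409), (-61570), 14681, 15480, (-5159), 0, 0, 0, 0, 0, 0, 0, 11586, 8363, (-4060), 7092, (-3097), (-3489), (-3458), 199, 11, 207, 185, (-128), 253, (-219), 493, (-463), (-163), (-514), (-256), 204, 267, 317, 343, 27, 19, (-32), (-13), (-12), (-2), (-2), (-2), (-4), 2, 12, (-1), 3, 0, (-2), 0, 2, 2, 0, (-2), 10, 0, 0, 0, 0, (-2), (-2), 0, (-4), 2, 2, 2, 2, 0, 0, 0, (-2), 4, 1, 0, 0, (-1)])) (.leaf ([0, 0, 0, 0, 0, 0, 0, 0, 0, 0, 0, 0, 0, 0, 0, 0, 0, 0, 0, 0, 0, 0, 0, 0, 0, 0, 0, 0, 0, 0, 0, 0, 0, 0, 0, 0, 0, 0, 0, 0, 0, 0, 1])))) (.node (.node (.leaf ([])) (.leaf ([0, 0, 0, 0, 0, 0, 0, 0, 0, 0, 0, 0, 0, 0, 0, 0, 0, 0, 0, 0, 0, 0, 0, 0, 0, 0, 0, 0, 0, 0, 0, 0, 0, 0, 0, 0, 0, 0, 0, 0, 0, 0, 1]))) (.node (.leaf ([])) (.leaf ([(-1951), 7446, 12566, 1099, 2594, 7876, (-1565), (-2128), 756, 0, 0, 0, 0, 0, 0, 0, (-1157),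 (-953), 475, (-751), 304, 330, 460, (-6), 0, (-19), (-12), 23, (-23), 19, (-40), 45, 20, 53, 17, (-20), (-32), (-30), (-35), (-7), (-1), 0, 1, 0, 0, 0, 0, 0, 0, 0, 0, 0, 0, 0, 0, 0, 0, 0, 0, 0, 0, 0, 0, 0, 0, 0, 0, 0, 0, 0, 0, 0, 0, 0, 0, 0, 0, 0, 0, (-1)]))))) (.node (.node (.node (.leaf ([])) (.leaf ([(-31023), 61121, 109121, (-32190), 19929, 53942, (-32359), 17411, (-8839), 0, 0, 0, 0, 0, 0, 0, (-34838), (-12570), 3753, (-10992), 8477, 12381, (-1479), (-1261), (-4), (-859), (-663), 550, (-983), 899, (-1870), 1706, 669, 1883, 1142, (-930), (-1055), (-1346), (-1252), (-88), (-106), 83, 42, 28, (-5), 1, 5, 10, (-4), (-32), 2, (-10), 0, 5, (-2), (-3), (-6), 0, 6, (-26), 2, (-2), 0, 2, 3, 4, 1, 16, (-4), (-4), (-10), (-5), 0, 1, 0, 5, (-11), (-6), (-2), (-2), 8]))) (.node (.leaf ([(-592), 3095, 5204, 664, 1233, 3354, (-679), (-919), 338, 0, 0, 0, 0, 0, 0, 0, (-473), (-355), 197, (-301), 145, 121, 170, (-6), (-1), (-10), (-8), 5, (-11), 10, (-17), 21, 7, 26, 12,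 (-8), (-13), (-15), (-15), 5, 1, 1, 1, 0, 0, 0, 0, 0, 0, 0, 0, 0, 0, 0, 0, 0, (-1)])) (.leaf ([0, 0, 0, 0, 0, 0, 0, 0, 0, 0, 0, 0, 0, 0, 0, 0, 0, 0, 0, 0, 0, 0, 0, 0, 0, 0, 0, 0, 0, 0, 0, 0, 0, 0, 0, 0, 0, 0, 0, 0, 0, 0, 0, 0, 0, 0, 0, 0, 0, 0, 0, 0, 0, 0, 0, 0, 0, 0, 0, 0, 0, 0, 0, 0, 0, 0, 0, 0, 0, 0, 0, 0, 0, 0, 1])))) (.node (.node (.leaf ([(-81750), 287129, 483036, 11517, 97899, 294191, (-74328), (-64682), 20934, 0, 0, 0, 0, 0, 0, 0, (-63618), (-42737), 20158, (-35958), 16406, 19516, 16013, (-1219), (-1), (-1090), (-1000), 869, (-1435), 1158, (-2666), 2509, 975, 2808, 1412, (-1188), (-1600), (-1743), (-1929), (-253), (-113), 138, 69, 36, 6, 13, 8, 16, (-8), (-51), 4, (-14), (-3), 9, (-1), (-6), (-9), (-1), 12, (-45), 1, (-1), (-1), 0, 8, 8, 3, 18, (-8), (-8), (-11), (-9), (-2), 1, 0, 8, (-18), (-4), (-1), (-2), 7])) (.leaf ([0, 0, 0, 0, 0, 0, 0, 0, 0, 0, 0, 0, 0, 0, 0, 0, 0, 0, 0, 0, 0, 0, 0, 0, 0, 0, 0, 0, 0, 0, 0, 0, 0, 0, 0, 0, 0, 0, 0, 0, 0, 0, 1])))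 (.node (.leaf ([0, 0, 0, 0, 0, 0, 0, 0, 0, 0, 0, 0, 0, 0, 0, 0, 0, 0, 0, 0, 0, 0, 0, 0, 0, 0, 0, 0, 0, 0, 0, 0, 0, 0, 0, 0, 0, 0, 0, 0, 0, 0, 1])) (.leaf ([(-1526), 3501, 4569, (-941), (-75), 2350, (-1271), (-676), (-49), 0, 0, 0, 0, 0, 0, 0, (-2811), (-1556), 974, (-1679), 723, 741, 595, (-34), 8, (-19), (-49), 38, (-52), 18, (-100), 52, 41, 59, 16, (-31), (-41), (-36), (-73), (-24), (-14), 5, (-4), (-3), 1, 1, 0, 0, (-1), (-2), 0, 0, 0, 1, 0, 1, 0, 0, 0, 0, 0, 0, 0, 0, 1, 1, 1, 0, 0, 0, 0, 0, 0, 0, 1, 1])))))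

/-- data -/
def val0_000001 : Trie (Vec) := .node (.node (.node (.node (.leaf ([0, 0, 0, 0, 0, 0, 0, 0, 0, 0, 0, 0, 0, 0, 0, 0, 0, 0, 0, 0, 0, 0, 0, 0, 0, 0, 0, 0, 0, 0, 0, 0, 0, 0, 0, 0, 0, 0, 0, 0, 0, 0, 1])) (.leaf ([]))) (.node (.leaf ([])) (.leaf ([])))) (.node (.node (.leaf ([])) (.leaf ([0, 0, 0, 0, 0, 0, 0, 0, 0, 0, 0, 0, 0, 0, 0, 0, 0, 0, 0, 0, 0, 0, 0, 0, 0, 0, 0, 0, 0, 0, 0, 0, 0, 0, 0, 0, 0, 0, 0, 0, 0, 0, 1]))) (.node (.leaf ([6849, (-55820), (-96854), (-17719), (-26979), (-64849), 10938, 16449, (-6691), 0, 0, 0, 0, 0, 0, 0, 3693, 3535, (-1785), 2304, (-1515), (-1050), (-1868), 108, 38, 148, 101, (-48), 133, (-157), 146, (-322), (-75), (-427), (-225), 98, 203, 198, 179, (-125), (-41), (-3), (-19), (-7), (-6), (-3), (-1), (-1), 0, 6, (-2), 0, (-1), 0, 0, 4, 1, (-2), (-4), 7, 2, (-1), 1, (-1), 0, (-1), (-3), (-1), (-1), 2, 0, 2, (-1), (-1), 2, 0, 1, 3, (-1), (-1)])) (.leaf ([174427, (-625082), (-1040681), 646, (-214535), (-622809), 189495, 113752,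 (-28957), 0, 0, 0, 0, 0, 0, 0, 184490, 108610, (-52982), 97397, (-47835), (-57864), (-35110), 4051, 74, 3238, 3107, (-2556), 4272, (-3403), 8346, (-7229), (-3139), (-7735), (-3884), 3429, 4242, 4955, 5667, 892, 611, (-504), (-119), (-241), (-20), 4, (-30), (-57), 30, 182, (-14), 51, (-7), (-33), 2, 24, 27, 5, (-31), 132, (-9), 5, (-4), (-5), (-24), (-31), 13, (-65), 38, 20, 39, 27, (-4), (-3), (-6), (-30), 51, 18, 4, 3, (-20)]))))) (.node (.node (.node (.leaf ([])) (.leaf ([]))) (.node (.leaf ([])) (.leaf ([])))) (.node (.node (.leaf ([0, 0, 0, 0, 0, 0, 0, 0, 0, 0, 0, 0, 0, 0, 0, 0, 0, 0, 0, 0, 0, 0, 0, 0, 0, 0, 0, 0, 0, 0, 0, 0, 0, 0, 0, 0, 0, 0, 0, 0, 0, 0, 1])) (.leaf ([0, 0, 0, 0, 0, 0, 0, 0, 0, 0, 0, 0, 0, 0, 0, 0, 0, 0, 0, 0, 0, 0, 0, 0, 0, 0, 0, 0, 0, 0, 0, 0, 0, 0, 0, 0, 0, 0, 0, 0, 0, 0, 0, 0, 0, 0, 0, 0, 0, 0, 0, 0, 0, 0, 0, 0, 0, 0, 0, 0, 0, 0, 0, 0, 0, 0, 0, 0, 1]))) (.node (.leaf ([])) (.leaf ([203075, (-909174), (-1601541), (-174434), (-383218),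 (-1032499), 158641, 293595, (-118978), 0, 0, 0, 0, 0, 0, 0, 21544, 61688, (-19876), 31508, (-7639), (-6247), (-38317), (-911), 522, 1312, 227, 611, 342, (-1567), 579, (-2772), 628, (-3447), (-2126), 703, 1382, 1823, 805, (-995), (-663), (-199), (-225), (-1), (-64), (-133), (-7), (-31), 23, 62, (-1), 8, 27, (-19), (-9), 14, 22, (-7), (-49), 157, 21, (-9), 3, 21, (-45), (-18), (-9), 1, 15, 46, (-15), 23, 14, 17, 6, (-20), 55, (-26), (-12), (-11), 21])))))

/-- data -/
def val0_000010 : Trie (Vec) := .node (.node (.node (.node (.leaf ([])) (.leaf ([0, 0, 0, 0, 0, 0, 0, 0, 0, 0, 0, 0, 0, 0, 0, 0, 0, 0, 0, 0, 0, 0, 0, 0, 0, 0, 0, 0, 0, 0, 0, 0, 0, 0, 0, 0, 0, 0, 0, 0, 0, 0, 1]))) (.node (.leaf ([])) (.leaf ([])))) (.node (.node (.leaf ([])) (.leaf ([(-150412), 736464, 1299124, 233649, 301653, 875724, (-49122), (-371469), 159850, 0, 0, 0, 0, 0, 0, 0, 112828, (-21622), 4137, 9392, (-28564), (-39348), 46234, 5136, (-276), 1602, 2993, (-3511), 3376, (-1482), 6616, (-2969),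 (-3966), (-3750), (-1263), 2605, 2576, 2391, 4279, 1859, 1336, (-122), 179, (-188), 63, 123, (-4), (-6), (-2), 37, (-5), 19, (-31), (-7), 11, (-5), (-4), 7, 28, (-59), (-24), 13, (-11), (-17), 16, (-2), 31, (-37), 7, (-26), 35, (-7), (-12), (-12), (-16), (-4), (-19), 33, 12, 9, (-28)]))) (.node (.leaf ([])) (.leaf ([]))))) (.node (.node (.node (.leaf ([])) (.leaf ([0, 0, 0, 0, 0, 0, 0, 0, 0, 0, 0, 0, 0, 0, 0, 0, 0, 0, 0, 0, 0, 0, 0, 0, 0, 0, 0, 0, 0, 0, 0, 0, 0, 0, 0, 0, 0, 0, 0, 0, 0, 0, 0, 0, 1]))) (.node (.leaf ([])) (.leaf ([(-7929), 31511, 53385, 2531, 11715, 33029, (-7974), (-7619), 2550, 0, 0, 0, 0, 0, 0, 0, (-6100), (-4257), 1984, (-3534), 1629, 1874, 1656, (-107), (-9), (-116), (-103), 72, (-137), 124, (-269), 257, 91, 292, 148, (-114), (-152), (-176), (-188), (-16), (-9), 17, 6, 4, 1, 1, 1, 2, (-1), (-6), 0, (-2), 0, 1, 0, (-1), (-1), 0, 1, (-5), 0, 0, 0, 0, 1, 1, 0, 2, (-1), (-1), (-1), (-1), 0, 0, 0, 1, (-2), 0, 0, 0, 1])))) (.node (.node (.leaf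 ([])) (.leaf ([]))) (.node (.leaf ([13454, (-57606), (-100327), (-830), (-28023), (-56992), 29294, (-12763), 6877, 0, 0, 0, 0, 0, 0, 0, 31873, 9408, (-4003), 9316, (-8958), (-10636), 1797, 1081, 37, 818, 689, (-753), 914, (-821), 1678, (-1529), (-817), (-2001), (-898), 871, 1082, 1198, 1275, (-16), 89, (-19), (-30), (-26), 1, 2, (-4), (-6), 1, 16, (-3), 5, 2, (-1), 0, 6, 2, 0, (-2), 7, 1, 0, 1, (-2), 1, (-1), 0, (-8), 1, 0, 6, 2, (-1), (-2), 2, (-1), 2, 5, 1, 1, (-3)])) (.leaf ([(-708562), 2473675, 4178978, 16449, 884224, 2500714, (-754021), (-371777), 99826, 0, 0, 0, 0, 0, 0, 0, (-694389), (-386881), 178631, (-334940), 180993, 220906, 108055, (-17045), (-289), (-13946), (-11817), 10897, (-17150), 14508, (-31545), 29534, 12380, 34307, 17392, (-15060), (-19142), (-21527), (-22886), (-1733), (-1294), 1335, 494, 677, (-48), (-29), 79, 156, (-53), (-516), 55, (-138), (-37), 75, (-11), (-81), (-67), (-20), 79, (-307), 25, (-15), (-2), 36, 17, 45, (-19), 216, (-53),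 (-14), (-170), (-61), 19, 34, 1, 65, (-102), (-87), (-24), (-24), 95])))))

/-- data -/
def val0_000011 : Trie (Vec) := .node (.node (.node (.node (.leaf ([])) (.leaf ([(-24424), 101450, 170334, 14422, 36503, 106923, (-22642), (-31993), 11363, 0, 0, 0, 0, 0, 0, 0, (-15226), (-13420), 6676, (-10882), 4094, 4320, 6639, (-130), (-13), (-265), (-169), 139, (-284), 273, (-583), 603, 177, 637, 309, (-228), (-335), (-398), (-404), (-17), (-2), 40, 20, 13, 3, 5, 2, 4, (-2), (-13), 1, (-3), 0, 2, 0, (-2), (-2), 0, 3, (-11), 0, 0, 0, 0, 2, 2, 0, 4, (-3), (-2), (-2), (-2), 0, 0, 0, 2, (-4), (-1), 0, 0, 1]))) (.node (.leaf ([])) (.leaf ([0, 0, 0, 0, 0, 0, 0, 0, 0, 0, 0, 0, 0, 0, 0, 0, 0, 0, 0, 0, 0, 0, 0, 0, 0, 0, 0, 0, 0, 0, 0, 0, 0, 0, 0, 0, 0, 0, 0, 0, 0, 0, 1])))) (.node (.node (.leaf ([0, 0, 0, 0, 0, 0, 0, 0, 0, 0, 0, 0, 0, 0, 0, 0, 0, 0, 0, 0, 0, 0, 0, 0, 0, 0, 0, 0, 0, 0, 0, 0, 0, 0, 0, 0, 0, 0, 0, 0, 0, 0, 1])) (.leaf ([0, 0, 0, 0, 0, 0, 0, 0, 0, 0, 0, 0, 0, 0,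 0, 0, 0, 0, 0, 0, 0, 0, 0, 0, 0, 0, 0, 0, 0, 0, 0, 0, 0, 0, 0, 0, 0, 0, 0, 0, 0, 0, 1]))) (.node (.leaf ([])) (.leaf ([0, 0, 0, 0, 0, 0, 0, 0, 0, 0, 0, 0, 0, 0, 0, 0, 0, 0, 0, 0, 0, 0, 0, 0, 0, 0, 0, 0, 0, 0, 0, 0, 0, 0, 0, 0, 0, 0, 0, 0, 0, 0, 0, 0, 0, 0, 0, 0, 0, 0, 0, 0, 0, 0, 0, 0, 0, 0, 0, 0, 0, 0, 0, 0, 0, 0, 0, 0, 0, 0, 0, 0, 0, 0, 0, 0, 0, 0, 1]))))) (.node (.node (.node (.leaf ([])) (.leaf ([34545, (-123055), (-204359), (-7687), (-39323), (-125721), 28359, 36155, (-12116), 0, 0, 0, 0, 0, 0, 0, 23788, 19025, (-9541), 16127, (-6095), (-6803), (-8857), 245, (-5), 310, 322, (-255), 458, (-333), 911, (-824), (-303), (-824), (-394), 326, 475, 508, 626, 168, 55, (-70), (-19), (-3), 0, (-5), (-2), (-5), 4, 20, 0, 6, 0, (-4), 1, 0, 2, 0, (-2), 12, (-1), 1, (-1), 0, (-4), (-4), (-1), (-6), 4, 3, 4, 2, 1, 1, (-1), (-4), 7, 1, 1, 1, (-4)]))) (.node (.leaf ([0, 0, 0, 0, 0, 0, 0, 0, 0, 0, 0, 0, 0, 0, 0, 0, 0, 0, 0, 0, 0, 0, 0, 0, 0, 0, 0, 0, 0, 0, 0, 0, 0, 0, 0,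 0, 0, 0, 0, 0, 0, 0, 1])) (.leaf ([36346, (-148490), (-254770), (-20266), (-55882), (-162128), 27821, 49565, (-18927), 0, 0, 0, 0, 0, 0, 0, 11208, 15420, (-6718), 10858, (-2837), (-3314), (-8790), 22, 39, 218, 98, 48, 200, (-261), 364, (-586), 21, (-547), (-360), 164, 251, 349, 261, (-36), (-50), (-59), (-36), (-16), (-11), (-13), (-4), (-8), 4, 22, (-2), 6, 3, (-4), (-1), 4, 5, 1, (-8), 28, 1, (-1), 1, 2, (-5), (-4), (-1), (-6), 6, 6, 2, 5, 1, 1, 0, (-4), 10, (-2), (-1), (-1), 1])))) (.node (.node (.leaf ([0, 0, 0, 0, 0, 0, 0, 0, 0, 0, 0, 0, 0, 0, 0, 0, 0, 0, 0, 0, 0, 0, 0, 0, 0, 0, 0, 0, 0, 0, 0, 0, 0, 0, 0, 0, 0, 0, 0, 0, 0, 0, 1])) (.leaf ([0, 0, 0, 0, 0, 0, 0, 0, 0, 0, 0, 0, 0, 0, 0, 0, 0, 0, 0, 0, 0, 0, 0, 0, 0, 0, 0, 0, 0, 0, 0, 0, 0, 0, 0, 0, 0, 0, 0, 0, 0, 0, 1]))) (.node (.leaf ([])) (.leaf ([0, 0, 0, 0, 0, 0, 0, 0, 0, 0, 0, 0, 0, 0, 0, 0, 0, 0, 0, 0, 0, 0, 0, 0, 0, 0, 0, 0, 0, 0, 0, 0, 0, 0, 0, 0, 0, 0, 0, 0, 0, 0, 0, 0, 0, 0, 0, 0, 0, 0, 0, 0, 0,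 0, 0, 0, 0, 0, 0, 0, 0, 0, 1])))))

/-- data -/
def val0_000100 : Trie (Vec) := .node (.node (.node (.node (.leaf ([])) (.leaf ([]))) (.node (.leaf ([])) (.leaf ([0, 0, 0, 0, 0, 0, 0, 0, 0, 0, 0, 0, 0, 0, 0, 0, 0, 0, 0, 0, 0, 0, 0, 0, 0, 0, 0, 0, 0, 0, 0, 0, 0, 0, 0, 0, 0, 0, 0, 0, 0, 0, 1])))) (.node (.node (.leaf ([])) (.leaf ([]))) (.node (.leaf ([(-895), 6821, 12487, (-523), 5239, 5696, (-7549), 7115, (-3386), 0, 0, 0, 0, 0, 0, 0, (-8809), (-1617), 623, (-1927), 2527, 2988, (-1287), (-316), (-13), (-263), (-176), 216, (-255), 255, (-508), 454, 247, 565, 257, (-251), (-300), (-367), (-363), 22, (-32), 5, 2, 12, (-2), (-3), 1, 1, 0, (-3), 1, (-1), 0, 0, 0, (-2), 0, 0, 0, 1, 0, 0, 0, 1, (-1), 0, (-1), 2, 0, 1, (-2), 0, 1, 1, 0, 0, 1, (-2), 0, 0, 1])) (.leaf ([237701, (-881102), (-1522060), (-134834), (-322105), (-960819), 160734, 289377, (-114014), 0, 0, 0, 0, 0, 0, 0, 56494, 83076, (-34395), 55807, (-14640), (-14802), (-47576), 292, 69, 1856, 94, 402, 1041,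 (-1863), 1487, (-3523), 623, (-4290), (-2533), 1545, 1927, 3086, 1534, (-1329), (-832), (-80), (-164), (-74), (-2), (-47), (-5), (-13), 0, 51, (-8), 10, 35, (-5), (-1), 15, 9, 4, (-11), 38, 1, (-2), 3, (-2), 4, 1, 3, (-12), 2, (-1), 18, 8, (-7), (-6), 2, (-3), 6, 4, (-2), (-2), (-3)]))))) (.node (.node (.node (.leaf ([0, 0, 0, 0, 0, 0, 0, 0, 0, 0, 0, 0, 0, 0, 0, 0, 0, 0, 0, 0, 0, 0, 0, 0, 0, 0, 0, 0, 0, 0, 0, 0, 0, 0, 0, 0, 0, 0, 0, 0, 0, 0, 1])) (.leaf ([0, 0, 0, 0, 0, 0, 0, 0, 0, 0, 0, 0, 0, 0, 0, 0, 0, 0, 0, 0, 0, 0, 0, 0, 0, 0, 0, 0, 0, 0, 0, 0, 0, 0, 0, 0, 0, 0, 0, 0, 0, 0, 1]))) (.node (.leaf ([0, 0, 0, 0, 0, 0, 0, 0, 0, 0, 0, 0, 0, 0, 0, 0, 0, 0, 0, 0, 0, 0, 0, 0, 0, 0, 0, 0, 0, 0, 0, 0, 0, 0, 0, 0, 0, 0, 0, 0, 0, 0, 1])) (.leaf ([])))) (.node (.node (.leaf ([877, (-2958), (-5249), (-194), (-1209), (-3144), 872, 348, (-117), 0, 0, 0, 0, 0, 0, 0, 574, 294, (-87), 206, (-154), (-201), (-43), 11, 2, 19, 8, (-15), 15, (-18), 32, (-31), (-15), (-43), (-18),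 17, 22, 24, 23, 2, 0, 0, 0, (-1), 0, 0, 0, 0, 0, 0, 0, 0, 0, 0, 0, 0, 0, 0, 0, 1, 0, 0, 0, 0, 0, 0, 0, (-2)])) (.leaf ([0, 0, 0, 0, 0, 0, 0, 0, 0, 0, 0, 0, 0, 0, 0, 0, 0, 0, 0, 0, 0, 0, 0, 0, 0, 0, 0, 0, 0, 0, 0, 0, 0, 0, 0, 0, 0, 0, 0, 0, 0, 0, 1]))) (.node (.leaf ([])) (.leaf ([0, 0, 0, 0, 0, 0, 0, 0, 0, 0, 0, 0, 0, 0, 0, 0, 0, 0, 0, 0, 0, 0, 0, 0, 0, 0, 0, 0, 0, 0, 0, 0, 0, 0, 0, 0, 0, 0, 0, 0, 0, 0, 1])))))

/-- data -/
def val0_000101 : Trie (Vec) := .node (.node (.node (.node (.leaf ([])) (.leaf ([0, 0, 0, 0, 0, 0, 0, 0, 0, 0, 0, 0, 0, 0, 0, 0, 0, 0, 0, 0, 0, 0, 0, 0, 0, 0, 0, 0, 0, 0, 0, 0, 0, 0, 0, 0, 0, 0, 0, 0, 0, 0, 1]))) (.node (.leaf ([])) (.leaf ([0, 0, 0, 0, 0, 0, 0, 0, 0, 0, 0, 0, 0, 0, 0, 0, 0, 0, 0, 0, 0, 0, 0, (-1), 0, 0, 0, 0, 0, 0, 0, 0, 0, 0, 0, 0, 0, 0, 0, 0, 0, 0, 1, 0, 0, 0, 0, 0, 0, 0, 0, 0, 0, 0, 0, 0, 0, 0, 0, 0, 0, 0, 0, 0, 0, 0, 0, 0, 0, 0, 0, 0, 0, 0, (-1)])))) (.node (.node (.leaf ([])) (.leaf ([(-78852), 311347, 556275, 57354,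 127755, 358295, (-44584), (-111146), 47338, 0, 0, 0, 0, 0, 0, 0, 13492, (-14980), 1994, (-2354), (-3600), (-4053), 12848, 787, (-147), (-166), 457, (-686), 403, 254, 815, 324, (-796), 352, 487, 91, (-30), (-264), 445, 542, 378, 18, 97, (-67), 18, 54, 0, 5, (-4), (-4), (-2), 1, (-16), 3, 3, (-3), (-6), 3, 14, (-44), (-8), 3, (-3), (-8), 12, 2, 13, (-6), 0, (-15), 9, (-6), (-6), (-6), (-4), 3, (-17), 11, 3, 2, (-7)]))) (.node (.leaf ([120807, (-322126), (-545961), 129294, (-123002), (-275759), 200033, (-139097), 71614, 0, 0, 0, 0, 0, 0, 0, 258102, 83913, (-36228), 83797, (-67589), (-86536), 9103, 8154, 113, 5254, 5585, (-5497), 7068, (-5483), 12973, (-10585), (-6128), (-13237), (-6450), 6165, 7725, 7948, 9462, 1340, 1062, (-376), (-137), (-197), 18, 7, (-25), (-49), 24, 154, (-17), 41, 5, (-30), 3, 22, 24, (-2), (-30), 122, (-1), 3, 2, (-5), (-17), (-18), 7, (-66), 7, 11, 49, 20, 2, (-7), 5, (-26), 44, 26, 6, 11, (-30)])) (.leaf ([(-1000), 4359, 6798, 836, 1171,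 4323, (-836), (-1982), 677, 0, 0, 0, 0, 0, 0, 0, (-777), (-822), 477, (-729), 210, 184, 495, 4, 2, (-2), (-4), 12, (-9), 0, (-21), 9, 14, 4, (-7), 1, (-7), 0, (-13), (-12), (-5), 1, 1, 0, 0, 0, 0, 0, 0, 0, 0, 0, 0, (-1), 0, 0, 0, 0, 0, 0, 0, 0, 0, 0, (-1)]))))) (.node (.node (.node (.leaf ([])) (.leaf ([(-10851), 43843, 77174, 9724, 17790, 48894, (-8313), (-14416), 5797, 0, 0, 0, 0, 0, 0, 0, (-1438), (-3121), 1002, (-1744), 447, 428, 1812, 2, (-18), (-125), 29, (-31), (-23), 120, (-59), 183, (-42), 231, 128, (-80), (-89), (-174), (-57), 116, 49, (-1), 6, 0, 1, 2, 0, 1, 0, (-1), 0, 0, (-2), 0, 1, (-1), 0, 0, 1, (-2), 0, 0, 0, 0, 0, 0, 1]))) (.node (.leaf ([])) (.leaf ([0, 0, 0, 0, 0, 0, 0, 0, 0, 0, 0, 0, 0, 0, 0, 0, 0, 0, 0, 0, 0, 0, 0, 0, 0, 0, 0, 0, 0, 0, 0, 0, 0, 0, 0, 0, 0, 0, 0, 0, 0, 0, 1])))) (.node (.node (.leaf ([0, 0, 0, 0, 0, 0, 0, 0, 0, 0, 0, 0, 0, 0, 0, 0, 0, 0, 0, 0, 0, 0, 0, 0, 0, 0, 0, 0, 0, 0, 0, 0, 0, 0, 0, 0, 0, 0, 0, 0, 0, 0, 1])) (.leaf ([])))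 (.node (.leaf ([])) (.leaf ([0, 0, 0, 0, 0, 0, 0, 0, 0, 0, 0, 0, 0, 0, 0, 0, 0, 0, 0, 0, 0, 0, 0, 0, 0, 0, 0, 0, 0, 0, 0, 0, 0, 0, 0, 0, 0, 0, 0, 0, 0, 0, 1])))))

/-- data -/
def val0_000110 : Trie (Vec) := .node (.node (.node (.node (.leaf ([0, 0, 0, 0, 0, 0, 0, 0, 0, 0, 0, 0, 0, 0, 0, 0, 0, 0, 0, 0, 0, 0, 0, 0, 0, 0, 0, 0, 0, 0, 0, 0, 0, 0, 0, 0, 0, 0, 0, 0, 0, 0, 1])) (.leaf ([10851, (-43843), (-77174), (-9724), (-17790), (-48894), 8313, 14416, (-5797), 0, 0, 0, 0, 0, 0, 0, 1438, 3121, (-1002), 1744, (-447), (-428), (-1812), (-2), 18, 125, (-29), 31, 23, (-120), 59, (-183), 42, (-231), (-128), 80, 89, 174, 57, (-116), (-49), 1, (-5), 0, (-1), (-2), 0, (-1), 0, 1, 0, 0, 2, 0, (-1), 1, 0, 0, (-1), 2, 0, 0, 0, 0, 0, 0, (-1)]))) (.node (.leaf ([0, 0, 0, 0, 0, 0, 0, 0, 0, 0, 0, 0, 0, 0, 0, 0, 0, 0, 0, 0, 0, 0, 0, 0, 0, 0, 0, 0, 0, 0, 0, 0, 0, 0, 0, 0, 0, 0, 0, 0, 0, 0, 0, 0, 0, 0, 0, 0, 0, 0, 0, 0, 0, 0, 0, 0, 0, 0, 0, 0, 1])) (.leaf ([5667, (-24017), (-43652),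 (-4636), (-11303), (-27199), 5991, 4703, (-1909), 0, 0, 0, 0, 0, 0, 0, 1962, 1264, (-110), 436, (-589), (-774), (-202), 52, 18, 122, 18, (-49), 64, (-126), 138, (-215), (-45), (-260), (-129), 100, 127, 171, 105, (-40), (-15), (-1), (-2), (-1), 1, 0, 0, (-1), 0, 0, 0, 0, 1, 0, 0, 0, 1, 1, 0, 1, 0, 0, 0, 0, 0, 0, 0, (-2)])))) (.node (.node (.leaf ([])) (.leaf ([(-83044), 360281, 614426, 54512, 140641, 387096, (-83495), (-97733), 35396, 0, 0, 0, 0, 0, 0, 0, (-53223), (-41669), 19685, (-32900), 14839, 15908, 18214, (-851), (-103), (-1232), (-781), 568, (-1207), 1263, (-2222), 2557, 715, 3009, 1510, (-1091), (-1491), (-1835), (-1692), 234, 75, 117, 52, 79, 14, 7, 9, 16, (-6), (-50), 6, (-11), 0, 6, 1, (-12), (-8), 0, 12, (-38), (-1), 1, (-1), 1, 5, 8, (-4), 17, (-8), (-6), (-9), (-7), 2, 2, (-3), 6, (-11), (-4), 1, 2, 2]))) (.node (.leaf ([])) (.leaf ([0, 0, 0, 0, 0, 0, 0, 0, 0, 0, 0, 0, 0, 0, 0, 0, 0, 0, 0, 0, 0, 0, 0, 0, 0, 0, 0, 0, 0, 0, 0, 0, 0, 0, 0, 0, 0, 0,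 0, 0, 0, 0, 1]))))) (.node (.node (.node (.leaf ([])) (.leaf ([(-14425), 40014, 44511, 9000, (-10036), 31647, 6537, (-45410), 16138, 0, 0, 0, 0, 0, 0, 0, (-4790), (-15108), 11093, (-14793), 1060, (-1724), 13399, 837, 183, 700, 88, (-82), 272, (-733), 550, (-925), (-187), (-1163), (-802), 557, 435, 875, 356, (-471), (-67), 2, 71, (-45), 8, 33, (-6), (-8), 1, 14, (-1), 4, (-1), (-3), (-2), 10, (-3), (-1), 2, (-3), 0, 1, (-4), (-4), 3, (-1), 5, (-10), 0, (-6), 5, (-3), (-8), (-3), 1, (-1), (-6), 2, 1, (-1), (-1)]))) (.node (.leaf ([])) (.leaf ([])))) (.node (.node (.leaf ([])) (.leaf ([46255, (-154881), (-261031), (-3092), (-51406), (-158212), 39399, 35914, (-11758), 0, 0, 0, 0, 0, 0, 0, 33107, 23018, (-10624), 19293, (-8408), (-10149), (-8786), 639, (-1), 578, 510, (-386), 741, (-616), 1396, (-1316), (-448), (-1444), (-763), 625, 806, 935, 985, 112, 51, (-82), (-39), (-19), (-1), (-5), (-4), (-9), 5, 30, (-2), 8, 2, (-5), 1, 3, 5, 0, (-6), 22, (-1), 1, 0, (-1),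 (-4), (-5), (-2), (-10), 4, 4, 7, 5, 0, 0, 0, (-5), 10, 4, 1, 1, (-5)]))) (.node (.leaf ([])) (.leaf ([241, 27, 134, (-150), 395, (-38), (-582), 835, (-371), 0, 0, 0, 0, 0, 0, 0, (-689), (-75), 14, (-90), 199, 244, (-149), (-18), (-3), (-17), (-16), 21, (-19), 18, (-40), 30, 24, 42, 20, (-17), (-26), (-22), (-28), (-5), (-3), 1, 1, 0, 0, 0, 0, 0, 0, 0, 0, 0, 0, 0, 0, 0, 0, 0, 0, 0, 0, 0, 0, 0, 0, 0, 0, 0, 0, 0, 0, 0, 0, (-1)])))))

/-- data -/
def val0_000111 : Trie (Vec) := .node (.node (.node (.node (.leaf ([])) (.leaf ([(-71670), 244403, 398799, (-3259), 79305, 230998, (-88710), (-31400), 4500, 0, 0, 0, 0, 0, 0, 0, (-96904), (-49613), 25764, (-47816), 25716, 29728, 13141, (-2449), 36, (-2110), (-1496), 1236, (-2345), 2055, (-4511), 4036, 1576, 4649, 2315, (-2107), (-2359), (-3224), (-3116), 153, (-147), 166, (-33), 237, (-21), (-60), 13, 19, (-4), (-79), 10, (-18), 11, 6, (-2), (-10), (-1), (-7), (-3), 5, 12, (-5), 4, 15, (-10), 7, (-30), 34, (-8), 14, (-34),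 0, 14, 9, 3, 6, 6, (-25), (-5), (-1), 18]))) (.node (.leaf ([])) (.leaf ([])))) (.node (.node (.leaf ([])) (.leaf ([0, 0, 0, 0, 0, 0, 0, 0, 0, 0, 0, 0, 0, 0, 0, 0, 0, 0, 0, 0, 0, 0, 0, 0, 0, 0, 0, 0, 0, 0, 0, 0, 0, 0, 0, 0, 0, 0, 0, 0, 0, 0, 1]))) (.node (.leaf ([(-15125), 91556, 156874, 27784, 38101, 106097, (-10808), (-38957), 16073, 0, 0, 0, 0, 0, 0, 0, 2756, (-6052), 3099, (-3112), (-324), (-1352), 5843, 282, (-39), 97, 63, (-125), 95, (-69), 326, (-30), (-145), (-17), 6, 137, 16, 142, 133, 73, 86, 6, 23, (-8), 9, 8, 0, 1, 1, (-3), 1, 1, (-1), 0, 0, (-3), (-1), 2, 4, (-11), (-3), 0, (-1), 0, 1, 0, 5, 1, 1, (-3), 2, (-1), 0, 0, (-2), 0, (-2), 0, 1, 1, (-1)])) (.leaf ([0, 0, 0, 0, 0, 0, 0, 0, 0, 0, 0, 0, 0, 0, 0, 0, 0, 0, 0, 0, 0, 0, 0, 0, 0, 0, 0, 0, 0, 0, 0, 0, 0, 0, 0, 0, 0, 0, 0, 0, 0, 0, 1]))))) (.node (.node (.node (.leaf ([])) (.leaf ([(-21638), 53157, 85554, (-8403), 11060, 48099, (-15849), (-10651), 2528, 0, 0, 0, 0, 0, 0, 0, (-18933), (-12030), 6054,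 (-10980), 4557, 5539, 4415, (-344), 43, (-270), (-250), 204, (-382), 260, (-748), 615, 235, 625, 323, (-320), (-368), (-463), (-510), (-120), (-49), 38, 20, 7, (-2), 3, 0, 2, (-2), (-12), 0, (-3), 0, 2, (-1), 1, 0, 0, 0, (-1), 1, (-1), 1, 2, 1, 2, 0, 3, (-2), 0, (-3), (-1), 0, 0, 1, 2, (-3), (-4), (-1), (-1), 4]))) (.node (.leaf ([0, 0, 0, 0, 0, 0, 0, 0, 0, 0, 0, 0, 0, 0, 0, 0, 0, 0, 0, 0, 0, 0, 0, 0, 0, 0, 0, 0, 0, 0, 0, 0, 0, 0, 0, 0, 0, 0, 0, 0, 0, 0, 1])) (.leaf ([(-64323), 266692, 439377, 59347, 82236, 286618, (-31218), (-134757), 51721, 0, 0, 0, 0, 0, 0, 0, (-4154), (-32335), 17919, (-24410), 980, (-2024), 26499, 1230, 58, 378, 432, (-607), 419, (-380), 659, (-312), (-644), (-777), (-401), 546, 467, 456, 514, 19, 155, 69, 53, (-22), 14, 26, 1, 2, (-3), (-16), (-2), (-3), (-1), 2, 0, 2, (-2), 0, 4, (-14), (-1), 0, 0, (-2), 6, 6, 4, (-2), (-6), (-6), 2, (-4), (-3), (-3), 0, 3, (-9), 4, 0, 1])))) (.node (.node (.leaf ([])) (.leaf ([70623, (-282905), (-470551),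 (-26565), (-100519), (-290044), 76349, 58307, (-17584), 0, 0, 0, 0, 0, 0, 0, 72722, 44099, (-22398), 38781, (-19780), (-21728), (-15800), 1357, 25, 1134, 1352, (-1325), 1668, (-1181), 3015, (-2593), (-1397), (-3327), (-1377), 1336, 1924, 1766, 2317, 416, 171, (-115), (-79), (-7), (-7), (-17), (-6), (-11), 5, 37, (-3), 11, 5, (-7), 1, 7, 7, 0, (-7), 34, 1, 1, 1, 0, (-6), (-5), (-7), (-14), 5, 7, 10, 7, 3, (-1), 2, (-6), 13, 3, 0, 3, (-5)]))) (.node (.leaf ([])) (.leaf ([0, 0, 0, 0, 0, 0, 0, 0, 0, 0, 0, 0, 0, 0, 0, 0, 0, 0, 0, 0, 0, 0, 0, 0, 0, 0, 0, 0, 0, 0, 0, 0, 0, 0, 0, 0, 0, 0, 0, 0, 0, 0, 1])))))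

/-- data -/
def val0_001000 : Trie (Vec) := .node (.node (.node (.node (.leaf ([])) (.leaf ([]))) (.node (.leaf ([(-3815), 14689, 24459, 2318, 4899, 15340, (-3098), (-4397), 1544, 0, 0, 0, 0, 0, 0, 0, (-2491), (-2035), 1058, (-1669), 659, 686, 1002, (-9), 2, (-31), (-30), 49, (-46), 31, (-84), 80, 43, 103, 31, (-37), (-66), (-50), (-71), (-21), (-2), 1, 1, 1, 0, 0, 0, 0, 0, 0, 0, 0, 0, 0, 0, 0, 0, 0, 0, (-1), 0, 0, 0, 0, 0, 0, 0, 2])) (.leaf ([(-899351), 3565059, 6032064, 553996, 1270555, 3801008, (-723230), (-1175357), 436237, 0, 0, 0, 0, 0, 0, 0, (-409508), (-425151), 205859, (-327236), 109594, 111088, 227554, (-1756), (-242), (-7990), (-3317), 2525, (-7133), 8010, (-13895), 17798, 2949, 19457, 9540, (-6570), (-9729), (-12516), (-10604), 1582, 1220, 843, 734, 267, 112, 149, 40, 98, (-40), (-323), 17, (-71), (-18), 27, (-6), (-62), (-33), 5, 54, (-226), (-12), (-1), (-4), 29, 29, 55, 15, 100, (-56), (-34), (-41), (-44), (-4), 1, (-17), 30, (-87), (-40), (-11),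 (-2), 40])))) (.node (.node (.leaf ([])) (.leaf ([0, 0, 0, 0, 0, 0, 0, 0, 0, 0, 0, 0, 0, 0, 0, 0, 0, 0, 0, 0, 0, 0, 0, 0, 0, 0, 0, 0, 0, 0, 0, 0, 0, 0, 0, 0, 0, 0, 0, 0, 0, 0, 1]))) (.node (.leaf ([])) (.leaf ([0, 0, 0, 0, 0, 0, 0, 0, 0, 0, 0, 0, 0, 0, 0, 0, 0, 0, 0, 0, 0, 0, 0, 0, 0, 0, 0, 0, 0, 0, 0, 0, 0, 0, 0, 0, 0, 0, 0, 0, 0, 0, 1]))))) (.node (.node (.node (.leaf ([])) (.leaf ([0, 0, 0, 0, 0, 0, 0, 0, 0, 0, 0, 0, 0, 0, 0, 0, 0, 0, 0, 0, 0, 0, 0, 0, 0, 0, 0, 0, 0, 0, 0, 0, 0, 0, 0, 0, 0, 0, 0, 0, 0, 0, 1]))) (.node (.leaf ([0, 0, 0, 0, 0, 0, 0, 0, 0, 0, 0, 0, 0, 0, 0, 0, 0, 0, 0, 0, 0, 0, 0, 0, 0, 0, 0, 0, 0, 0, 0, 0, 0, 0, 0, 0, 0, 0, 0, 0, 0, 0, 0, 0, 0, 0, 1])) (.leaf ([0, 0, 0, 0, 0, 0, 0, 0, 0, 0, 0, 0, 0, 0, 0, 0, 0, 0, 0, 0, 0, 0, 0, 0, 0, 0, 0, 0, 0, 0, 0, 0, 0, 0, 0, 0, 0, 0, 0, 0, 0, 0, 1])))) (.node (.node (.leaf ([])) (.leaf ([84512, (-198797), (-355528), 39968, (-70240), (-197381), 75269, (-25705), 11650, 0, 0, 0, 0, 0, 0, 0, 73119, 26731,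 (-7431), 20391, (-18197), (-25698), 2924, 2785, (-35), 1822, 1487, (-1715), 2227, (-1921), 3590, (-3693), (-1643), (-4822), (-2512), 2258, 2878, 2991, 2929, 114, 58, 1, (-90), 26, 26, (-8), (-6), (-9), 1, 27, (-5), 9, 20, (-1), 2, 8, 5, 2, (-5), 18, (-1), 1, 6, (-2), 4, 2, (-13), (-18), (-5), 1, 15, 3, 2, (-5), 8, 2, 7, 7, 3, 6, (-10)]))) (.node (.leaf ([])) (.leaf ([0, 0, 0, 0, 0, 0, 0, 0, 0, 0, 0, 0, 0, 0, 0, 0, 0, 0, 0, 0, 0, 0, 0, 0, 0, 0, 0, 0, 0, 0, 0, 0, 0, 0, 0, 0, 0, 0, 0, 0, 0, 0, 1, 0, 0, 0, 0, 0, 0, 0, 0, 0, 0, 0, 0, 0, 0, 0, 0, 0, 0, 0, (-1)])))))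

/-- data -/
def val0_001001 : Trie (Vec) := .node (.node (.node (.node (.leaf ([])) (.leaf ([]))) (.node (.leaf ([])) (.leaf ([])))) (.node (.node (.leaf ([(-13682), 57336, 96813, 5274, 21744, 59945, (-15098), (-13639), 4411, 0, 0, 0, 0, 0, 0, 0, (-11995), (-8012), 3816, (-6803), 3231, 3697, 3024, (-230), (-17), (-233), (-199), 151, (-273), 245, (-538), 508, 191, 561, 278, (-225), (-292), (-346), (-372), (-27), (-25), 34, 15, 10, 2, 2, 2, 4, (-2), (-12), 1, (-3), 0, 2, 0, (-2), (-2), 0, 1, (-9), 0, 0, 0, 0, 2, 2, 0, 4, (-2), (-2), (-2), (-2), 0, 0, 0, 2, (-4), (-1), 0, 0, 1])) (.leaf ([]))) (.node (.leaf ([(-208688), 745165, 1248927, 94390, 237209, 784605, (-133330), (-273277), 101615, 0, 0, 0, 0, 0, 0, 0, (-74700), (-96284), 47250, (-73930), 18051, 18539, 57204, 545, 112, (-718), (-259), 254, (-901), 765, (-1773), 2303, 94, 2144, 978, (-680), (-1282), (-1391), (-1377), (-318), 196, 172, 165, (-60), 16, 61, 4, 14, (-8), (-54), (-1), (-15), (-20), 11, (-1),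 (-4), (-6), 0, 12, (-54), (-6), (-2), (-1), (-1), 11, 7, 20, 9, (-10), (-9), (-8), (-9), (-9), (-2), 0, 9, (-23), 4, (-4), (-6), 7])) (.leaf ([]))))) (.node (.node (.node (.leaf ([0, 0, 0, 0, 0, 0, 0, 0, 0, 0, 0, 0, 0, 0, 0, 0, 0, 0, 0, 0, 0, 0, 0, 0, 0, 0, 0, 0, 0, 0, 0, 0, 0, 0, 0, 0, 0, 0, 0, 0, 0, 0, 1])) (.leaf ([0, 0, 0, 0, 0, 0, 0, 0, 0, 0, 0, 0, 0, 0, 0, 0, 0, 0, 0, 0, 0, 0, 0, 0, 0, 0, 0, 0, 0, 0, 0, 0, 0, 0, 0, 0, 0, 0, 0, 0, 0, 0, 1]))) (.node (.leaf ([0, 0, 0, 0, 0, 0, 0, 0, 0, 0, 0, 0, 0, 0, 0, 0, 0, 0, 0, 0, 0, 0, 0, 0, 0, 0, 0, 0, 0, 0, 0, 0, 0, 0, 0, 0, 0, 0, 0, 0, 0, 0, 1])) (.leaf ([0, 0, 0, 0, 0, 0, 0, 0, 0, 0, 0, 0, 0, 0, 0, 0, 0, 0, 0, 0, 0, 0, 0, 0, 0, 0, 0, 0, 0, 0, 0, 0, 0, 0, 0, 0, 0, 0, 0, 0, 0, 0, 0, 0, 0, 0, 0, 0, 0, 0, 0, 0, 0, 1])))) (.node (.node (.leaf ([])) (.leaf ([(-12094), 41943, 64945, 5374, 8558, 42033, (-4633), (-20777), 7623, 0, 0, 0, 0, 0, 0, 0, (-4929), (-7777), 4727, (-6665), 1118, 795, 5460, 131, 44, 132, (-27), 23,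 (-22), (-122), 36, (-72), (-6), (-109), (-101), 66, 3, 127, (-16), (-126), (-5), 7, 11, (-5), 2, 5, 0, 0, 0, (-2), 0, (-1), (-1), 0, 0, 1, (-1), (-1), 1, (-4), 0, 0, (-1), (-1), 0, 0, 0, 0, (-1), (-1), 0, (-1), (-1), 0, 0, 0, (-2), 2]))) (.node (.leaf ([94223, (-346489), (-583955), (-23378), (-122126), (-357291), 90167, 78817, (-25646), 0, 0, 0, 0, 0, 0, 0, 75174, 50035, (-23683), 42098, (-19752), (-22974), (-18702), 1437, 24, 1374, 1173, (-1082), 1701, (-1432), 3190, (-3042), (-1204), (-3466), (-1677), 1444, 1938, 2136, 2328, 228, 121, (-152), (-78), (-48), (-4), (-13), (-9), (-17), 8, 55, (-5), 15, 5, (-9), 1, 8, 9, 1, (-12), 45, 0, 1, 0, (-1), (-7), (-7), (-3), (-20), 8, 7, 13, 9, 1, (-2), 0, (-8), 17, 7, 1, 2, (-8)])) (.leaf ([])))))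

/-- data -/
def val0_001010 : Trie (Vec) := .node (.node (.node (.node (.leaf ([0, 0, 0, 0, 0, 0, 0, 0, 0, 0, 0, 0, 0, 0, 0, 0, 0, 0, 0, 0, 0, 0, 0, 0, 0, 0, 0, 0, 0, 0, 0, 0, 0, 0, 0, 0, 0, 0, 0, 0, 0, 0, 1])) (.leaf ([24490, (-101471), (-170377), (-14360), (-36473), (-106923), 22651, 31987, (-11366), 0, 0, 0, 0, 0, 0, 0, 15219, 13424, (-6674), 10878, (-4092), (-4320), (-6641), 129, 13, 265, 169, (-139), 284, (-273), 583, (-603), (-177), (-637), (-309), 228, 335, 398, 404, 15, 2, (-40), (-19), (-13), (-3), (-5), (-2), (-4), 2, 13, (-1), 3, 0, (-2), 0, 2, 2, 0, (-3), 11, 0, 0, 0, 0, (-2), (-2), 0, (-4), 3, 2, 2, 2, 0, 0, 0, (-2), 4, 1, 0, 0, (-1)]))) (.node (.leaf ([])) (.leaf ([72431, (-280596), (-510191), (-43849), (-121847), (-326441), 44241, 88421, (-38788), 0, 0, 0, 0, 0, 0, 0, (-13254), 9788, 1780, (-2116), 3591, 2976, (-7674), (-438), 186, 367, (-344), 669, (-268), (-473), (-550), (-587), 731, (-719), (-774), 106, 163, 543, (-294), (-622), (-377), (-26),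 (-113), 49, (-21), (-53), (-2), (-9), 5, 12, 1, 2, 16, (-4), (-3), 6, 9, (-3), (-15), 56, 8, (-4), 4, 9, (-13), (-3), (-11), 1, 1, 17, (-7), 8, 6, 6, 4, (-4), 21, (-11), (-3), (-2), 6])))) (.node (.node (.leaf ([])) (.leaf ([]))) (.node (.leaf ([(-51378), 59142, 137002, (-146565), 53725, 22726, (-132911), 203707, (-90437), 0, 0, 0, 0, 0, 0, 0, (-168531), (-27687), 2791, (-31390), 43675, 62453, (-32987), (-7378), (-273), (-4716), (-4000), 3676, (-5274), 4889, (-10038), 8589, 4298, 10427, 5553, (-5162), (-5597), (-6883), (-6969), (-327), (-777), 316, 86, 237, (-16), (-21), 30, 56, (-24), (-147), 19, (-45), (-10), 28, 0, (-34), (-27), (-6), 28, (-123), 5, (-1), (-2), 2, 15, 13, (-12), 68, (-20), (-14), (-44), (-22), 2, 9, 2, 22, (-38), (-20), (-3), (-7), 17])) (.leaf ([]))))) (.node (.node (.node (.leaf ([0, 0, 0, 0, 0, 0, 0, 0, 0, 0, 0, 0, 0, 0, 0, 0, 0, 0, 0, 0, 0, 0, 0, 0, 0, 0, 0, 0, 0, 0, 0, 0, 0, 0, 0, 0, 0, 0, 0, 0, 0, 0, 1])) (.leaf ([]))) (.node (.leaf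 ([])) (.leaf ([19038, (-41054), (-65115), 11145, (-6591), (-34751), 13988, 5938, (-699), 0, 0, 0, 0, 0, 0, 0, 18361, 10805, (-5428), 10139, (-4394), (-5425), (-3553), 377, (-45), 272, 250, (-196), 379, (-260), 749, (-597), (-231), (-608), (-323), 326, 353, 466, 502, 111, 52, (-37), (-19), (-7), 2, (-3), 0, (-2), 2, 12, 0, 3, 0, (-2), 1, (-1), 0, 0, 0, 1, (-1), 1, (-1), (-2), (-1), (-2), 0, (-3), 2, 0, 3, 1, 0, 0, (-1), (-2), 3, 4, 1, 1, (-4)])))) (.node (.node (.leaf ([(-1252), 4470, 7546, 476, 1547, 4614, (-1129), (-1035), 345, 0, 0, 0, 0, 0, 0, 0, (-915), (-636), 307, (-505), 239, 274, 256, (-8), 0, (-17), (-11), 18, (-18), 17, (-35), 35, 17, 46, 18, (-18), (-27), (-26), (-28), (-5), 0, 0, 1, 0, 0, 0, 0, 0, (-1)])) (.leaf ([11753, (-69621), (-129422), (-22548), (-35743), (-86824), 7060, 30263, (-13382), 0, 0, 0, 0, 0, 0, 0, (-13524), (-1114), 2231, (-4165), 3395, 3801, (-1952), (-394), 93, (-4), (-296), 406, (-319), (-21), (-520), 95, 407, 207, (-11), (-177),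 (-262), (-84), (-397), (-276), (-125), (-11), (-11), (-2), (-9), (-10), (-2), (-4), 2, 7, 0, 2, 4, (-2), (-2), 4, 2, 0, (-4), 14, 2, (-2), 0, 2, (-4), (-2), (-1), 0, 4, 4, (-2), 2, 0, 2, 0, (-2), 4, (-4), (-2), (-2), 4]))) (.node (.leaf ([])) (.leaf ([(-310073), 1316637, 2169256, 347248, 412557, 1424897, (-149249), (-644243), 250823, 0, 0, 0, 0, 0, 0, 0, (-24507), (-151101), 87332, (-114529), 7631, (-10620), 125013, 5240, 402, 1223, 1907, (-2121), 1515, (-1452), 3642, (-1109), (-2864), (-1324), (-1430), 1593, 957, 1100, 1672, 1001, 1338, (-47), 98, 59, 25, 24, (-9), (-19), 12, 20, 2, 17, (-15), (-14), 1, 4, 9, (-13), (-18), 69, 13, 4, 1, 13, (-27), (-4), (-20), (-6), (-2), 35, (-2), 8, 10, 4, (-2), (-17), 34, 3, 0, 3, (-8)])))))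

/-- data -/
def val0_0010110 : Trie (Vec) := .node (.node (.node (.leaf ([])) (.leaf ([0, 0, 0, 0, 0, 0, 0, 0, 0, 0, 0, 0, 0, 0, 0, 0, 0, 0, 0, 0, 0, 0, 0, 0, 0, 0, 0, 0, 0, 0, 0, 0, 0, 0, 0, 0, 0, 0, 0, 0, 0, 0, 1]))) (.node (.leaf ([])) (.leaf ([60604, (-238741), (-412628), (-23575), (-89330), (-263594), 39604, 86230, (-33469), 0, 0, 0, 0, 0, 0, 0, 8842, 22913, (-9029), 15500, (-1776), (-2863), (-14530), (-50), 108, 159, 90, 529, 120, (-281), 213, (-598), 425, (-297), (-501), 52, (-4), 268, 59, (-101), (-90), (-162), (-54), (-58), (-27), (-25), (-10), (-21), 13, 58, (-5), 14, 4, (-14), (-2), 12, 14, 0, (-22), 82, 1, (-3), 0, 5, (-16), (-11), 0, (-18), 14, 15, 4, 12, (-1), 3, (-2), (-11), 26, (-7), (-3), (-4), 2])))) (.node (.node (.leaf ([])) (.leaf ([299362, (-1329152), (-2302553), (-258623), (-525788), (-1493873), 211789, 466149, (-186689), 0, 0, 0, 0, 0, 0, 0, 39147, 107905, (-45368), 64639, (-12574), (-8211), (-72354), (-2015), 460, 775, 373, 844, 280,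 (-1136), 19, (-2821), 896, (-3395), (-2006), 163, 1380, 1293, 751, (-807), (-793), (-239), (-520), 131, (-157), (-238), (-16), (-47), 39, 105, (-3), 20, 27, (-23), (-10), 29, 43, (-14), (-80), 262, 34, (-16), 18, 33, (-69), (-39), (-44), 2, 32, 86, (-40), 48, 34, 23, 25, (-22), 105, (-39), (-20), (-11), 32]))) (.node (.leaf ([0, 0, 0, 0, 0, 0, 0, 0, 0, 0, 0, 0, 0, 0, 0, 0, 0, 0, 0, 0, 0, 0, 0, 0, 0, 0, 0, 0, 0, 0, 0, 0, 0, 0, 0, 0, 0, 0, 0, 0, 0, 0, 0, 0, 0, 0, 0, 0, 0, 0, 0, 0, 0, 0, 1])) (.leaf ([(-95107), 372997, 674410, 54109, 161011, 430513, (-62383), (-116494), 50078, 0, 0, 0, 0, 0, 0, 0, 10203, (-16435), 149, (-1299), (-2966), (-1527), 11229, 370, (-243), (-584), 382, (-831), 176, 729, 361, 1109, (-805), 993, 1108, (-181), (-250), (-830), 199, 787, 403, 76, 126, (-7), 32, 67, 5, 15, (-9), (-37), 1, (-5), (-18), 9, 5, (-10), (-11), 5, 26, (-82), (-12), 5, (-3), (-9), 21, 9, 8, (-1), (-6), (-24), 8, (-12), (-5), (-8), (-5), 9, (-29), 11, 5, 4, (-8)]))))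

/-- data -/
def val0_0010111 : Trie (Vec) := .node (.node (.node (.leaf ([])) (.leaf ([0, 0, 0, 0, 0, 0, 0, 0, 0, 0, 0, 0, 0, 0, 0, 0, 0, 0, 0, 0, 0, 0, 0, 0, 0, 0, 0, 0, 0, 0, 0, 0, 0, 0, 0, 0, 0, 0, 0, 0, 0, 0, 1]))) (.node (.leaf ([(-14757), 59245, 99536, 5568, 21435, 61720, (-14709), (-15506), 5169, 0, 0, 0, 0, 0, 0, 0, (-11601), (-8385), 4062, (-7106), 3097, 3495, 3466, (-199), (-11), (-207), (-185), 128, (-253), 219, (-493), 463, 163, 514, 256, (-204), (-267), (-317), (-343), (-29), (-19), 32, 14, 12, 2, 2, 2, 4, (-2), (-12), 1, (-3), 0, 2, 0, (-2), (-2), 0, 2, (-10), 0, 0, 0, 0, 2, 2, 0, 4, (-2), (-2), (-2), (-2), 0, 0, 0, 2, (-4), (-1), 0, 0, 1])) (.leaf ([(-99543), 455296, 822762, 51268, 224670, 509347, (-138974), (-29110), 10441, 0, 0, 0, 0, 0, 0, 0, (-87785), (-33722), 7526, (-20876), 25422, 31801, (-2998), (-2977), (-410), (-2912), (-2119), 2123, (-2746), 3084, (-4853), 5526, 2319, 7283, 3685, (-2828), (-3871), (-4130), (-3948), 386, (-10), 92,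 196, 35, 44, 66, 11, 28, (-11), (-50), 10, (-10), (-15), 10, 3, (-26), (-19), 6, 35, (-117), (-16), 6, (-8), (-8), 21, 7, 14, 18, (-5), (-29), 3, (-18), (-8), (-1), (-12), 8, (-34), 1, 6, 3, (-7)])))) (.node (.node (.leaf ([])) (.leaf ([(-3226), 14048, 23216, (-8419), 8499, 9461, (-16830), 19377, (-9251), 0, 0, 0, 0, 0, 0, 0, (-23990), (-5766), 2748, (-6440), 6602, 8049, (-2193), (-795), (-15), (-503), (-551), 615, (-680), 517, (-1265), 1025, 680, 1314, 574, (-583), (-757), (-743), (-928), (-145), (-122), 23, 30, 16, 0, 1, 2, 5, (-1), (-12), 2, (-4), 0, 1, (-1), (-4), (-2), 0, 2, (-7), (-1), 0, (-1), 2, 0, 1, 1, 7, (-2), (-1), (-4), (-2), 0, 1, (-2), 1, (-2), (-4), (-1), (-1), 2]))) (.node (.leaf ([0, 0, 0, 0, 0, 0, 0, 0, 0, 0, 0, 0, 0, 0, 0, 0, 0, 0, 0, 0, 0, 0, 0, 0, 0, 0, 0, 0, 0, 0, 0, 0, 0, 0, 0, 0, 0, 0, 0, 0, 0, 0, 1])) (.leaf ([(-610732), 3251142, 5188303, 1107803, 1012760, 3451796, (-415985), (-1699243), 630454, 0, 0, 0, 0, 0, 0, 0, (-215041), (-457896),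 292936, (-393081), 69833, 7708, 358121, 13732, 1164, 2791, 2704, (-1143), 2079, (-3958), 2939, (-1904), (-2405), (-2151), (-6621), 4332, 1604, 3428, 726, 181, 1622, (-39), 202, (-152), 123, 31, 17, (-53), 44, 28, (-9), 0, 19, (-55), 16, (-22), 40, (-31), (-77), 276, 2, (-3), 3, 43, (-76), (-8), 14, (-55), (-47), 74, (-7), 8, 10, 29, (-22), (-39), 102, 20, 1, (-12), (-21)]))))

/-- data -/
def val0_001100 : Trie (Vec) := .node (.node (.node (.node (.leaf ([])) (.leaf ([]))) (.node (.leaf ([])) (.leaf ([(-121251), 391122, 656462, 79723, 106177, 423194, (-30070), (-204527), 83838, 0, 0, 0, 0, 0, 0, 0, 21139, (-37185), 18506, (-21954), (-6443), (-12533), 36633, 2477, 248, 720, 1421, (-1416), 1233, (-844), 2547, (-1199), (-1773), (-1535), (-615), 936, 826, 657, 1569, 601, 680, (-100), 49, (-77), (-24), 29, (-18), (-27), 11, 53, (-7), 22, (-8), (-17), (-7), 24, 11, 0, (-17), 72, 5, (-2), 0, 3, (-13), (-10), (-4), (-21), 20, 12, 8, 12, (-1), (-2), 0, (-13), 18, (-4),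 (-3), 1, 7])))) (.node (.node (.leaf ([])) (.leaf ([(-135896), 546831, 944050, 116505, 201624, 608524, (-77865), (-227856), 91295, 0, 0, 0, 0, 0, 0, 0, 5828, (-45271), 19154, (-25326), (-2181), (-3883), 36715, 1740, (-120), (-130), 1052, (-1019), 696, 172, 1097, 465, (-1178), 40, 224, 355, 216, (-226), 746, 655, 537, 42, 47, (-59), 22, 27, 4, 8, (-3), (-21), (-5), (-5), (-12), 5, 4, (-9), 3, 2, 4, (-21), (-6), (-1), 4, 0, 6, 6, 12, 0, (-7), (-3), 5, (-1), 0, (-3), (-3), 3, (-7), 12, (-2), (-1), (-3)]))) (.node (.leaf ([0, 0, 0, 0, 0, 0, 0, 0, 0, 0, 0, 0, 0, 0, 0, 0, 0, 0, 0, 0, 0, 0, 0, 0, 0, 0, 0, 0, 0, 0, 0, 0, 0, 0, 0, 0, 0, 0, 0, 0, 0, 0, 1])) (.leaf ([960005, (-3852372), (-6242689), (-604255), (-1192800), (-3919556), 834027, 1318855, (-452286), 0, 0, 0, 0, 0, 0, 0, 753518, 626685, (-355778), 550088, (-202236), (-196758), (-324261), 4131, (-1183), 8573, 8187, (-9387), 13271, (-8157), 24909, (-23138), (-10337), (-25293), (-9277), 8643, 14928, 14382, 18831,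 3007, 780, (-966), (-571), (-522), (-140), 132, (-60), (-90), 22, 411, (-30), 94, (-148), (-6), 30, 49, 31, (-3), (-12), 34, (-32), 35, (-9), (-93), 24, (-100), 5, (-170), 78, (-18), 83, 54, (-26), (-36), 32, (-31), 50, 137, 35, 19, (-111)]))))) (.node (.node (.node (.leaf ([])) (.leaf ([(-57240), 232015, 389481, 18976, 85295, 240531, (-61453), (-53988), 17333, 0, 0, 0, 0, 0, 0, 0, (-51473), (-33904), 16663, (-29261), 13801, 15769, 12771, (-1029), (-52), (-965), (-866), 633, (-1185), 1010, (-2247), 2124, 807, 2388, 1200, (-958), (-1240), (-1456), (-1593), (-87), (-91), 132, 54, 64, 10, 4, 9, 17, (-8), (-54), 5, (-13), 2, 8, 0, (-10), (-8), 0, 11, (-41), 0, 0, 0, 2, 7, 9, (-1), 19, (-9), (-7), (-10), (-8), 1, 1, (-1), 8, (-15), (-6), 0, 0, 5]))) (.node (.leaf ([])) (.leaf ([])))) (.node (.node (.leaf ([0, 0, 0, 0, 0, 0, 0, 0, 0, 0, 0, 0, 0, 0, 0, 0, 0, 0, 0, 0, 0, 0, 0, 0, 0, 0, 0, 0, 0, 0, 0, 0, 0, 0, 0, 0, 0, 0, 0, 0, 0, 0, 1])) (.leaf ([]))) (.node (.leaf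 ([])) (.leaf ([(-72392), 286142, 584243, (-213891), 250686, 261744, (-341132), 472064, (-208309), 0, 0, 0, 0, 0, 0, 0, (-412029), (-59364), 6510, (-65278), 112694, 152451, (-83073), (-16887), (-1116), (-10495), (-11117), 11576, (-13157), 11200, (-24273), 20618, 12888, 26247, 12557, (-11865), (-14994), (-14765), (-17847), (-2412), (-2432), 658, 345, 173, 11, 42, 55, 116, (-49), (-272), 39, (-82), (-34), 67, 0, (-85), (-68), 22, 103, (-372), (-35), 1, (-9), (-11), 68, 40, 62, 128, (-25), (-79), (-56), (-61), (-14), 9, (-14), 55, (-119), (-37), 6, (-8), 21])))))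

/-- data -/
def val0_001101 : Trie (Vec) := .node (.node (.node (.node (.leaf ([])) (.leaf ([]))) (.node (.leaf ([116002, (-393174), (-688556), 48397, (-165921), (-396896), 156949, (-18172), 16719, 0, 0, 0, 0, 0, 0, 0, 151224, 60508, (-22519), 53637, (-39552), (-52495), (-1087), 5054, 263, 3629, 3237, (-2590), 4246, (-3860), 7970, (-7243), (-3132), (-8490), (-4574), 3868, 4531, 5391, 5597, 327, 491, (-378), (-128), (-212), (-18), (-9), (-29), (-57), 26, 156, (-17), 44, 6, (-30), (-1), 31, 31, 3, (-39), 150, (-2), 0, 2, 2, (-24), (-22), 7, (-61), 26, 25, 35, 27, (-2), (-4), 0, (-26), 50, 11, 0, 1, (-12)])) (.leaf ([0, 0, 0, 0, 0, 0, 0, 0, 0, 0, 0, 0, 0, 0, 0, 0, 0, 0, 0, 0, 0, 0, 0, 0, 0, 0, 0, 0, 0, 0, 0, 0, 0, 0, 0, 0, 0, 0, 0, 0, 0, 0, 1])))) (.node (.node (.leaf ([])) (.leaf ([]))) (.node (.leaf ([(-6786), 23202, 39916, 3412, 7958, 24973, (-4189), (-7553), 2952, 0, 0, 0, 0, 0, 0, 0, (-1706), (-2366), 982, (-1606), 413, 447, 1336, 8, 0, (-41), (-1), 12, (-25),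 41, (-41), 79, (-3), 107, 50, (-40), (-59), (-69), (-45), 18, 18, (-1), 5, (-4), 0, 2, 0, 0, 0, 0, 0, 0, (-2), 0, 0, 0, 0, 0, 0, 0, 0, 0, 0, 0, 0, 0, 1])) (.leaf ([42458, (-123644), (-207804), 11382, (-38378), (-121532), 37494, 14419, (-3187), 0, 0, 0, 0, 0, 0, 0, 38679, 21367, (-9762), 18469, (-9713), (-12321), (-5779), 954, (-28), 635, 696, (-644), 956, (-685), 1670, (-1528), (-695), (-1722), (-888), 783, 1039, 1063, 1245, 238, 110, (-74), (-42), (-18), 0, (-10), (-4), (-8), 4, 29, (-2), 8, 3, (-5), 1, 2, 5, 1, (-6), 24, (-1), 1, 1, 0, (-4), (-4), (-1), (-10), 4, 5, 7, 5, 1, (-1), 0, (-4), 10, 2, 1, 1, (-5)]))))) (.node (.node (.node (.leaf ([])) (.leaf ([(-37369), 153110, 257847, 17464, 55313, 161936, (-33739), (-47159), 16688, 0, 0, 0, 0, 0, 0, 0, (-22643), (-20147), 9763, (-16384), 5970, 6651, 9811, (-271), (-32), (-375), (-311), 148, (-446), 409, (-893), 898, 224, 922, 494, (-337), (-461), (-575), (-601), (-41), (-17), 80, 35, 24, 9, 8, 5, 10, (-5), (-29),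 2, (-8), 0, 5, 0, (-5), (-5), 0, 7, (-27), 0, 0, 0, 0, 5, 5, 1, 10, (-6), (-6), (-4), (-5), (-1), 0, 0, 5, (-10), (-1), 0, 0, 2]))) (.node (.leaf ([])) (.leaf ([])))) (.node (.node (.leaf ([])) (.leaf ([2377, (-8119), (-12959), 827, (-2155), (-7941), 1867, 2360, (-698), 0, 0, 0, 0, 0, 0, 0, 2188, 1685, (-884), 1521, (-523), (-625), (-770), 7, (-1), 1, 44, (-18), 39, (-10), 81, (-40), (-26), (-38), (-21), 13, 27, 14, 48, 40, 13, (-10), (-3), (-1), (-1), (-1), 0, (-1), 1, 3, 0, 1, 0, (-1), 0, 0, 1, 0, (-1), 3, 0, 0, 0, 0, (-1), (-1), 0, 0, 1, 1, 0, 1, 0, 1, 0, (-1), 2]))) (.node (.leaf ([])) (.leaf ([721650, (-2924860), (-4935273), (-371533), (-1073307), (-3071782), 707287, 793748, (-275817), 0, 0, 0, 0, 0, 0, 0, 514954, 387816, (-188761), 317676, (-139450), (-152221), (-167087), 7222, 477, 10130, 7060, (-6275), 10719, (-10290), 21257, (-21676), (-7555), (-24711), (-11732), 9240, 12800, 15171, 15376, (-98), 245, (-1020), (-841), (-279), (-142), (-153), (-62),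 (-140), 59, 417, (-23), 105, (-5), (-45), 4, 96, 55, (-17), (-79), 339, 29, 1, 10, (-24), (-55), (-71), (-37), (-139), 71, 66, 51, 65, 22, (-2), 33, (-48), 131, 42, 17, 10, (-48)])))))

/-- data -/
def val0_0011100 : Trie (Vec) := .node (.node (.node (.leaf ([])) (.leaf ([0, 0, 0, 0, 0, 0, 0, 0, 0, 0, 0, 0, 0, 0, 0, 0, 0, 0, 0, 0, 0, 0, 0, 0, 0, 0, 0, 0, 0, 0, 0, 0, 0, 0, 0, 0, 0, 0, 0, 0, 0, 0, 1]))) (.node (.leaf ([])) (.leaf ([102061, (-371879), (-618743), (-35074), (-120593), (-384105), 81699, 110790, (-38621), 0, 0, 0, 0, 0, 0, 0, 65501, 54245, (-27162), 44896, (-16918), (-18542), (-25867), 706, (-55), 833, 854, (-839), 1278, (-894), 2341, (-2236), (-855), (-2469), (-1086), 958, 1485, 1432, 1759, 393, 83, (-123), (-101), (-7), (-6), (-24), (-5), (-13), 6, 42, (-3), 12, 7, (-6), 2, 4, 8, 1, (-9), 35, 0, 1, 2, (-1), (-6), (-6), (-7), (-15), 7, 8, 9, 8, 4, 0, 2, (-6), 15, 4, 2, 3, (-6)])))) (.node (.node (.leaf ([31076, (-108209), (-177665), (-10502), (-31485),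 (-110490), 20930, 40112, (-14258), 0, 0, 0, 0, 0, 0, 0, 15837, 16821, (-8791), 13825, (-3895), (-3983), (-9527), (-42), (-29), 110, 116, (-100), 212, (-112), 439, (-405), (-106), (-351), (-153), 123, 235, 222, 301, 142, 8, (-45), (-23), 5, (-1), (-7), 0, (-1), 2, 9, 1, 2, 0, (-2), 1, (-2), 0, 0, 0, 3, (-1), 1, (-1), (-1), (-2), (-2), (-1), (-1), 2, 1, 1, 1, 1, 1, (-1), (-2), 4, 2, 1, 1, (-3)])) (.leaf ([0, 0, 0, 0, 0, 0, 0, 0, 0, 0, 0, 0, 0, 0, 0, 0, 0, 0, 0, 0, 0, 0, 0, 0, 0, 0, 0, 0, 0, 0, 0, 0, 0, 0, 0, 0, 0, 0, 0, 0, 0, 0, 1]))) (.node (.leaf ([142955, (-569892), (-1004058), (-116213), (-222500), (-650552), 73873, 224333, (-93930), 0, 0, 0, 0, 0, 0, 0, (-25890), 33168, (-9220), 10687, 7076, 9193, (-30260), (-1804), 180, (-68), (-1041), 1295, (-944), (-64), (-1908), (-57), 1569, 99, (-362), (-491), (-272), (-23), (-1103), (-856), (-672), (-5), (-172), 159, (-30), (-95), 0, (-6), 6, 5, 4, 0, 32, (-4), (-6), 6, 8, (-6), (-22), 67, 15, (-6), 6, 13, (-17), (-3),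 (-30), 13, 0, 22, (-15), 10, 12, 9, 9, (-3), 26, (-23), (-4), (-1), 12])) (.leaf ([]))))

/-- data -/
def val0_0011101 : Trie (Vec) := .node (.node (.node (.leaf ([])) (.leaf ([58453, (-169965), (-282721), 33827, (-56656), (-155768), 75087, (-15203), 12580, 0, 0, 0, 0, 0, 0, 0, 90952, 37965, (-17577), 36556, (-23633), (-29514), (-4110), 2698, (-8), 1742, 1816, (-1698), 2366, (-1795), 4331, (-3578), (-1880), (-4346), (-2094), 2057, 2478, 2695, 3148, 426, 322, (-152), (-66), (-68), 14, 1, (-9), (-19), 8, 61, (-7), 18, 7, (-10), 3, 9, 8, 1, (-8), 36, 0, 2, 2, (-4), (-2), (-4), (-1), (-25), 4, 1, 22, 7, 0, (-5), 0, (-8), 13, 13, 3, 4, (-13)]))) (.node (.leaf ([80454, (-317862), (-566921), (-59162), (-129550), (-365356), 44923, 115420, (-49008), 0, 0, 0, 0, 0, 0, 0, (-14084), 15703, (-2384), 2869, 3766, 4350, (-13635), (-840), 143, 146, (-489), 726, (-436), (-232), (-864), (-281), 839, (-292), (-459), (-120), (-7), 237, (-489), (-550), (-387), (-18), (-96), 67, (-18),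 (-54), 0, (-5), 4, 4, 2, (-1), 16, (-3), (-3), 3, 6, (-3), (-14), 44, 8, (-4), 3, 8, (-12), (-2), (-13), 6, 0, 15, (-9), 6, 6, 6, 4, (-3), 17, (-11), (-3), (-2), 7])) (.leaf ([(-21500), (-4651), 110836, 38105, 40068, 104764, 114640, (-115771), 73158, 0, 0, 0, 0, 0, 0, 0, 267531, 96519, (-68340), 116891, (-73416), (-78946), (-15313), 5909, (-387), 3160, 5115, (-6341), 6234, (-2971), 11742, (-7336), (-6930), (-9236), (-2621), 4180, 5962, 4730, 8511, 2593, 1649, (-206), 90, (-270), 23, 129, (-19), (-17), (-1), 94, (-17), 28, (-50), (-2), 6, 15, 2, 7, 10, (-43), (-13), 10, (-2), (-31), 23, (-12), 24, (-53), 13, (-28), 49, 4, (-7), (-22), 3, (-6), (-19), 45, 10, 15, (-29)])))) (.node (.node (.leaf ([])) (.leaf ([(-27547), 167685, 306418, (-10320), 106022, 173667, (-104652), 82878, (-38143), 0, 0, 0, 0, 0, 0, 0, (-112663), (-23650), 7769, (-23237), 31989, 39627, (-15262), (-4113), (-278), (-2974), (-2814), 2980, (-3448), 3071, (-6247), 5678, 3340, 7460, 3481, (-3164),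 (-4119), (-4203), (-4780), (-203), (-439), 109, 110, 113, 27, 14, 13, 27, (-9), (-58), 13, (-14), 1, 9, 0, (-25), (-15), 3, 23, (-83), (-8), 3, (-5), 0, 11, 7, 1, 28, (-7), (-16), (-8), (-14), (-2), 5, (-8), 7, (-21), (-11), 3, 1, 1]))) (.node (.leaf ([(-10302), 36436, 63343, 3167, 14877, 37035, (-13245), (-1636), (-74), 0, 0, 0, 0, 0, 0, 0, (-11936), (-4948), 2033, (-4304), 3259, 3882, 419, (-330), (-10), (-324), (-193), 277, (-312), 313, (-599), 583, 278, 741, 316, (-327), (-406), (-467), (-457), 16, (-19), 2, 12, 1, (-1), 0, 1, 1, 1, (-2), 1, (-1), (-2), 0, 0, (-2), 0, 0, 0, 0, (-1), 0, 0, 1, (-1), (-1), 2, 2, 0, 1, (-2), 0, 0, 1, 0, 0, 1, (-2), (-1), (-1), 1])) (.leaf ([(-142750), 481340, 788897, (-23553), 152652, 463810, (-156236), (-76160), 14821, 0, 0, 0, 0, 0, 0, 0, (-169583), (-95820), 48222, (-88688), 43602, 52828, 29865, (-3761), 14, (-2740), (-2902), 2425, (-3898), 2868, (-7586), 6223, 2939, 6676, 3279, (-3051), (-3740), (-4266), (-5134), (-1026),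 (-639), 444, 96, 211, 11, (-12), 26, 49, (-26), (-160), 12, (-46), 9, 29, (-3), (-19), (-23), (-5), 24, (-108), 10, (-6), 4, 6, 19, 27, (-12), 59, (-33), (-15), (-37), (-23), 4, 4, 6, 26, (-43), (-18), (-5), (-4), 21]))))

/-- data -/
def val0_001111 : Trie (Vec) := .node (.node (.node (.node (.leaf ([])) (.leaf ([]))) (.node (.leaf ([])) (.leaf ([])))) (.node (.node (.leaf ([])) (.leaf ([(-206104), 1009083, 1636714, 370956, 301388, 1114075, (-47387), (-637222), 252624, 0, 0, 0, 0, 0, 0, 0, 75635, (-106031), 69237, (-75803), (-17951), (-43840), 119626, 8559, 409, 3522, 3896, (-3989), 4346, (-3841), 8257, (-5658), (-4722), (-7183), (-4407), 4350, 4296, 4747, 5406, 1042, 1405, (-146), 35, (-98), 39, 32, (-18), (-40), 20, 76, (-13), 29, 4, (-29), 1, 18, 23, (-6), (-35), 122, 6, 1, 4, 8, (-25), (-4), (-7), (-42), (-1), 28, 27, 17, 6, (-5), (-4), (-22), 42, 15, 1, 7, (-13)]))) (.node (.leaf ([])) (.leaf ([0, 0, 0, 0, 0, 0, 0, 0, 0, 0, 0, 0, 0, 0, 0, 0, 0, 0, 0, 0,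 0, 0, 0, 0, 0, 0, 0, 0, 0, 0, 0, 0, 0, 0, 0, 0, 0, 0, 0, 0, 0, 0, 1]))))) (.node (.node (.node (.leaf ([0, 0, 0, 0, 0, 0, 0, 0, 0, 0, 0, 0, 0, 0, 0, 0, 0, 0, 0, 0, 0, 0, 0, 0, 0, 0, 0, 0, 0, 0, 0, 0, 0, 0, 0, 0, 0, 0, 0, 0, 0, 0, 0, 0, 0, 0, 0, 0, 0, 0, 0, 0, 0, 0, 0, 0, 1])) (.leaf ([]))) (.node (.leaf ([])) (.leaf ([(-132119), 500327, 798332, 8861, 152784, 477623, (-156407), (-107020), 24230, 0, 0, 0, 0, 0, 0, 0, (-180581), (-106848), 58701, (-102487), 47509, 54056, 38830, (-3611), 87, (-2643), (-2944), 2497, (-3983), 2688, (-7771), 6158, 3095, 6480, 2919, (-2867), (-3591), (-4100), (-5234), (-1033), (-711), 448, 51, 280, 16, (-48), 30, 50, (-24), (-173), 17, (-47), 24, 26, (-4), (-26), (-23), (-5), 22, (-95), 12, (-7), 6, 14, 11, 30, (-15), 67, (-36), (-9), (-43), (-23), 12, 9, 7, 24, (-33), (-29), (-5), (-2), 23])))) (.node (.node (.leaf ([(-11), 34, 26, 3, (-12), 10, (-14), (-38), 10, 0, 0, 0, 0, 0, 0, 0, (-26), (-26), 14, (-26), 6, 6, 14, 0, 0, 0, 0, 0,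 0, 0, 0, 0, 0, 0, 0, 0, 0, 0, 0, (-2), 0, 0, 1, 0, 0, 0, (-1)])) (.leaf ([]))) (.node (.leaf ([])) (.leaf ([1234998, (-5164973), (-8485607), (-1177419), (-1634176), (-5470473), 790760, 2350873, (-885134), 0, 0, 0, 0, 0, 0, 0, 355725, 670783, (-380512), 538147, (-96911), (-48168), (-476555), (-13674), (-1232), 2254, (-4529), 5275, 186, (-1203), 1663, (-8724), 5419, (-5266), (-1222), (-1228), 1330, 5133, 1609, (-3907), (-3524), (-786), (-91), (-927), (-105), 126, (-23), (-4), (-5), 299, (-2), 17, (-105), 25, 6, (-13), (-52), 44, 67, (-291), (-76), 26, (-39), (-100), 73, (-67), 186, (-51), 68, (-125), 71, (-18), (-69), (-15), (-3), 4, (-85), 71, 28, (-1), (-59)])))))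

/-- data -/
def val0_010000 : Trie (Vec) := .node (.node (.node (.node (.leaf ([])) (.leaf ([0, 0, 0, 0, 0, 0, 0, 0, 0, 0, 0, 0, 0, 0, 0, 0, 0, 0, 0, 0, 0, 0, 0, 0, 0, 0, 0, 0, 0, 0, 0, 0, 0, 0, 0, 0, 0, 0, 0, 0, 0, 0, 1]))) (.node (.leaf ([])) (.leaf ([])))) (.node (.node (.leaf ([0, 0, 0, 0, 0, 0, 0, 0, 0, 0, 0, 0, 0, 0, 0, 0, 0, 0, 0, 0, 0, 0, 0, 0, 0, 0, 0, 0, 0, 0, 0, 0, 0, 0, 0, 0, 0, 0, 0, 0, 0, 0, 1])) (.leaf ([(-31945), 114742, 188107, 11222, 34697, 116022, (-25466), (-38779), 13234, 0, 0, 0, 0, 0, 0, 0, (-21334), (-18585), 9787, (-15897), 5489, 5696, 9482, (-139), 26, (-263), (-206), 194, (-357), 255, (-740), 667, 228, 640, 286, (-253), (-377), (-431), (-501), (-108), (-28), 53, 21, 6, (-1), 5, 1, 2, (-2), (-13), 0, (-3), 0, 2, (-1), 1, 0, 0, 1, (-3), 1, (-1), 1, 2, 1, 2, 0, 3, (-2), 0, (-3), (-1), 0, 0, 1, 2, (-3), (-3), (-1), (-1), 4]))) (.node (.leaf ([])) (.leaf ([161141, (-635658), (-1059685), (-50612), (-227508), (-648213), 179284, 125936, (-36773),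 0, 0, 0, 0, 0, 0, 0, 168899, 100448, (-50220), 88402, (-45523), (-51208), (-34382), 3254, 66, 2842, 2961, (-2963), 3866, (-2932), 7219, (-6298), (-3220), (-7665), (-3331), 3150, 4403, 4331, 5367, 841, 426, (-294), (-151), (-70), (-9), (-25), (-16), (-29), 13, 96, (-9), 27, 7, (-17), 2, 18, 16, 0, (-19), 81, 2, 2, 0, (-2), (-13), (-12), (-9), (-36), 13, 13, 25, 16, 3, (-4), 2, (-15), 29, 12, 1, 5, (-14)]))))) (.node (.node (.node (.leaf ([])) (.leaf ([]))) (.node (.leaf ([])) (.leaf ([])))) (.node (.node (.leaf ([])) (.leaf ([]))) (.node (.leaf ([])) (.leaf ([2933, (-12623), (-20767), (-2388), (-4257), (-13254), 2538, 4029, (-1426), 0, 0, 0, 0, 0, 0, 0, 2139, 1785, (-999), 1521, (-598), (-563), (-927), 15, (-3), 20, 31, (-41), 41, (-21), 64, (-65), (-38), (-83), (-21), 28, 51, 35, 61, 12, 3, (-1), 0, 4, 1, 0, 0, 0, 0, 1, 0, 0, 0, 0, 0, 0, 0, 0, 0, 0, 0, 0, 0, 0, 0, 0, (-1), 0, 0, 0, 0, 0, 0, 0, 1])))))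

/-- data -/
def val0_0100010 : Trie (Vec) := .node (.node (.node (.leaf ([])) (.leaf ([(-104267), 329651, 585291, (-54874), 141112, 333072, (-135851), 28632, (-18935), 0, 0, 0, 0, 0, 0, 0, (-128790), (-48754), 15965, (-42546), 33309, 45695, (-2555), (-4607), (-247), (-3254), (-2821), 2205, (-3720), 3477, (-6976), 6404, 2655, 7512, 4149, (-3488), (-3991), (-4846), (-4880), (-215), (-410), 334, 118, 174, 12, 12, 26, 52, (-24), (-141), 15, (-40), (-10), 28, 1, (-28), (-29), (-2), 37, (-141), 1, 0, (-2), (-3), 23, 20, (-3), 55, (-23), (-24), (-31), (-25), 1, 3, 0, 24, (-47), (-8), 0, (-1), 10]))) (.node (.leaf ([0, 0, 0, 0, 0, 0, 0, 0, 0, 0, 0, 0, 0, 0, 0, 0, 0, 0, 0, 0, 0, 0, 0, 0, 0, 0, 0, 0, 0, 0, 0, 0, 0, 0, 0, 0, 0, 0, 0, 0, 0, 0, 1])) (.leaf ([0, 0, 0, 0, 0, 0, 0, 0, 0, 0, 0, 0, 0, 0, 0, 0, 0, 0, 0, 0, 0, 0, 0, 0, 0, 0, 0, 0, 0, 0, 0, 0, 0, 0, 0, 0, 0, 0, 0, 0, 0, 0, 1])))) (.node (.node (.leaf ([0, 0, 0, 0, 0, 0, 0, 0, 0, 0, 0, 0, 0, 0, 0, 0, 0, 0, 0, 0,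 0, 0, 0, 0, 0, 0, 0, 0, 0, 0, 0, 0, 0, 0, 0, 0, 0, 0, 0, 0, 0, 0, 1])) (.leaf ([(-11957), 47921, 84339, 10873, 19168, 53709, (-8293), (-16901), 6848, 0, 0, 0, 0, 0, 0, 0, (-441), (-3260), 1048, (-1653), 160, 94, 2208, 48, (-16), (-104), 58, (-57), 8, 100, (-1), 150, (-75), 184, 105, (-56), (-61), (-146), (-16), 122, 58, (-2), 3, (-2), 1, 2, 1, 1, 0, (-1), 0, 0, (-2), 0, 1, (-1), 0, 0, 1, (-2), (-1), 0, 0, 0, 0, 0, 1, 0, 0, 0, 0, 0, 0, 0, 0, 0, 0, 1, 0, 0, (-1)]))) (.node (.leaf ([154882, (-576212), (-970385), (-73002), (-189548), (-615719), 95034, 223810, (-84891), 0, 0, 0, 0, 0, 0, 0, 41280, 68782, (-33437), 51715, (-10115), (-9111), (-43838), (-758), (-29), 364, 60, 640, 348, (-439), 753, (-1435), 539, (-945), (-775), 100, 361, 776, 474, (-113), (-222), (-217), (-155), (-50), (-32), (-59), (-9), (-20), 16, 76, (-2), 15, 1, (-12), 0, 3, 12, (-2), (-23), 76, 2, 0, 1, 4, (-21), (-19), 1, (-10), 14, 22, 4, 16, 5, 6, 1, (-13), 36, 1, (-3), (-3), (-4)])) (.leaf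 ([(-1974787), 8078652, 13564299, 1400432, 2821050, 8618549, (-1532881), (-2880901), 1071276, 0, 0, 0, 0, 0, 0, 0, (-853988), (-986918), 499852, (-770482), 230417, 215988, 570223, 1495, (-170), (-12974), (-6008), 3995, (-12913), 13111, (-24778), 32384, 4439, 34630, 15775, (-10229), (-17527), (-20984), (-19483), 1819, 2616, 1872, 1619, 311, 330, 412, 103, 198, (-92), (-710), 34, (-160), (-43), 73, 3, (-137), (-77), 5, 138, (-532), (-35), (-3), (-11), 39, 81, 124, 77, 177, (-141), (-92), (-79), (-110), (-19), 2, (-47), 68, (-205), (-34), (-13), (-8), 62]))))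

/-- data -/
def val0_0100011 : Trie (Vec) := .node (.node (.node (.leaf ([])) (.leaf ([(-428160), 2997617, 4661928, 1231310, 968831, 3124580, (-491904), (-1477477), 523784, 0, 0, 0, 0, 0, 0, 0, (-435329), (-488322), 333288, (-453919), 139061, 71264, 337369, 8712, 1183, (-999), (-2096), 6913, (-3486), (-770), (-7413), 4894, 5931, 9274, (-4678), (-63), (-5220), (-1340), (-7939), (-1090), 352, (-495), 41, 78, 62, (-177), (-11), (-87), 104, 166, 1, 39, 72, (-116), 5, (-39), 89, (-34), (-165), 529, 0, (-2), (-3), 94, (-167), (-55), (-21), (-34), (-6), 166, (-14), 58, 15, 60, (-39), (-88), 229, (-46), (-20), (-24), (-1)]))) (.node (.leaf ([9, (-247), (-397), (-99), (-110), (-292), 27, 107, (-42), 0, 0, 0, 0, 0, 0, 0, 41, 46, (-40), 40, (-12), (-3), (-36), 0, 0, 0, 0, 0, 0, 0, 0, 0, 0, 0, 0, 0, 0, 0, 0, 0, 0, 0, (-1), 0, (-1), (-1), 0, 0, 0, 1])) (.leaf ([(-558825), 2086989, 3683393, 325840, 798579, 2363609, (-287279), (-781349), 325275, 0, 0, 0, 0, 0, 0, 0, 62077,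 (-132454), 35220, (-50918), (-18908), (-22141), 107633, 5152, (-678), (-377), 2678, (-5098), 2445, 977, 5167, 1629, (-5729), 901, 2682, 916, 547, (-1101), 3022, 2812, 2308, 362, 632, (-262), 110, 359, 5, 45, (-50), (-105), (-10), (-15), (-101), 38, 13, (-2), (-40), 11, 91, (-306), (-32), 18, (-12), (-53), 90, 30, 48, (-25), (-23), (-98), 36, (-44), (-34), (-42), (-6), 30, (-129), 65, 22, 18, (-33)])))) (.node (.node (.leaf ([])) (.leaf ([260252, (-1059054), (-1651657), (-490565), (-157916), (-1219433), (-245545), 1192488, (-489864), 0, 0, 0, 0, 0, 0, 0, (-466994), 84397, (-69487), 33594, 130363, 184795, (-221270), (-25015), (-1270), (-15431), (-13711), 15459, (-16933), 15596, (-31614), 26197, 17576, 35504, 17155, (-16815), (-19465), (-21342), (-23097), (-518), (-2894), 108, 130, 542, (-61), (-179), 49, 105, (-8), (-190), 48, (-62), 25, 12, (-4), (-110), (-28), 16, 28, (-152), (-24), 0, (-18), 34, (-15), (-7), (-7), 142, 13, (-8), (-78), (-15), 9, 40, (-32),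 9, (-17), (-102), (-13), (-13), 50]))) (.node (.leaf ([0, 0, 0, 0, 0, 0, 0, 0, 0, 0, 0, 0, 0, 0, 0, 0, 0, 0, 0, 0, 0, 0, 0, 0, 0, 0, 0, 0, 0, 0, 0, 0, 0, 0, 0, 0, 0, 0, 0, 0, 0, 0, 1])) (.leaf ([787440, (-3003793), (-5121826), (-282717), (-1100946), (-3191978), 684071, 776287, (-280358), 0, 0, 0, 0, 0, 0, 0, 466814, 365463, (-165691), 285723, (-123566), (-141162), (-155228), 7621, 479, 8868, 7492, (-5284), 10558, (-9593), 18663, (-20420), (-6039), (-23837), (-12485), 9054, 12900, 14153, 14377, 364, (-169), (-1092), (-837), (-335), (-131), (-214), (-63), (-139), 68, 407, (-37), 99, 37, (-65), 3, 67, 91, 0, (-124), 448, 10, (-4), 15, 10, (-78), (-68), (-20), (-134), 64, 97, 61, 88, 10, 3, 19, (-65), 171, 26, (-7), (-5), (-35)]))))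

/-- data -/
def val0_010010 : Trie (Vec) := .node (.node (.node (.node (.leaf ([])) (.leaf ([]))) (.node (.leaf ([0, 0, 0, 0, 0, 0, 0, 0, 0, 0, 0, 0, 0, 0, 0, 0, 0, 0, 0, 0, 0, 0, 0, 0, 0, 0, 0, 0, 0, 0, 0, 0, 0, 0, 0, 0, 0, 0, 0, 0, 0, 0, 1])) (.leaf ([(-147114), 556466, 942469, 83900, 189092, 599757, (-92229), (-205609), 78929, 0, 0, 0, 0, 0, 0, 0, (-38068), (-62285), 29393, (-44740), 9313, 8987, 39206, 642, 12, (-285), (-93), (-49), (-381), 399, (-607), 1283, (-200), 1259, 646, (-256), (-753), (-671), (-612), (-59), 232, 106, 144, (-75), 22, 61, 4, 13, (-9), (-38), (-1), (-11), (-20), 8, 2, (-4), (-13), 0, 18, (-65), (-4), 2, (-4), (-8), 14, 8, 19, 5, (-9), (-17), 1, (-13), (-10), (-5), (-4), 7, (-27), 13, 0, (-2), (-2)])))) (.node (.node (.leaf ([])) (.leaf ([(-425138), 1643109, 2817169, 229899, 599229, 1782910, (-306715), (-540326), 207461, 0, 0, 0, 0, 0, 0, 0, (-133036), (-171113), 75127, (-121336), 34911, 36599, 95830, (-92), (-264), (-2670), (-1209),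 (-34), (-2274), 2970, (-4091), 6495, 6, 7080, 4067, (-2152), (-3416), (-4397), (-3332), 806, 742, 431, 476, (-25), 79, 174, 25, 56, (-36), (-170), 5, (-41), (-39), 29, 6, (-28), (-36), 5, 63, (-215), (-17), 6, (-10), (-15), 49, 34, 30, 30, (-30), (-58), (-9), (-41), (-19), (-13), (-14), 28, (-91), 14, 7, 1, 1]))) (.node (.leaf ([])) (.leaf ([(-413366), 1399615, 2356319, 16870, 472003, 1421175, (-379039), (-295275), 92757, 0, 0, 0, 0, 0, 0, 0, (-330156), (-214516), 99917, (-182059), 84808, 102060, 75971, (-6766), (-31), (-6060), (-5230), 4033, (-7544), 6349, (-14269), 13371, 4856, 14825, 7861, (-6386), (-8162), (-9598), (-10038), (-910), (-538), 796, 364, 247, 15, 49, 41, 85, (-44), (-291), 20, (-75), (-6), 44, (-9), (-30), (-43), (-2), 54, (-207), 9, (-9), (-1), 8, 36, 45, 4, 99, (-38), (-37), (-66), (-43), (-2), 4, (-1), 44, (-91), (-37), (-9), (-8), 50]))))) (.node (.node (.node (.leaf ([])) (.leaf ([]))) (.node (.leaf ([0, 0, 0, 0, 0, 0, 0, 0, 0, 0, 0, 0,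 0, 0, 0, 0, 0, 0, 0, 0, 0, 0, 0, 0, 0, 0, 0, 0, 0, 0, 0, 0, 0, 0, 0, 0, 0, 0, 0, 0, 0, 0, 1])) (.leaf ([])))) (.node (.node (.leaf ([])) (.leaf ([4477195, (-20679011), (-34377018), (-4292543), (-7530287), (-21896634), 4478619, 6661546, (-2375751), 0, 0, 0, 0, 0, 0, 0, 3252743, 2734512, (-1476750), 2296762, (-927914), (-863458), (-1391400), 24243, 756, 53926, 40860, (-43676), 61693, (-52184), 114112, (-119298), (-46280), (-149679), (-56278), 49681, 78967, 81977, 92372, (-2529), (-2500), (-3439), (-3785), (-2372), (-725), (-345), (-288), (-464), 46, 1544, (-210), 348, (-46), 30, (-17), 519, 152, 74, (-159), 618, 75, (-25), 94, (-253), 123, (-140), 30, (-585), 265, (-32), 362, 217, (-31), (-167), 219, (-35), 120, 308, 27, 41, (-151)]))) (.node (.leaf ([0, 0, 0, 0, 0, 0, 0, 0, 0, 0, 0, 0, 0, 0, 0, 0, 0, 0, 0, 0, 0, 0, 0, 0, 0, 0, 0, 0, 0, 0, 0, 0, 0, 0, 0, 0, 0, 0, 0, 0, 0, 0, 1])) (.leaf ([(-79939), 243946, 427704, (-51206), 102931, 235572, (-117700), 50465, (-27405),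 0, 0, 0, 0, 0, 0, 0, (-127278), (-43523), 16322, (-39994), 33428, 43855, (-4358), (-4300), (-135), (-2988), (-2725), 2599, (-3611), 3120, (-6648), 5938, 2944, 7241, 3700, (-3312), (-4042), (-4491), (-4815), (-387), (-428), 214, 101, 111, (-7), (-1), 16, 33, (-13), (-94), 10, (-27), (-5), 16, (-2), (-18), (-16), 0, 19, (-73), 1, (-2), (-2), 4, 10, 11, 0, 39, (-10), (-12), (-26), (-15), 0, 5, (-3), 14, (-27), (-16), (-3), (-4), 14])))))

/-- data -/
def val0_010011 : Trie (Vec) := .node (.node (.node (.node (.leaf ([0, 0, 0, 0, 0, 0, 0, 0, 0, 0, 0, 0, 0, 0, 0, 0, 0, 0, 0, 0, 0, 0, 0, 0, 0, 0, 0, 0, 0, 0, 0, 0, 0, 0, 0, 0, 0, 0, 0, 0, 0, 0, 1])) (.leaf ([(-160), 14, 343, (-288), 130, 117, (-39), 115, (-12), 0, 0, 0, 0, 0, 0, 0, 239, 141, (-135), 180, (-74), (-54), (-90), 3, (-1), (-5), 8, (-10), 5, 5, 4, 3, (-9), 0, 7, 0, 3, (-7), 7, 7, 3, 0, 1, 0, 0, 0, 0, 0, 0, 0, 0, 0, 0, 0, 0, 0, 0, 0, 0, 0, 0, 0, 0, 0, 0, 0, 0, 0, (-1)]))) (.node (.leaf ([(-6849), 55820, 96854,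 17719, 26979, 64849, (-10938), (-16449), 6691, 0, 0, 0, 0, 0, 0, 0, (-3693), (-3535), 1785, (-2304), 1515, 1050, 1868, (-108), (-38), (-148), (-101), 48, (-133), 157, (-146), 322, 75, 427, 225, (-98), (-203), (-198), (-179), 125, 41, 3, 20, 7, 6, 3, 1, 1, 0, (-6), 2, 0, 1, 0, 0, (-4), (-1), 2, 4, (-7), (-2), 1, (-1), 1, 0, 1, 3, 1, 1, (-2), 0, (-2), 1, 1, (-2), 0, (-1), (-3), 1, 1])) (.leaf ([0, 0, 0, 0, 0, 0, 0, 0, 0, 0, 0, 0, 0, 0, 0, 0, 0, 0, 0, 0, 0, 0, 0, 0, 0, 0, 0, 0, 0, 0, 0, 0, 0, 0, 0, 0, 0, 0, 0, 0, 0, 0, 1])))) (.node (.node (.leaf ([])) (.leaf ([]))) (.node (.leaf ([])) (.leaf ([(-58894), 200781, 342930, 21654, 65473, 216247, (-31342), (-75822), 29785, 0, 0, 0, 0, 0, 0, 0, (-8650), (-21347), 9018, (-13745), 1524, 1884, 14064, 420, 21, 28, 134, (-109), 10, 35, 26, 293, (-195), 110, 157, 35, (-179), (-80), (-3), (-115), 92, 39, 47, (-66), 0, 25, (-1), 1, (-2), (-3), (-2), (-1), (-8), 3, (-1), 4, (-2), 1, 5, (-18), (-1), (-1), (-1), (-2), 5, 1, 12,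 (-2), 1, (-6), 2, (-3), (-5), (-2), 0, 2, (-10), 4, (-1), (-2), 2]))))) (.node (.node (.node (.leaf ([0, 0, 0, 0, 0, 0, 0, 0, 0, 0, 0, 0, 0, 0, 0, 0, 0, 0, 0, 0, 0, 0, 0, 0, 0, 0, 0, 0, 0, 0, 0, 0, 0, 0, 0, 0, 0, 0, 0, 0, 0, 0, 1])) (.leaf ([]))) (.node (.leaf ([216540, (-822638), (-1416724), (-105747), (-306982), (-887327), 172466, 243925, (-92695), 0, 0, 0, 0, 0, 0, 0, 85303, 86518, (-36766), 62566, (-22414), (-25528), (-42281), 1066, 168, 2312, 805, (-289), 1803, (-2412), 3353, (-4686), (-408), (-5291), (-3010), 1950, 2513, 3588, 2555, (-863), (-440), (-200), (-141), (-109), (-14), (-30), (-15), (-30), 11, 96, (-7), 21, 18, (-12), (-4), 18, 12, 3, (-21), 72, 1, (-1), 2, (-2), (-9), (-12), 4, (-27), 12, 10, 21, 12, (-2), 0, 5, (-11), 24, 3, 1, 0, (-7)])) (.leaf ([0, 0, 0, 0, 0, 0, 0, 0, 0, 0, 0, 0, 0, 0, 0, 0, 0, 0, 0, 0, 0, 0, 0, 0, 0, 0, 0, 0, 0, 0, 0, 0, 0, 0, 0, 0, 0, 0, 0, 0, 0, 0, 1])))) (.node (.node (.leaf ([])) (.leaf ([]))) (.node (.leaf ([])) (.leaf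 ([5890656, (-31397001), (-52027902), (-7989202), (-12070521), (-33374223), 7230238, 9737762, (-3411885), 0, 0, 0, 0, 0, 0, 0, 5519053, 4149581, (-2331183), 3589449, (-1638322), (-1470103), (-2010432), 51246, 3484, 101858, 75658, (-90377), 110021, (-95832), 205546, (-208290), (-96130), (-277480), (-95863), 91474, 143690, 147722, 168675, (-12087), (-3051), (-2703), (-4898), (-5058), (-1181), 262, (-463), (-598), (-187), 1814, (-407), 380, (-297), 350, (-85), 1064, 51, 162, 34, (-139), 181, (-90), 186, (-579), 578, 6, 279, (-859), 304, (-380), 577, 176, (-165), (-430), 482, 168, (-418), 619, 28, 49, (-123)])))))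

/-- data -/
def val0_010100 : Trie (Vec) := .node (.node (.node (.node (.leaf ([])) (.leaf ([0, 0, 0, 0, 0, 0, 0, 0, 0, 0, 0, 0, 0, 0, 0, 0, 0, 0, 0, 0, 0, 0, 0, 0, 0, 0, 0, 0, 0, 0, 0, 0, 0, 0, 0, 0, 0, 0, 0, 0, 0, 0, 1]))) (.node (.leaf ([0, 0, 0, 0, 0, 0, 0, 0, 0, 0, 0, 0, 0, 0, 0, 0, 0, 0, 0, 0, 0, 0, 0, 0, 0, 0, 0, 0, 0, 0, 0, 0, 0, 0, 0, 0, 0, 0, 0, 0, 0, 0, 1])) (.leaf ([0, 0, 0, 0, 0, 0, 0, 0, 0, 0, 0, 0, 0, 0, 0, 0, 0, 0, 0, 0, 0, 0, 0, 0, 0, 0, 0, 0, 0, 0, 0, 0, 0, 0, 0, 0, 0, 0, 0, 0, 0, 0, 1, 0, 0, 0, 0, 0, 0, 0, (-1)])))) (.node (.node (.leaf ([13419, (-54666), (-91750), (-5122), (-19853), (-56975), 13571, 14489, (-4826), 0, 0, 0, 0, 0, 0, 0, 10703, 7764, (-3775), 6621, (-2865), (-3224), (-3223), 191, 11, 190, 174, (-110), 235, (-202), 458, (-428), (-146), (-468), (-238), 186, 240, 291, 315, 22, 19, (-32), (-14), (-10), (-2), (-2), (-2), (-4), 2, 12, (-1), 3, 0, (-2), 0, 2, 2, 0, (-2), 9, 0, 0, 0, 0, (-2), (-2), 0, (-4), 2, 2, 2, 2, 0, 0, 0, (-2),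 4, 1, 0, 0, (-1)])) (.leaf ([0, 0, 0, 0, 0, 0, 0, 0, 0, 0, 0, 0, 0, 0, 0, 0, 0, 0, 0, 0, 0, 0, 0, 0, 0, 0, 0, 0, 0, 0, 0, 0, 0, 0, 0, 0, 0, 0, 0, 0, 0, 0, 1]))) (.node (.leaf ([])) (.leaf ([(-185232), 666286, 1150619, 50887, 249135, 714711, (-153347), (-144062), 54339, 0, 0, 0, 0, 0, 0, 0, (-99665), (-74286), 30962, (-52933), 25048, 32612, 28288, (-2017), (-108), (-1990), (-1577), 1819, (-2530), 2256, (-3950), 4865, 1718, 5890, 3064, (-2299), (-3552), (-3253), (-3412), (-226), 110, 101, 166, (-44), 16, 38, 12, 25, (-4), (-72), 8, (-18), (-28), 12, 2, (-22), (-9), 1, 27, (-73), (-8), (-2), (-5), 2, 8, 8, 29, 26, (-3), (-10), (-16), (-11), (-3), 4, (-15), 7, (-24), 0, (-2), (-7), 6]))))) (.node (.node (.node (.leaf ([2441, (-11099), (-18235), (-562), (-4709), (-10129), 5879, (-926), 909, 0, 0, 0, 0, 0, 0, 0, 6758, 2455, (-1274), 2611, (-1908), (-2116), (-110), 211, 2, 176, 115, (-118), 175, (-166), 348, (-304), (-143), (-362), (-166), 163, 183, 249, 243, (-27),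 18, (-7), (-1), (-12), 2, 2, (-1), (-1), 0, 4, (-1), 1, 0, 0, 0, 1, 0, 0, 0, (-1), 0, 0, 0, (-1), 1, 0, 1, (-2), 0, (-1), 2, 0, (-1), (-1), 0, 0, (-1), 2, 0, 0, (-1)])) (.leaf ([0, 0, 0, 0, 0, 0, 0, 0, 0, 0, 0, 0, 0, 0, 0, 0, 0, 0, 0, 0, 0, 0, 0, 0, 0, 0, 0, 0, 0, 0, 0, 0, 0, 0, 0, 0, 0, 0, 0, 0, 0, 0, 0, 0, 0, 0, 0, 0, 0, 0, 1]))) (.node (.leaf ([])) (.leaf ([2644, (-8139), (-12688), (-181), (-1799), (-7558), 2144, 1853, (-458), 0, 0, 0, 0, 0, 0, 0, 2992, 1886, (-1052), 1724, (-750), (-847), (-777), 23, (-7), 16, 44, (-75), 56, (-17), 104, (-60), (-66), (-86), (-13), 37, 70, 32, 82, 54, 14, 0, (-1), 8, (-1), 0, 0, 0, 0, (-1), 0, 0, 0, 0, 0, (-1), 0, 0, 0, 0, 0, 0, 0, 0, 0, 0, (-2), 0, 0, 0, 0, 0, 1, 0, 0, 0, 0, 0, 0, 1])))) (.node (.node (.leaf ([])) (.leaf ([(-2377), 8119, 12959, (-827), 2155, 7941, (-1867), (-2360), 698, 0, 0, 0, 0, 0, 0, 0, (-2188), (-1685), 884, (-1521), 523, 625, 770, (-7), 1, (-1), (-44), 18, (-39), 10, (-81), 40, 26, 38, 21, (-13), (-27),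 (-14), (-48), (-40), (-13), 10, 4, 1, 1, 1, 0, 1, (-1), (-3), 0, (-1), 0, 1, 0, 0, (-1), 0, 1, (-3), 0, 0, 0, 0, 1, 1, 0, 0, (-1), (-1), 0, (-1), 0, (-1), 0, 1, (-2)]))) (.node (.leaf ([])) (.leaf ([(-1368683), 8177697, 13256302, 2438694, 3042762, 8570297, (-1889491), (-2747734), 931318, 0, 0, 0, 0, 0, 0, 0, (-1646694), (-1220356), 736925, (-1108281), 493025, 419528, 619879, (-10749), 67, (-24665), (-21851), 30395, (-30498), 22039, (-58388), 52478, 31350, 71835, 18302, (-22830), (-38662), (-35198), (-47914), (-1433), (-1124), 340, 911, 1089, 258, (-274), 97, 73, 122, (-272), 98, (-71), 133, (-150), 13, (-277), 50, (-59), (-138), 422, (-44), 3, (-32), 205, (-251), (-51), (-36), 198, (-79), 208, (-152), 5, 48, 152, (-113), (-96), 271, (-190), (-30), (-41), 38])))))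

/-- data -/
def val0_010101 : Trie (Vec) := .node (.node (.node (.node (.leaf ([])) (.leaf ([]))) (.node (.leaf ([])) (.leaf ([(-2647), 8217, 12841, 192, 1851, 7670, (-2141), (-1871), 466, 0, 0, 0, 0, 0, 0, 0, (-2972), (-1876), 1044, (-1714), 745, 841, 774, (-24), 7, (-16), (-44), 75, (-56), 17, (-104), 60, 66, 86, 13, (-37), (-70), (-32), (-82), (-54), (-14), 0, 2, (-8), 1, 0, 0, 0, 0, 1, 0, 0, 0, 0, 0, 1, 0, 0, 0, 0, 0, 0, 0, 0, 0, 0, 2, 0, 0, 0, 0, 0, (-1), 0, 0, 0, 0, 0, 0, (-1)])))) (.node (.node (.leaf ([0, 0, 0, 0, 0, 0, 0, 0, 0, 0, 0, 0, 0, 0, 0, 0, 0, 0, 0, 0, 0, 0, 0, 0, 0, 0, 0, 0, 0, 0, 0, 0, 0, 0, 0, 0, 0, 0, 0, 0, 0, 0, 0, 0, 0, 0, 0, 0, 0, 0, 0, 0, 0, 0, 0, 0, 0, 0, 1])) (.leaf ([0, 0, 0, 0, 0, 0, 0, 0, 0, 0, 0, 0, 0, 0, 0, 0, 0, 0, 0, 0, 0, 0, 0, (-1), 0, 0, 0, 0, 0, 0, 0, 0, 0, 0, 0, 0, 0, 0, 0, 0, 0, 0, 1, 0, 0, 0, 0, 0, 0, 0, 0, 0, 0, 0, 0, (-1)]))) (.node (.leaf ([])) (.leaf ([1027, (-1756), (-1803), 1248, 487, (-576), 1042, (-119), 346,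 0, 0, 0, 0, 0, 0, 0, 2615, 1272, (-804), 1444, (-673), (-710), (-400), 39, (-6), 21, 50, (-36), 51, (-20), 101, (-52), (-41), (-58), (-19), 32, 39, 37, 71, 22, 15, (-6), 5, 3, (-1), (-1), 0, 0, 1, 2, 0, 0, 0, (-1), 0, (-1), 0, 0, 0, 0, 0, 0, 0, 0, (-1), (-1), (-1), 0, 0, 0, 0, 0, 0, 0, (-1), (-1)]))))) (.node (.node (.node (.leaf ([])) (.leaf ([(-517699), 1987299, 3336781, 305081, 677312, 2094768, (-403920), (-666943), 245411, 0, 0, 0, 0, 0, 0, 0, (-250411), (-253216), 126576, (-198968), 66255, 66393, 136003, (-790), 130, (-4342), (-1776), 2023, (-4143), 4224, (-8116), 9887, 2121, 10872, 4942, (-3703), (-5732), (-6997), (-6244), 508, 602, 347, 435, 70, 49, 71, 14, 42, (-12), (-145), 6, (-31), (-6), 3, (-8), (-30), (-7), 5, 12, (-71), (-9), (-5), (-2), 26, 0, 23, 22, 51, (-22), (-5), (-20), (-15), (-4), 4, (-11), 4, (-31), (-33), (-14), (-6), 33]))) (.node (.leaf ([])) (.leaf ([3764, (-33287), (-55018), (-28922), (-9666), (-42507), (-9338), 43659, (-18706), 0,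 0, 0, 0, 0, 0, 0, (-23184), (-849), (-269), (-3305), 6051, 8614, (-6502), (-1117), (-22), (-517), (-708), 577, (-790), 560, (-1370), 1039, 667, 1349, 669, (-684), (-739), (-782), (-1001), (-157), (-160), 44, (-12), 54, (-1), (-14), 5, 10, (-4), (-25), 5, (-7), 1, 4, 0, (-5), (-6), (-2), 6, (-19), 2, 0, (-1), (-1), 2, 4, (-3), 13, (-3), (-3), (-8), (-4), 1, 2, 0, 5, (-5), (-4), 0, 0, 3])))) (.node (.node (.leaf ([])) (.leaf ([288814, (-2057129), (-3381647), (-1030460), (-721316), (-2389395), 18008, 1430957, (-582740), 0, 0, 0, 0, 0, 0, 0, (-338896), 143023, (-106887), 74528, 79343, 147864, (-239492), (-23518), (-246), (-9925), (-11537), 10221, (-13576), 10595, (-25274), 17453, 12148, 21232, 12985, (-12948), (-12602), (-14823), (-16595), (-3569), (-3572), 784, (-48), 492, (-163), (-154), 47, 113, (-55), (-302), 39, (-105), 6, 82, (-27), (-21), (-73), (-5), 53, (-259), 43, (-22), 4, (-4), 41, 23, (-27), 170, (-14), (-40), (-127), (-45), 10, 21, 36, 65, (-106),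 (-83), (-20), (-18), 89]))) (.node (.leaf ([0, 0, 0, 0, 0, 0, 0, 0, 0, 0, 0, 0, 0, 0, 0, 0, 0, 0, 0, 0, 0, 0, 0, 0, 0, 0, 0, 0, 0, 0, 0, 0, 0, 0, 0, 0, 0, 0, 0, 0, 0, 0, 1])) (.leaf ([1822387, (-1869457), (-4080302), 2024899, (-197206), (-2245066), (-315871), 974959, (-532117), 0, 0, 0, 0, 0, 0, 0, (-1323509), (-172258), 339833, (-441982), 464556, 330939, (-58984), (-23751), 456, (-22411), (-28188), 52408, (-31245), 15759, (-58269), 33346, 52858, 70171, 1582, (-23789), (-39113), (-25867), (-52093), (-2573), (-6467), (-4551), (-2052), 2080, (-188), (-1687), (-78), (-380), 530, 1305, 128, 323, 440, (-557), 24, (-260), 370, (-153), (-712), 2487, 16, 33, (-38), 403, (-818), (-433), (-398), (-34), 198, 785, (-88), 349, 183, 331, (-143), (-454), 1217, (-355), (-41), (-60), (-89)])))))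

/-- data -/
def val0_010110 : Trie (Vec) := .node (.node (.node (.node (.leaf ([])) (.leaf ([]))) (.node (.leaf ([])) (.leaf ([])))) (.node (.node (.leaf ([(-2441), 11099, 18235, 562, 4709, 10129, (-5879), 926, (-909), 0, 0, 0, 0, 0, 0, 0, (-6758), (-2455), 1274, (-2611), 1908, 2116, 110, (-212), (-2), (-176), (-115), 118, (-175), 166, (-348), 304, 143, 362, 166, (-163), (-183), (-249), (-243), 27, (-18), 7, 2, 12, (-2), (-2), 1, 1, 0, (-4), 1, (-1), 0, 0, 0, (-1), 0, 0, 0, 1, 0, 0, 0, 1, (-1), 0, (-1), 2, 0, 1, (-2), 0, 1, 1, 0, 0, 1, (-2), 0, 0, 1])) (.leaf ([22894, (-77312), (-126628), (-3684), (-22860), (-76587), 19353, 22454, (-7155), 0, 0, 0, 0, 0, 0, 0, 18133, 13486, (-6956), 11868, (-4650), (-5115), (-6027), 228, (-17), 250, 223, (-205), 345, (-250), 702, (-598), (-239), (-599), (-279), 261, 353, 403, 473, 103, 43, (-46), (-12), (-3), 2, (-2), (-1), (-2), 2, 12, 0, 3, 0, (-2), 1, (-1), 0, 0, 0, 3, (-1), 1, (-1), (-1), (-1), (-2), 0, (-4), 1, 0, 3, 1,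 0, 0, (-1), (-2), 3, 2, 1, 1, (-4)]))) (.node (.leaf ([])) (.leaf ([(-230676), 860956, 1486318, 68917, 318982, 930301, (-175196), (-252267), 93625, 0, 0, 0, 0, 0, 0, 0, (-86658), (-94475), 37716, (-66326), 21222, 28082, 46754, (-578), (-327), (-1272), (-1332), 573, (-1595), 1684, (-3447), 3809, 773, 3633, 2216, (-1180), (-1957), (-2011), (-2240), (-780), (-153), 451, 338, (-190), 83, 153, 24, 59, (-40), (-148), (-4), (-49), (-22), 39, 2, (-23), (-41), 13, 63, (-245), (-20), 1, (-3), (-26), 68, 39, 57, 31, (-39), (-77), 10, (-42), (-30), (-19), (-6), 36, (-106), 31, 3, (-3), (-2)]))))) (.node (.node (.node (.leaf ([])) (.leaf ([0, 0, 0, 0, 0, 0, 0, 0, 0, 0, 0, 0, 0, 0, 0, 0, 0, 0, 0, 0, 0, 0, 0, 0, 0, 0, 0, 0, 0, 0, 0, 0, 0, 0, 0, 0, 0, 0, 0, 0, 0, 0, 1]))) (.node (.leaf ([])) (.leaf ([(-1615), 10395, 17153, 3034, 4200, 11121, (-2482), (-2956), 995, 0, 0, 0, 0, 0, 0, 0, (-2143), (-1375), 797, (-1254), 666, 567, 605, (-32), (-2), (-33), (-42), 46, (-47), 33, (-82),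 74, 47, 105, 31, (-36), (-58), (-48), (-71), (-2), (-4), 2, 1, 4, (-1), 0, 0, 0, 0, (-1), 0, 0, 0, 0, 0, 0, 0, 0, 0, 0, 0, 0, 0, 0, 0, 0, (-1), 0, 0, 0, 0, 0, 0, 0, (-1)])))) (.node (.node (.leaf ([])) (.leaf ([]))) (.node (.leaf ([])) (.leaf ([0, 0, 0, 0, 0, 0, 0, 0, 0, 0, 0, 0, 0, 0, 0, 0, 0, 0, 0, 0, 0, 0, 0, 0, 0, 0, 0, 0, 0, 0, 0, 0, 0, 0, 0, 0, 0, 0, 0, 0, 0, 0, 1])))))

/-- data -/
def val0_010111 : Trie (Vec) := .node (.node (.node (.node (.leaf ([])) (.leaf ([]))) (.node (.leaf ([6863, (-23095), (-39325), (-3794), (-7396), (-24817), 3550, 8481, (-3324), 0, 0, 0, 0, 0, 0, 0, 1259, 2428, (-1097), 1701, (-291), (-260), (-1567), (-23), (-4), 19, (-7), (-1), 11, (-18), 5, (-46), 18, (-65), (-23), 23, 36, 40, 24, (-16), (-18), 2, (-4), 4, 0, (-2), 0, 0, 0, 0, 0, 0, 2, 0, 0, 0, 0, 0, 0, 0, 0, 0, 0, 0, 0, 0, (-1)])) (.leaf ([(-768352), 3533550, 5855397, 840004, 1232571, 3781983, (-622138), (-1398305), 519994, 0, 0, 0, 0, 0, 0, 0, (-347097), (-440614), 244696,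 (-355827), 100295, 74233, 279246, 4066, 187, (-3984), (-1563), 1881, (-4119), 3610, (-7693), 10889, 1658, 12427, 3614, (-2546), (-6188), (-6493), (-6994), 1086, 1392, 434, 508, 234, 152, 94, 37, 36, (-7), (-184), 17, (-34), 9, (-8), 10, (-52), (-5), (-16), 15, (-30), (-5), 3, (-5), 34, (-17), 30, (-8), 37, (-52), 12, (-28), (-26), 7, 15, (-26), (-3), (-5), (-17), 1, (-4), 4])))) (.node (.node (.leaf ([])) (.leaf ([(-61531), 303262, 529356, 107392, 114849, 364029, (-550), (-193234), 82442, 0, 0, 0, 0, 0, 0, 0, 73683, (-7446), 1955, 6353, (-19287), (-26098), 26291, 3434, (-97), 1478, 1900, (-2290), 2324, (-1431), 4261, (-2669), (-2493), (-3575), (-1452), 2009, 2217, 2196, 3032, 695, 615, (-14), 71, (-86), 31, 59, (-5), (-5), 0, 19, (-7), 9, (-8), (-1), 4, 5, 0, 5, 10, (-25), (-9), 3, 0, (-10), 13, 2, 9, (-24), (-1), (-15), 20, (-3), (-4), (-10), (-2), 1, (-13), 17, 5, 7, (-12)]))) (.node (.leaf ([])) (.leaf ([(-980503), 4923031, 8382805, 1337471, 1947661, 5448548,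 (-872192), (-1853042), 717885, 0, 0, 0, 0, 0, 0, 0, (-274890), (-461978), 231571, (-328807), 93127, 55211, 303728, 6412, (-1377), (-7634), 138, (-17), (-2591), 7256, (-6189), 14998, (-143), 19364, 7235, (-3371), (-7606), (-10414), (-6487), 6549, 3368, 163, 1182, (-348), 266, 347, 51, 69, 5, (-185), (-3), (-34), (-75), (-29), 34, (-154), (-8), 26, 48, (-181), (-96), 27, (-33), 11, 12, 18, 119, 8, (-33), (-58), 35, (-40), (-36), (-1), (-102), (-17), (-51), 45, 6, (-1), (-33)]))))) (.node (.node (.node (.leaf ([])) (.leaf ([]))) (.node (.leaf ([])) (.leaf ([(-44950), 230139, 370953, 45129, 79921, 237008, (-53195), (-81648), 27462, 0, 0, 0, 0, 0, 0, 0, (-45986), (-37558), 21813, (-34775), 13020, 12224, 19382, (-775), 15, (-748), (-665), 194, (-932), 695, (-1671), 1571, 380, 1806, 834, (-721), (-757), (-1172), (-1195), 172, 30, 136, 45, 181, 7, (-25), 7, 15, 0, (-55), 8, (-12), 6, (-1), (-2), (-12), (-7), (-8), 1, (-20), 7, (-2), (-2), 7, (-8), 1, (-19), 25, (-9),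 5, (-17), (-6), 9, 7, 5, 1, (-1), (-17), 0, 3, 8])))) (.node (.node (.leaf ([0, 0, 0, 0, 0, 0, 0, 0, 0, 0, 0, 0, 0, 0, 0, 0, 0, 0, 0, 0, 0, 0, 0, 0, 0, 0, 0, 0, 0, 0, 0, 0, 0, 0, 0, 0, 0, 0, 0, 0, 0, 0, 1, 0, 0, 0, 0, 0, 0, 0, 0, 0, 0, 0, 0, 0, 0, 0, 0, 0, (-1)])) (.leaf ([0, 0, 0, 0, 0, 0, 0, 0, 0, 0, 0, 0, 0, 0, 0, 0, 0, 0, 0, 0, 0, 0, 0, 0, 0, 0, 0, 0, 0, 0, 0, 0, 0, 0, 0, 0, 0, 0, 0, 0, 0, 0, 1]))) (.node (.leaf ([0, 0, 0, 0, 0, 0, 0, 0, 0, 0, 0, 0, 0, 0, 0, 0, 0, 0, 0, 0, 0, 0, 0, 0, 0, 0, 0, 0, 0, 0, 0, 0, 0, 0, 0, 0, 0, 0, 0, 0, 0, 0, 1])) (.leaf ([(-768377), 2986537, 5170995, 286764, 1197041, 3181597, (-810269), (-508827), 175737, 0, 0, 0, 0, 0, 0, 0, (-594722), (-342555), 142687, (-265258), 162176, 191190, 93441, (-14158), (-991), (-14653), (-10629), 10906, (-15318), 15065, (-27214), 29270, 11637, 37306, 18070, (-14961), (-20237), (-21940), (-21688), 780, 82, 631, 807, 392, 58, 140, 31, 118, (-28), (-291), 40, (-56), (-56), 28, (-7), (-88), (-49), 9,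 76, (-316), (-31), 6, (-22), 17, 31, 22, 16, 137, (-10), (-42), (-54), (-40), (-17), 7, (-33), 24, (-89), (-64), (-8), (-6), 39])))))

/-- data -/
def val0_011000 : Trie (Vec) := .node (.node (.node (.node (.leaf ([0, 0, 0, 0, 0, 0, 0, 0, 0, 0, 0, 0, 0, 0, 0, 0, 0, 0, 0, 0, 0, 0, 0, 0, 0, 0, 0, 0, 0, 0, 0, 0, 0, 0, 0, 0, 0, 0, 0, 0, 0, 0, 1])) (.leaf ([18250, (-79661), (-137979), (-15024), (-31707), (-88319), 14718, 26929, (-10409), 0, 0, 0, 0, 0, 0, 0, 4369, 7128, (-2938), 4735, (-1238), (-1273), (-4242), (-37), 36, 134, 28, 26, 68, (-152), 158, (-294), 22, (-320), (-175), 85, 127, 191, 118, (-63), (-40), (-22), (-12), 2, (-5), (-6), (-2), (-4), 2, 9, 0, 3, 2, (-2), (-1), 2, 2, 0, (-3), 11, 1, 0, 0, 1, (-3), (-2), (-2), (-2), 3, 3, 0, 2, 1, 1, 0, (-2), 4, (-2), 0, 0, 1]))) (.node (.leaf ([])) (.leaf ([])))) (.node (.node (.leaf ([0, 0, 0, 0, 0, 0, 0, 0, 0, 0, 0, 0, 0, 0, 0, 0, 0, 0, 0, 0, 0, 0, 0, 0, 0, 0, 0, 0, 0, 0, 0, 0, 0, 0, 0, 0, 0, 0, 0, 0, 0, 0, 1]))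 (.leaf ([(-4393), 12619, 26618, (-9383), 11576, 9698, (-18582), 23481, (-10631), 0, 0, 0, 0, 0, 0, 0, (-21600), (-2799), 59, (-3924), 6039, 7864, (-4777), (-1023), (-40), (-738), (-506), 439, (-702), 730, (-1361), 1184, 534, 1522, 770, (-730), (-743), (-1053), (-941), 131, (-70), 26, (-6), 71, (-3), (-11), 5, 8, (-2), (-19), 5, (-4), (-1), 2, 1, (-7), (-6), (-2), 5, (-18), 0, 1, 0, 1, 0, 0, (-6), 10, (-2), (-1), (-8), (-3), 3, 2, 2, 2, (-2), (-5), 1, 1]))) (.node (.leaf ([])) (.leaf ([(-98428), 390920, 589480, 68752, 81643, 377267, (-62116), (-197714), 66760, 0, 0, 0, 0, 0, 0, 0, (-77230), (-85374), 53893, (-79067), 19820, 15750, 55050, 1019, 329, 495, (-532), 653, (-674), (-562), (-1464), 402, 668, (-97), (-798), 254, (-288), 425, (-986), (-1267), (-290), 169, 51, 2, 12, (-3), 2, 3, (-7), (-36), (-3), (-11), 17, 3, (-5), 7, 2, (-3), (-9), 13, 7, (-5), 4, 9, 0, 11, 0, 10, (-15), 6, (-6), (-2), (-3), (-2), 3, 4, (-6), (-8), (-7), (-6), 12]))))) (.node (.node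 (.node (.leaf ([])) (.leaf ([]))) (.node (.leaf ([])) (.leaf ([(-161474), 408113, 575519, 11008, (-6151), 366915, 6478, (-356623), 129152, 0, 0, 0, 0, 0, 0, 0, (-6344), (-106547), 67793, (-95553), (-4177), (-12809), 93969, 4763, 848, 3457, 1919, (-3172), 2225, (-3519), 3442, (-4435), (-3207), (-7986), (-3672), 3356, 4079, 4122, 3464, (-1576), (-34), 425, 92, (-16), 6, 38, 2, 0, (-21), (-88), (-12), (-26), 24, 14, (-13), 40, (-10), (-8), (-5), (-4), 27, (-13), 10, 1, 16, 31, (-12), 6, (-31), (-10), (-14), (-15), (-3), (-10), 21, 20, (-39), (-1), (-8), (-4), 29])))) (.node (.node (.leaf ([])) (.leaf ([(-27244), 91760, 150552, 1884, 26962, 91685, (-21484), (-28122), 9152, 0, 0, 0, 0, 0, 0, 0, (-19520), (-15790), 8036, (-13735), 4882, 5547, 7431, (-197), 11, (-218), (-254), 162, (-357), 239, (-751), 612, 220, 555, 288, (-232), (-318), (-368), (-473), (-162), (-61), 67, 20, 3, 0, 5, 2, 5, (-4), (-20), 0, (-6), 0, 4, (-1), 0, (-2), 0, 2, (-12), 1, (-1), 1, 0, 4, 4,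 1, 6, (-4), (-3), (-4), (-2), (-1), (-1), 1, 4, (-7), (-1), (-1), (-1), 4]))) (.node (.leaf ([])) (.leaf ([0, 0, 0, 0, 0, 0, 0, 0, 0, 0, 0, 0, 0, 0, 0, 0, 0, 0, 0, 0, 0, 0, 0, 0, 0, 0, 0, 0, 0, 0, 0, 0, 0, 0, 0, 0, 0, 0, 0, 0, 0, 0, 1])))))

/-- data -/
def val0_011001 : Trie (Vec) := .node (.node (.node (.node (.leaf ([])) (.leaf ([0, 0, 0, 0, 0, 0, 0, 0, 0, 0, 0, 0, 0, 0, 0, 0, 0, 0, 0, 0, 0, 0, 0, 0, 0, 0, 0, 0, 0, 0, 0, 0, 0, 0, 0, 0, 0, 0, 0, 0, 0, 0, 1]))) (.node (.leaf ([(-312), 4048, 6998, 1633, 1936, 4956, (-285), (-2201), 924, 0, 0, 0, 0, 0, 0, 0, 590, (-145), 79, (-9), (-124), (-218), 297, 29, (-4), 12, 11, (-21), 17, (-10), 34, (-17), (-20), (-24), (-7), 18, 17, 20, 24, 7, 6, 2, 2, 0, 1, 1, 0, 0, 0, (-1)])) (.leaf ([])))) (.node (.node (.leaf ([])) (.leaf ([27201, (-106794), (-184049), (-15451), (-40855), (-114930), 23743, 30898, (-11453), 0, 0, 0, 0, 0, 0, 0, 12435, 11411, (-4861), 8548, (-3356), (-3780), (-5262), 207, 29, 360, 130, (-66), 266,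 (-364), 536, (-673), (-90), (-770), (-409), 299, 350, 532, 389, (-135), (-46), (-29), (-13), (-12), (-1), (-4), (-3), (-5), 4, 14, (-1), 3, 2, (-2), (-1), 4, 2, 0, (-3), 12, 1, (-1), 0, 0, (-2), (-2), 0, (-4), 2, 2, 2, 2, 0, 0, 1, (-2), 4]))) (.node (.leaf ([])) (.leaf ([178130, (-556526), (-947012), (-8436), (-179424), (-574621), 128458, 138175, (-48873), 0, 0, 0, 0, 0, 0, 0, 95741, 75560, (-32714), 58744, (-23113), (-29404), (-31394), 1600, (-70), 1582, 1216, (-1177), 2083, (-1725), 3693, (-3899), (-1153), (-4113), (-2277), 1815, 2562, 2705, 2763, 485, 48, (-207), (-123), 16, 8, (-39), (-6), (-17), 11, 62, (-4), 15, 19, (-15), 3, (-2), 12, 1, (-21), 67, (-1), 2, 2, 2, (-13), (-8), (-15), (-20), 4, 11, 17, 12, 7, 1, (-4), (-11), 30, 5, 2, 6, (-13)]))))) (.node (.node (.node (.leaf ([])) (.leaf ([0, 0, 0, 0, 0, 0, 0, 0, 0, 0, 0, 0, 0, 0, 0, 0, 0, 0, 0, 0, 0, 0, 0, 0, 0, 0, 0, 0, 0, 0, 0, 0, 0, 0, 0, 0, 0, 0, 0, 0, 0, 0, 1, 0, 0, 0, 0, 0, 0, 0, 0, 0, 0, 0, (-1)])))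 (.node (.leaf ([0, 0, 0, 0, 0, 0, 0, 0, 0, 0, 0, 0, 0, 0, 0, 0, 0, 0, 0, 0, 0, 0, 0, 0, 0, 0, 0, 0, 0, 0, 0, 0, 0, 0, 0, 0, 0, 0, 0, 0, 0, 0, 0, 0, 0, 0, 0, 0, 0, 0, 0, 0, 0, 0, 0, 0, 0, 0, 0, 0, 0, 0, 0, 1])) (.leaf ([])))) (.node (.node (.leaf ([])) (.leaf ([0, 0, 0, 0, 0, 0, 0, 0, 0, 0, 0, 0, 0, 0, 0, 0, 0, 0, 0, 0, 0, 0, 0, 0, 0, 0, 0, 0, 0, 0, 0, 0, 0, 0, 0, 0, 0, 0, 0, 0, 0, 0, 0, 0, 0, 0, 0, 0, 0, 0, 0, 0, 0, 0, 0, 0, 0, 0, 0, 0, 0, 0, 0, 0, 0, 0, 0, 0, 0, 0, 0, 0, 0, 0, 0, 0, 0, 0, 0, 1]))) (.node (.leaf ([0, 0, 0, 0, 0, 0, 0, 0, 0, 0, 0, 0, 0, 0, 0, 0, 0, 0, 0, 0, 0, 0, 0, 0, 0, 0, 0, 0, 0, 0, 0, 0, 0, 0, 0, 0, 0, 0, 0, 0, 0, 0, 1])) (.leaf ([107451, (-400726), (-677706), 97581, (-216045), (-315184), 375107, (-389826), 183226, 0, 0, 0, 0, 0, 0, 0, 509214, 121800, (-57453), 132311, (-140503), (-169849), 47259, 16938, 271, 11698, 11049, (-14073), 14519, (-11566), 26074, (-22008), (-14724), (-30199), (-12445), 13537, 17519, 17055, 20322, 1815, 1866, 31,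 (-69), (-326), 114, 184, (-7), (-39), (-28), 57, (-36), 16, 5, 15, 15, 54, (-11), 7, 37, (-53), 1, 9, 10, (-53), 66, 34, (-3), (-118), (-34), (-65), 73, (-25), (-9), (-41), 18, 21, (-63), 98, 28, 27, (-54)])))))

/-- data -/
def val0_011010 : Trie (Vec) := .node (.node (.node (.node (.leaf ([])) (.leaf ([7105, (-27175), (-44156), (-6061), (-7400), (-28718), 2718, 15323, (-5898), 0, 0, 0, 0, 0, 0, 0, (-85), 3591, (-2078), 2729, 83, 449, (-3136), (-158), (-14), (-52), (-80), 92, (-70), 60, (-113), 65, 96, 139, 65, (-78), (-82), (-66), (-89), (-17), (-24), (-5), (-8), (-3), (-1), (-3), 0, 0, 0, 1, 0, 0, 0, 0, 0, 0, 0, 0, (-1), 0, 0, 0, 0, (-1), 0, 0, 0, 1, 1, 0, 0, 0, 0, 0, 0, 0, 0, 1]))) (.node (.leaf ([])) (.leaf ([])))) (.node (.node (.leaf ([0, 0, 0, 0, 0, 0, 0, 0, 0, 0, 0, 0, 0, 0, 0, 0, 0, 0, 0, 0, 0, 0, 0, 0, 0, 0, 0, 0, 0, 0, 0, 0, 0, 0, 0, 0, 0, 0, 0, 0, 0, 0, 1])) (.leaf ([0, 0, 0, 0, 0, 0, 0, 0, 0, 0, 0, 0, 0, 0, 0, 0, 0, 0, 0, 0, 0, 0, 0, 0, 0, 0, 0,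 0, 0, 0, 0, 0, 0, 0, 0, 0, 0, 0, 0, 0, 0, 0, 1]))) (.node (.leaf ([])) (.leaf ([(-5667), 24017, 43652, 4636, 11303, 27199, (-5991), (-4703), 1909, 0, 0, 0, 0, 0, 0, 0, (-1962), (-1264), 110, (-436), 589, 774, 202, (-52), (-18), (-122), (-18), 49, (-64), 126, (-138), 215, 45, 260, 129, (-100), (-127), (-171), (-105), 40, 15, 1, 3, 1, (-1), 0, 0, 1, 0, 0, 0, 0, (-1), 0, 0, 0, (-1), (-1), 0, (-1), 0, 0, 0, 0, 0, 0, 0, 2]))))) (.node (.node (.node (.leaf ([])) (.leaf ([]))) (.node (.leaf ([])) (.leaf ([])))) (.node (.node (.leaf ([])) (.leaf ([0, 0, 0, 0, 0, 0, 0, 0, 0, 0, 0, 0, 0, 0, 0, 0, 0, 0, 0, 0, 0, 0, 0, 0, 0, 0, 0, 0, 0, 0, 0, 0, 0, 0, 0, 0, 0, 0, 0, 0, 0, 0, 1]))) (.node (.leaf ([])) (.leaf ([(-340262), 2024143, 2873688, 538242, 490200, 1784838, (-634943), (-755685), 188047, 0, 0, 0, 0, 0, 0, 0, (-923054), (-587072), 391798, (-596578), 253782, 241791, 280315, (-6730), 1738, (-8537), (-10102), 17771, (-16130), 6975, (-33761), 22282, 19449, 23834, 3466, (-9021),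 (-15930), (-12286), (-23546), (-7985), (-4109), 694, (-771), 773, (-121), (-695), 29, (-14), 82, (-215), 24, (-51), 251, (-44), (-36), (-39), 100, (-13), (-164), 555, 47, (-73), 56, 189, (-175), 14, (-59), 157, (-30), 231, (-159), 67, 69, 94, 8, (-19), 232, (-202), (-84), (-64), 153])))))

/-- data -/
def val0_011011 : Trie (Vec) := .node (.node (.node (.node (.leaf ([])) (.leaf ([(-183136), 702281, 1198105, 112761, 243574, 768171, (-103909), (-277932), 109234, 0, 0, 0, 0, 0, 0, 0, (-20971), (-69857), 31825, (-46589), 4825, 2703, 49370, 1556, (-30), (-60), 382, (-959), 192, 188, 413, 920, (-1055), 510, 557, 247, (-130), (-352), 161, 323, 448, 157, 210, (-53), 42, 92, 6, 17, (-15), (-57), (-2), (-13), (-15), 10, 3, (-4), (-15), 3, 27, (-87), (-8), 3, (-5), (-11), 24, 16, 13, 0, (-13), (-28), 6, (-18), (-12), (-10), (-6), 10, (-42), 14, 4, 2, (-4)]))) (.node (.leaf ([0, 0, 0, 0, 0, 0, 0, 0, 0, 0, 0, 0, 0, 0, 0, 0, 0, 0, 0, 0, 0, 0, 0, 0, 0, 0, 0, 0, 0, 0, 0, 0,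 0, 0, 0, 0, 0, 0, 0, 0, 0, 0, 1])) (.leaf ([1552940, (-5821877), (-10161422), (-557407), (-2259654), (-6367825), 1216094, 1524034, (-589556), 0, 0, 0, 0, 0, 0, 0, 566774, 553208, (-201057), 368678, (-146582), (-185106), (-244458), 10193, 2010, 14377, 9611, (-3763), 13666, (-16404), 23310, (-31865), (-4139), (-37707), (-22361), 13921, 19148, 22719, 18764, (-2275), (-2101), (-1886), (-2002), 80, (-306), (-754), (-116), (-292), 161, 715, (-52), 187, 234, (-158), (-24), 161, 209, (-19), (-315), 1164, 88, (-38), 55, 105, (-234), (-112), (-167), (-192), 113, 286, 49, 195, 74, 45, 51, (-137), 427, (-73), (-39), (-17), 13])))) (.node (.node (.leaf ([])) (.leaf ([]))) (.node (.leaf ([(-42534), 174357, 290624, 11072, 64139, 177331, (-51292), (-35982), 10137, 0, 0, 0, 0, 0, 0, 0, (-47162), (-28320), 14145, (-25522), 12628, 14581, 9623, (-1050), (-39), (-913), (-806), 586, (-1091), 932, (-2134), 1895, 755, 2136, 1052, (-915), (-1083), (-1362), (-1470), (-76), (-111), 123,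 38, 86, 9, (-2), 8, 16, (-7), (-48), 5, (-13), 3, 7, 0, (-9), (-8), (-2), 9, (-37), 2, 0, 0, 2, 5, 7, (-6), 18, (-10), (-5), (-10), (-8), 1, 2, 2, 7, (-12), (-6), 0, 0, 4])) (.leaf ([80531, (-327768), (-520810), (-75850), (-83720), (-340956), 31917, 192735, (-71969), 0, 0, 0, 0, 0, 0, 0, 8632, 49934, (-30266), 41146, (-1873), 3438, (-41905), (-2090), (-178), (-860), (-709), 920, (-750), 916, (-1030), 920, 935, 1921, 1094, (-1090), (-1066), (-1099), (-945), 254, (-102), (-126), (-62), 21, (-17), (-27), 0, 0, 5, 23, 4, 6, (-7), (-1), 3, (-9), 1, 1, 0, 2, (-3), 3, (-2), (-1), (-6), (-10), (-2), 3, 12, 6, (-2), 5, 4, 4, (-4), (-4), 11, 0, 1, 0, (-5)]))))) (.node (.node (.node (.leaf ([0, 0, 0, 0, 0, 0, 0, 0, 0, 0, 0, 0, 0, 0, 0, 0, 0, 0, 0, 0, 0, 0, 0, 0, 0, 0, 0, 0, 0, 0, 0, 0, 0, 0, 0, 0, 0, 0, 0, 0, 0, 0, 1])) (.leaf ([]))) (.node (.leaf ([])) (.leaf ([(-329556), 1568993, 2785137, 200437, 782857, 1675455, (-616555), 51208, (-38087), 0, 0, 0, 0, 0, 0, 0, (-510463),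 (-169378), 63958, (-135202), 145594, 175075, (-20527), (-16188), (-1266), (-15711), (-9928), 12851, (-14691), 15535, (-27172), 28390, 14121, 37633, 17309, (-15181), (-19911), (-22183), (-21389), 2302, (-351), (-97), 636, 265, 40, (-41), 26, 80, 20, (-139), 27, (-29), 8, (-37), (-5), (-128), 10, 30, (-5), (-44), (-59), 5, (-28), 68, (-51), (-11), 37, 108, 21, 17, (-28), 5, (-5), 34, (-72), (-34), 16, (-101), (-25), (-15), 48])))) (.node (.node (.leaf ([])) (.leaf ([0, 0, 0, 0, 0, 0, 0, 0, 0, 0, 0, 0, 0, 0, 0, 0, 0, 0, 0, 0, 0, 0, 0, 0, 0, 0, 0, 0, 0, 0, 0, 0, 0, 0, 0, 0, 0, 0, 0, 0, 0, 0, 0, 0, 0, 0, 0, 0, 0, 0, 0, 0, 0, 0, 0, 0, 0, 0, 0, 0, 0, 0, 0, 0, 0, 0, 0, 0, 0, 0, 0, 0, 0, 1]))) (.node (.leaf ([])) (.leaf ([(-81205), 177598, 265210, (-110878), 35543, 114677, (-129245), 83652, (-48966), 0, 0, 0, 0, 0, 0, 0, (-198647), (-74994), 38917, (-78346), 51325, 63710, 4974, (-5577), 161, (-3281), (-3864), 3871, (-5058), 3348, (-9435), 7140, 4426, 8294, 3972, (-3984),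 (-5057), (-5116), (-6585), (-1476), (-958), 336, 101, 143, (-24), (-44), 19, 31, (-11), (-121), 13, (-34), 18, 17, (-11), (-12), (-20), 0, 12, (-51), 11, (-9), 0, 14, 1, 14, 2, 60, (-7), (-1), (-45), (-17), 4, 13, 0, 16, (-26), (-40), (-8), (-9), 37])))))

/-- data -/
def val0_011100 : Trie (Vec) := .node (.node (.node (.node (.leaf ([])) (.leaf ([]))) (.node (.leaf ([3241, (-12839), 47322, 18590, 43033, 35255, 15749, 14526, 5162, 0, 0, 0, 0, 0, 0, 0, 82921, 46621, (-34312), 53757, (-22063), (-20532), (-21529), 717, (-338), (-217), 1504, (-1559), 1451, 256, 2643, (-685), (-1677), (-689), 386, 340, 910, (-68), 1894, 1546, 650, (-136), (-20), (-38), 0, 1, (-1), 1, 7, 31, (-4), 8, (-17), (-4), 5, (-12), 5, 2, (-3), 2, (-6), 3, 1, (-3), (-3), (-10), 4, (-7), 7, 1, 11, 7, 5, (-1), (-4), (-7), 8, 10, 1, 4, (-10)])) (.leaf ([(-84508), 522096, 964851, 111387, 290787, 620165, (-139152), (-62047), 29351, 0, 0, 0, 0, 0, 0, 0, (-43282), (-14636), (-4355), 1776, 14852, 19191,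 (-7258), (-2648), (-677), (-3008), (-1382), 1111, (-2065), 3222, (-3144), 5165, 1267, 7114, 3931, (-2639), (-3361), (-4096), (-2963), 1575, 501, 46, 121, 115, 20, 45, 11, 20, (-2), (-41), 11, (-3), (-33), 5, 9, (-30), (-11), 3, 24, (-67), (-21), 11, (-11), (-5), 3, (-6), (-11), 14, 9, (-6), (-8), (-7), 0, 3, (-15), 1, (-10), 6, 11, 4, (-13)])))) (.node (.node (.leaf ([])) (.leaf ([0, 0, 0, 0, 0, 0, 0, 0, 0, 0, 0, 0, 0, 0, 0, 0, 0, 0, 0, 0, 0, 0, 0, 0, 0, 0, 0, 0, 0, 0, 0, 0, 0, 0, 0, 0, 0, 0, 0, 0, 0, 0, 0, 0, 0, 0, 0, 0, 0, 0, 0, 0, 1]))) (.node (.leaf ([])) (.leaf ([]))))) (.node (.node (.node (.leaf ([0, 0, 0, 0, 0, 0, 0, 0, 0, 0, 0, 0, 0, 0, 0, 0, 0, 0, 0, 0, 0, 0, 0, 0, 0, 0, 0, 0, 0, 0, 0, 0, 0, 0, 0, 0, 0, 0, 0, 0, 0, 0, 0, 0, 0, 0, 0, 0, 1])) (.leaf ([]))) (.node (.leaf ([])) (.leaf ([])))) (.node (.node (.leaf ([])) (.leaf ([(-46255), 154881, 261031, 3092, 51406, 158212, (-39399), (-35914), 11758, 0, 0, 0, 0, 0, 0, 0, (-33107), (-23018), 10624, (-19293),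 8408, 10149, 8786, (-639), 1, (-578), (-510), 386, (-741), 616, (-1396), 1316, 448, 1444, 763, (-625), (-806), (-935), (-985), (-112), (-51), 82, 40, 19, 1, 5, 4, 9, (-5), (-30), 2, (-8), (-2), 5, (-1), (-3), (-5), 0, 6, (-22), 1, (-1), 0, 1, 4, 5, 2, 10, (-4), (-4), (-7), (-5), 0, 0, 0, 5, (-10), (-4), (-1), (-1), 5]))) (.node (.leaf ([(-2932), 21597, 39459, (-1426), 14637, 21781, (-15540), 12908, (-5952), 0, 0, 0, 0, 0, 0, 0, (-16922), (-3260), 1096, (-3642), 4897, 5898, (-2528), (-685), (-41), (-494), (-430), 380, (-532), 509, (-983), 899, 454, 1178, 579, (-504), (-604), (-716), (-725), 71, (-48), 22, 19, 25, 0, (-2), 3, 5, (-2), (-14), 2, (-4), 0, 1, 0, (-4), (-2), 0, 2, (-7), 0, 0, (-1), 1, 0, 2, (-2), 6, (-1), (-1), (-4), (-2), 1, 1, (-2), 1, (-3), (-3), 0, 0, 2])) (.leaf ([])))))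

/-- data -/
def val0_0111010 : Trie (Vec) := .node (.node (.node (.leaf ([])) (.leaf ([0, 0, 0, 0, 0, 0, 0, 0, 0, 0, 0, 0, 0, 0, 0, 0, 0, 0, 0, 0, 0, 0, 0, 0, 0, 0, 0, 0, 0, 0, 0, 0, 0, 0, 0, 0, 0, 0, 0, 0, 0, 0, 1, 0, 0, 0, 0, 0, 0, 0, 0, 0, 0, 0, 0, 0, 0, 0, 0, 0, 0, 0, 0, (-1)]))) (.node (.leaf ([0, 0, 0, 0, 0, 0, 0, 0, 0, 0, 0, 0, 0, 0, 0, 0, 0, 0, 0, 0, 0, 0, 0, 0, 0, 0, 0, 0, 0, 0, 0, 0, 0, 0, 0, 0, 0, 0, 0, 0, 0, 0, 1])) (.leaf ([94597, (-356093), (-597419), (-34115), (-122675), (-371894), 81303, 94741, (-33225), 0, 0, 0, 0, 0, 0, 0, 64452, 49055, (-24296), 40387, (-16974), (-18804), (-21582), 954, (-8), 1017, 996, (-842), 1412, (-1077), 2407, (-2470), (-904), (-2936), (-1402), 1132, 1666, 1680, 1910, 171, 14, (-115), (-72), (-50), (-11), (-14), (-7), (-14), 6, 47, (-5), 11, 3, (-6), 0, 7, 9, 1, (-12), 39, 0, 0, 2, 0, (-6), (-8), 0, (-15), 7, 7, 10, 8, 1, (-1), 3, (-6), 14, 3, 0, 0, (-4)])))) (.node (.node (.leaf ([(-15151), 4084, 18704, (-45274), 3993,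 (-1464), (-16788), 29824, (-13383), 0, 0, 0, 0, 0, 0, 0, (-17640), (-2735), (-2396), (-2685), 3526, 8072, (-5400), (-1077), (-80), (-559), (-500), 78, (-605), 669, (-1343), 1052, 233, 900, 791, (-601), (-405), (-821), (-696), (-122), (-168), 144, 26, 59, 11, 12, 11, 21, (-13), (-53), 4, (-18), (-5), 15, 2, (-7), (-14), (-3), 17, (-70), 2, 0, 1, (-6), 15, 9, (-3), 17, (-14), (-14), (-9), (-12), 0, (-2), 5, 13, (-25), 5, 1, 0, 1])) (.leaf ([(-272028), 943936, 1649237, (-4606), 374121, 994319, (-276240), (-116193), 36743, 0, 0, 0, 0, 0, 0, 0, (-210739), (-113444), 41904, (-88015), 54792, 71672, 22729, (-6155), (-391), (-5194), (-4089), 3196, (-5743), 5575, (-10328), 10652, 3774, 12635, 7099, (-5375), (-6846), (-7903), (-7626), 53, (-190), 472, 326, 127, 21, 59, 31, 67, (-29), (-196), 18, (-48), (-22), 34, (-1), (-39), (-37), 8, 59, (-201), (-9), 0, (-8), (-1), 32, 26, 21, 70, (-13), (-38), (-41), (-35), (-3), 2, (-13), 31, (-75), (-21), (-1), (-4), 25]))) (.node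 (.leaf ([0, 0, 0, 0, 0, 0, 0, 0, 0, 0, 0, 0, 0, 0, 0, 0, 0, 0, 0, 0, 0, 0, 0, 0, 0, 0, 0, 0, 0, 0, 0, 0, 0, 0, 0, 0, 0, 0, 0, 0, 0, 0, 1])) (.leaf ([(-124586), 467074, 781480, 45956, 156758, 487454, (-100299), (-145515), 51723, 0, 0, 0, 0, 0, 0, 0, (-72286), (-64658), 31877, (-52904), 18697, 20439, 31946, (-756), 10, (-1047), (-910), 556, (-1386), 1124, (-2607), 2640, 685, 2780, 1437, (-1052), (-1514), (-1744), (-1865), (-184), (-14), 199, 109, 51, 13, 25, 10, 21, (-11), (-71), 5, (-18), (-5), 11, (-1), (-8), (-12), (-1), 16, (-59), 1, (-1), (-1), 1, 10, 12, 3, 21, (-12), (-11), (-13), (-13), (-1), 0, (-1), 11, (-24), (-5), (-1), (-1), 8]))))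

/-- data -/
def val0_0111011 : Trie (Vec) := .node (.node (.node (.leaf ([(-31075), 108230, 177686, 10505, 31487, 110504, (-20938), (-40130), 14263, 0, 0, 0, 0, 0, 0, 0, (-15848), (-16834), 8798, (-13837), 3898, 3986, 9534, 41, 29, (-110), (-116), 100, (-212), 112, (-439), 405, 106, 351, 153, (-123), (-235), (-222), (-301), (-142), (-8), 45, 24, (-5), 1, 7, 0, 1, (-2), (-9), (-1), (-2), 0, 2, (-1), 2, 0, 0, 0, (-3), 1, (-1), 1, 1, 2, 2, 1, 1, (-2), (-1), (-1), (-1), (-1), (-1), 1, 2, (-4), (-2), (-1), (-1), 3])) (.leaf ([]))) (.node (.leaf ([])) (.leaf ([3944, (-14361), (-25540), (-531), (-5765), (-16051), 2691, 4003, (-1562), 0, 0, 0, 0, 0, 0, 0, 652, 1134, (-282), 622, (-114), (-302), (-562), 7, 8, 25, 11, 20, 17, (-35), 43, (-72), 15, (-55), (-49), 16, 17, 41, 19, 1, (-2), (-9), (-5), 2, (-2), (-1), (-1), (-2), 1, 4, 0, 2, 0, (-1), 0, 1, 1, 0, (-1), 4, 0, 0, 0, 0, (-1), (-1), (-1), (-2), 1, 1, 0, 1, 0, 0, 0, (-1), 2])))) (.node (.node (.leaf ([])) (.leaf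 ([276194, (-989679), (-1667720), (-102759), (-329268), (-1037865), 203283, 319528, (-116800), 0, 0, 0, 0, 0, 0, 0, 129763, 127973, (-61254), 101153, (-33260), (-35635), (-65982), 1060, (-56), 2275, 1198, (-553), 2386, (-2323), 4500, (-5314), (-741), (-5463), (-3008), 2069, 2820, 3812, 3238, (-180), (-258), (-350), (-173), (-135), (-8), (-34), (-12), (-29), 17, 119, (-7), 26, 5, (-15), 7, 6, 15, 3, (-16), 64, (-10), 4, (-3), (-7), (-11), (-21), 9, (-39), 18, 10, 25, 15, (-4), (-1), (-4), (-15), 30, 18, 4, (-1), (-21)]))) (.node (.leaf ([0, 0, 0, 0, 0, 0, 0, 0, 0, 0, 0, 0, 0, 0, 0, 0, 0, 0, 0, 0, 0, 0, 0, 0, 0, 0, 0, 0, 0, 0, 0, 0, 0, 0, 0, 0, 0, 0, 0, 0, 0, 0, 0, 0, 0, 0, 0, 0, 0, 0, 0, 0, 0, 0, 0, 0, 0, 0, 0, 0, 0, 1])) (.leaf ([2364552, (-15076660), (-24936760), (-5024580), (-6003658), (-16364272), 3091404, 5433592, (-1996945), 0, 0, 0, 0, 0, 0, 0, 1974359, 1788675, (-1072322), 1519212, (-634832), (-462070), (-1026764), 115, 2079, 39140, 20080, (-30691), 35081,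 (-34786), 62384, (-76506), (-31537), (-110482), (-32328), 29417, 54095, 54943, 58555, (-17790), (-7729), 1328, (-448), (-2905), (-481), 862, (-182), (-25), (-302), 177, (-176), (-56), (-285), 403, (-116), 483, (-222), 137, 269, (-1308), 30, (-64), 78, (-391), 607, 161, 387, (-168), (-14), (-529), 251, (-134), (-245), (-268), 328, 269, (-736), 269, (-1), (-3), 40]))))

/-- data -/
def val0_011110 : Trie (Vec) := .node (.node (.node (.node (.leaf ([])) (.leaf ([]))) (.node (.leaf ([0, 0, 0, 0, 0, 0, 0, 0, 0, 0, 0, 0, 0, 0, 0, 0, 0, 0, 0, 0, 0, 0, 0, 0, 0, 0, 0, 0, 0, 0, 0, 0, 0, 0, 0, 0, 0, 0, 0, 0, 0, 0, 1])) (.leaf ([])))) (.node (.node (.leaf ([0, 0, 0, 0, 0, 0, 0, 0, 0, 0, 0, 0, 0, 0, 0, 0, 0, 0, 0, 0, 0, 0, 0, 0, 0, 0, 0, 0, 0, 0, 0, 0, 0, 0, 0, 0, 0, 0, 0, 0, 0, 0, 1])) (.leaf ([]))) (.node (.leaf ([(-223), 129, 560, (-363), 164, 245, (-62), 94, 4, 0, 0, 0, 0, 0, 0, 0, 243, 131, (-137), 187, (-81), (-49), (-86), 3, (-1), (-5), 8, (-10), 5, 5, 4, 3, (-9),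 0, 7, 0, 3, (-7), 7, 7, 3, 0, 1, 0, (-1), 0, 0, 0, 0, 0, 0, 0, (-1)])) (.leaf ([(-1983525), 7515775, 12647119, 903066, 2557178, 7938952, (-1497883), (-2512619), 917699, 0, 0, 0, 0, 0, 0, 0, (-924521), (-963236), 466654, (-760633), 239550, 251949, 516298, (-4751), (-169), (-13486), (-9698), 4137, (-15795), 14399, (-30783), 34669, 5495, 35050, 18372, (-12158), (-18109), (-22409), (-21981), (-1364), 910, 2924, 1953, 308, 313, 582, 132, 284, (-176), (-968), 47, (-245), (-79), 158, (-17), (-115), (-174), 9, 241, (-952), (-17), (-8), (-8), (-10), 191, 184, 115, 267, (-190), (-215), (-117), (-185), (-40), (-25), (-1), 150, (-397), (-34), (-5), (-2), 98]))))) (.node (.node (.node (.leaf ([])) (.leaf ([0, 0, 0, 0, 0, 0, 0, 0, 0, 0, 0, 0, 0, 0, 0, 0, 0, 0, 0, 0, 0, 0, 0, 0, 0, 0, 0, 0, 0, 0, 0, 0, 0, 0, 0, 0, 0, 0, 0, 0, 0, 0, 1]))) (.node (.leaf ([])) (.leaf ([61183, (-209643), (-357754), (-22878), (-68466), (-225618), 33083, 78541, (-30770), 0, 0, 0, 0, 0, 0, 0, 9969,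 22508, (-9625), 14676, (-1873), (-2237), (-14663), (-415), (-21), (-10), (-119), 89, 16, (-53), 13, (-340), 177, (-166), (-178), (-16), 212, 110, 40, 123, (-92), (-40), (-46), 66, 0, (-25), 1, (-1), 2, 3, 2, 1, 8, (-3), 1, (-4), 2, (-1), (-5), 18, 1, 1, 1, 2, (-5), (-1), (-12), 2, (-1), 6, (-2), 3, 5, 2, 0, (-2), 10, (-4), 1, 2, (-2)])))) (.node (.node (.leaf ([])) (.leaf ([(-2969), 12546, 22605, 374, 5687, 14268, (-2695), (-3102), 1193, 0, 0, 0, 0, 0, 0, 0, (-609), (-895), 145, (-441), 120, 329, 366, (-15), (-13), (-32), (-15), (-18), (-20), 42, (-55), 78, (-7), 59, 54, (-19), (-16), (-44), (-22), (-1), (-1), 12, 6, (-2), 2, 1, 1, 2, (-1), (-4), 0, (-2), 0, 1, 0, (-1), (-1), 0, 1, (-4), 0, 0, 0, 0, 1, 1, 1, 2, (-1), (-1), 0, (-1), 0, 0, 0, 1, (-2)]))) (.node (.leaf ([])) (.leaf ([125114, (-476813), (-797688), (-50480), (-161810), (-497572), 104295, 146890, (-51894), 0, 0, 0, 0, 0, 0, 0, 76209, 66105, (-32721), 54349, (-19891), (-21613), (-32141), 825, (-7),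 1142, 955, (-670), 1471, (-1217), 2809, (-2816), (-800), (-2986), (-1497), 1129, 1638, 1873, 2006, 188, 32, (-195), (-108), (-51), (-13), (-25), (-10), (-21), 11, 71, (-5), 18, 5, (-11), 1, 8, 12, 1, (-16), 59, (-1), 1, 1, (-1), (-10), (-12), (-3), (-21), 12, 11, 13, 13, 1, 0, 1, (-11), 24, 5, 1, 1, (-8)])))))

/-- data -/
def val0_011111 : Trie (Vec) := .node (.node (.node (.node (.leaf ([0, 0, 0, 0, 0, 0, 0, 0, 0, 0, 0, 0, 0, 0, 0, 0, 0, 0, 0, 0, 0, 0, 0, 0, 0, 0, 0, 0, 0, 0, 0, 0, 0, 0, 0, 0, 0, 0, 0, 0, 0, 0, 1])) (.leaf ([8646, (-11779), (-35279), 26641, (-19659), (-7134), 34342, (-56153), 23673, 0, 0, 0, 0, 0, 0, 0, 37985, 1759, 2428, 2606, (-10307), (-14572), 11565, 1869, 80, 1367, 885, (-939), 1301, (-1383), 2477, (-2371), (-1082), (-2911), (-1553), 1370, 1528, 1980, 1755, (-174), 124, (-34), (-20), (-64), 8, 10, (-7), (-11), 2, 29, (-6), 9, 2, (-4), 0, 10, 4, 0, (-6), 14, (-1), 0, 1, (-2), 0, (-3), 3, (-15), 2, 2, 12, 4, (-4), (-5), 1, (-3), 3, 9, 0,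 0, (-5)]))) (.node (.leaf ([])) (.leaf ([])))) (.node (.node (.leaf ([])) (.leaf ([(-69237), 445831, 666874, 73530, 162940, 386640, (-230925), 33967, (-40256), 0, 0, 0, 0, 0, 0, 0, (-325898), (-130203), 81192, (-136424), 90315, 100129, 23615, (-7351), 150, (-5357), (-5618), 8424, (-7923), 5179, (-14687), 11574, 8908, 14625, 4967, (-6050), (-9107), (-7681), (-11146), (-1989), (-1459), (-1), (-35), 82, (-28), (-187), 29, 19, 26, (-84), 20, (-26), 42, (-8), (-3), (-57), 16, 9, (-15), 86, (-10), (-16), (-1), 50, (-50), (-2), 40, 66, 10, 50, (-56), 4, 17, 39, (-31), (-11), 47, (-67), (-19), (-25), 41]))) (.node (.leaf ([])) (.leaf ([0, 0, 0, 0, 0, 0, 0, 0, 0, 0, 0, 0, 0, 0, 0, 0, 0, 0, 0, 0, 0, 0, 0, 0, 0, 0, 0, 0, 0, 0, 0, 0, 0, 0, 0, 0, 0, 0, 0, 0, 0, 0, 1, 0, 0, 0, 0, 0, 0, 0, 0, 0, 0, 0, 0, 0, 0, 0, 0, 0, 0, 0, 0, 0, 0, 0, 0, 0, 0, 0, 0, 0, 0, 0, 0, 0, 0, 0, (-1)]))))) (.node (.node (.node (.leaf ([])) (.leaf ([0, 0, 0, 0, 0, 0, 0, 0, 0, 0, 0, 0, 0, 0, 0, 0,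 0, 0, 0, 0, 0, 0, 0, 0, 0, 0, 0, 0, 0, 0, 0, 0, 0, 0, 0, 0, 0, 0, 0, 0, 0, 0, 0, 0, 0, 0, 0, 0, 0, 0, 0, 0, 0, 0, 0, 1]))) (.node (.leaf ([])) (.leaf ([0, 0, 0, 0, 0, 0, 0, 0, 0, 0, 0, 0, 0, 0, 0, 0, 0, 0, 0, 0, 0, 0, 0, 0, 0, 0, 0, 0, 0, 0, 0, 0, 0, 0, 0, 0, 0, 0, 0, 0, 0, 0, 0, 0, 0, 0, 0, 0, 0, 0, 0, 0, 0, 0, 0, 0, 0, 0, 0, 0, 0, 0, 0, 0, 1])))) (.node (.node (.leaf ([])) (.leaf ([]))) (.node (.leaf ([(-10935), 46492, 78226, 5278, 16778, 49867, (-9059), (-15022), 5400, 0, 0, 0, 0, 0, 0, 0, (-5813), (-5907), 2895, (-4675), 1513, 1687, 3158, (-16), (-13), (-45), (-100), 52, (-109), 68, (-206), 200, 69, 191, 92, (-51), (-108), (-78), (-145), (-74), (-18), 26, 10, 0, 4, 4, 1, 3, (-2), (-8), 0, (-3), 0, 2, 0, (-1), (-2), 0, 2, (-9), 0, 0, 0, (-1), 3, 2, 1, 2, (-3), (-3), 0, (-2), (-1), (-1), 0, 2, (-4), 1])) (.leaf ([0, 0, 0, 0, 0, 0, 0, 0, 0, 0, 0, 0, 0, 0, 0, 0, 0, 0, 0, 0, 0, 0, 0, 0, 0, 0, 0, 0, 0, 0, 0, 0, 0, 0, 0, 0, 0, 0, 0, 0, 0, 0, 1])))))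

/-- data -/
def val0_100000 : Trie (Vec) := .node (.node (.node (.node (.leaf ([])) (.leaf ([]))) (.node (.leaf ([])) (.leaf ([])))) (.node (.node (.leaf ([])) (.leaf ([15174, (-72257), (-127702), (-14678), (-31766), (-82072), 13898, 23073, (-9151), 0, 0, 0, 0, 0, 0, 0, 2162, 4900, (-1544), 2661, (-739), (-819), (-2862), (-23), 56, 169, 8, 68, 46, (-188), 137, (-316), 45, (-330), (-207), 85, 101, 214, 89, (-119), (-45), (-24), (-10), (-7), (-4), (-6), (-2), (-4), 2, 10, 0, 3, 2, (-2), (-1), 3, 2, 0, (-3), 12, 1, (-1), 0, 1, (-3), (-2), 0, (-2), 3, 3, 1, 2, 0, 1, 0, (-2), 4, (-2), (-1), (-1), 1]))) (.node (.leaf ([(-11886), 48706, 81549, 8651, 17234, 51170, (-10774), (-15181), 5358, 0, 0, 0, 0, 0, 0, 0, (-7657), (-6390), 3249, (-5401), 2130, 2101, 3121, (-104), (-2), (-155), (-87), 96, (-155), 147, (-291), 310, 98, 360, 141, (-140), (-182), (-226), (-227), 23, 3, 10, 6, 11, (-2), 0, 1, 1, 0, (-4), 1, (-1), (-2), 0, 0, (-2), 0, 0, 0, (-1), (-1), 0, 0, 1, (-1),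 (-1), 0, 2, 0, 1, (-2), 0, 1, 1, 0, 0, 1, (-2), 0, 0, 1])) (.leaf ([30556, (-105491), (-173158), (-8847), (-30680), (-107326), 21137, 37544, (-13211), 0, 0, 0, 0, 0, 0, 0, 16851, 16719, (-8722), 13816, (-4150), (-4358), (-9136), (-1), (-28), 128, 146, (-133), 246, (-133), 494, (-447), (-142), (-405), (-182), 148, 274, 249, 345, 155, 16, (-45), (-22), 4, (-1), (-7), 0, (-1), 2, 9, 1, 2, 0, (-2), 1, (-2), 0, 0, 0, 4, (-1), 1, (-1), (-2), (-2), (-2), (-1), (-1), 2, 1, 1, 1, 1, 1, (-1), (-2), 4, 2, 1, 1, (-3)]))))) (.node (.node (.node (.leaf ([])) (.leaf ([(-4488), 18801, 33039, 3807, 7594, 21298, (-2998), (-6473), 2650, 0, 0, 0, 0, 0, 0, 0, (-58), (-1233), 394, (-543), 9, 38, 874, 34, (-9), (-15), 13, (-6), 0, 21, 8, 49, (-14), 52, 29, (-8), (-26), (-21), (-3), 4, 13, 2, 1, 2, 0, 0, 0, 0, 0, 0, 0, 0, 0, 0, 0, 0, (-1), 0, 0, (-2), 0, 0, 0, 0, 0, 0, 0, 2]))) (.node (.leaf ([(-70318), 268176, 485091, 46657, 112101, 312162, (-36121), (-96597), 42144, 0, 0, 0, 0, 0,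 0, 0, 19992, (-9286), (-1223), 2436, (-5507), (-5741), 9724, 813, (-145), (-119), 561, (-835), 528, 201, 1012, 130, (-935), 111, 439, 160, 136, (-188), 631, 606, 395, 9, 101, (-54), 21, 54, 0, 5, (-4), (-3), (-2), 1, (-16), 3, 3, (-3), (-7), 3, 13, (-44), (-8), 4, (-3), (-8), 12, 2, 10, (-6), 0, (-15), 9, (-6), (-6), (-6), (-3), 3, (-17), 11, 3, 2, (-7)])) (.leaf ([])))) (.node (.node (.leaf ([])) (.leaf ([(-3577), 38861, 67266, 15899, 17812, 48873, (-204), (-21221), 9439, 0, 0, 0, 0, 0, 0, 0, 8022, (-372), 348, 1121, (-1849), (-2730), 2670, 276, (-27), 203, 100, (-196), 181, (-176), 504, (-255), (-203), (-296), (-103), 227, 171, 298, 277, 56, 66, (-2), 18, 1, 7, 5, 0, 1, 0, (-2), 1, 1, 1, 0, 0, (-4), (-1), 2, 4, (-9), (-2), 2, (-1), 0, 1, 0, 2, 1, 1, (-2), 2, (-1), 1, 0, (-2), (-1), (-2), 0, 1, 2, (-1)]))) (.node (.leaf ([])) (.leaf ([636, (-3533), (-6042), (-795), (-1492), (-3962), 672, 1093, (-424), 0, 0, 0, 0, 0, 0, 0, 345, 326, (-178), 254, (-112), (-92),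 (-174), 6, 1, 8, 6, (-2), 9, (-10), 12, (-21), (-4), (-22), (-12), 6, 10, 13, 12, (-8), (-1), (-1), (-1), (-4), 0, 0, 0, 0, 0, 1, 0, 0, 0, 0, 0, 1, 0, 0, 0, 0, 0, 0, 0, 0, 0, 0, 1, 0, 0, 0, 0, 0, 0, 0, 1])))))

/-- data -/
def val0_100001 : Trie (Vec) := .node (.node (.node (.node (.leaf ([])) (.leaf ([]))) (.node (.leaf ([165351, (-736543), (-1254593), (-126577), (-284943), (-796977), 155040, 237641, (-87550), 0, 0, 0, 0, 0, 0, 0, 81933, 82315, (-39302), 63835, (-22957), (-23262), (-43033), 751, 243, 1942, 912, (-248), 1608, (-2001), 3243, (-4133), (-552), (-4343), (-2301), 1468, 1888, 2832, 2304, (-587), (-213), (-303), (-110), (-156), (-34), (-19), (-17), (-34), 17, 109, (-7), 27, (-3), (-15), 1, 19, 14, 2, (-18), 76, (-3), (-1), (-1), (-4), (-14), (-21), 13, (-34), 24, 12, 14, 16, (-3), (-1), 0, (-16), 27, 6, (-1), (-3), (-6)])) (.leaf ([0, 0, 0, 0, 0, 0, 0, 0, 0, 0, 0, 0, 0, 0, 0, 0, 0, 0, 0, 0, 0, 0, 0, 0, 0, 0, 0, 0, 0, 0, 0, 0, 0, 0, 0, 0, 0, 0, 0, 0,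 0, 0, 0, 1])))) (.node (.node (.leaf ([])) (.leaf ([]))) (.node (.leaf ([])) (.leaf ([(-59769), 206369, 345415, 14234, 66092, 213512, (-44447), (-61483), 21812, 0, 0, 0, 0, 0, 0, 0, (-33538), (-29284), 14152, (-23890), 8424, 9664, 14039, (-457), 27, (-475), (-436), 289, (-674), 512, (-1184), 1218, 311, 1310, 683, (-541), (-742), (-828), (-888), (-107), (-1), 82, 47, 13, 2, 10, 4, 9, (-4), (-30), 2, (-8), (-4), 4, (-1), (-3), (-5), (-1), 6, (-24), 1, (-1), (-1), 0, 3, 4, 3, 10, (-4), (-4), (-7), (-5), (-1), 1, 0, 4, (-10), (-2), (-1), (-1), 5]))))) (.node (.node (.node (.leaf ([])) (.leaf ([0, 0, 0, 0, 0, 0, 0, 0, 0, 0, 0, 0, 0, 0, 0, 0, 0, 0, 0, 0, 0, 0, 0, 0, 0, 0, 0, 0, 0, 0, 0, 0, 0, 0, 0, 0, 0, 0, 0, 0, 0, 0, 0, 1]))) (.node (.leaf ([0, 0, 0, 0, 0, 0, 0, 0, 0, 0, 0, 0, 0, 0, 0, 0, 0, 0, 0, 0, 0, 0, 0, 0, 0, 0, 0, 0, 0, 0, 0, 0, 0, 0, 0, 0, 0, 0, 0, 0, 0, 0, 0, 0, 0, 0, 0, 0, 0, 0, 0, 0, 0, 0, 0, 0, 0, 0, 0, 0, 0, 0, 0, 0, 0, 0, 0, 0, 0, 0, 0, 0, 0, 0, 0,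 0, 0, 0, 0, 0, 1])) (.leaf ([1765393, (-5762024), (-10151134), (-44263), (-2183842), (-6202262), 1359895, 1129702, (-428577), 0, 0, 0, 0, 0, 0, 0, 778257, 581129, (-182174), 391033, (-190435), (-270701), (-183775), 21635, 1830, 20079, 14807, (-7420), 20930, (-22724), 36024, (-43264), (-8306), (-50399), (-31335), 21331, 26726, 32382, 27392, (-1014), (-1212), (-2449), (-2350), (-14), (-210), (-809), (-138), (-367), 200, 939, (-67), 258, 291, (-214), (-2), 158, 258, (-18), (-368), 1383, 62, (-20), 55, 112, (-277), (-139), (-187), (-289), 124, 333, 122, 235, 79, 42, 36, (-181), 534, (-30), (-23), (-3), (-52)])))) (.node (.node (.leaf ([])) (.leaf ([(-30327), 77898, 138579, (-19784), 29543, 75971, (-32878), 8763, (-5148), 0, 0, 0, 0, 0, 0, 0, (-31967), (-12329), 3885, (-10286), 8005, 11229, (-573), (-1078), (-26), (-799), (-622), 554, (-899), 841, (-1694), 1597, 647, 1828, 1042, (-856), (-1020), (-1233), (-1177), (-75), (-86), 68, 35, 22, (-2), 5, 4, 9, (-4), (-27),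 2, (-8), (-2), 5, (-1), (-3), (-5), 0, 6, (-22), 1, (-1), 0, 1, 4, 4, 1, 10, (-3), (-5), (-7), (-5), 0, 1, 0, 5, (-10), (-4), (-1), (-1), 5]))) (.node (.leaf ([])) (.leaf ([(-6047), (-135138), (-297960), (-105281), (-116354), (-224294), (-17918), 76576, (-42653), 0, 0, 0, 0, 0, 0, 0, (-108600), (-43624), 30722, (-53958), 26239, 31910, 9428, (-2664), 489, (-892), (-1552), 1971, (-2351), 748, (-4438), 2386, 2205, 2271, 772, (-1534), (-1744), (-1715), (-2874), (-1273), (-689), 118, (-66), 98, (-47), (-101), 7, 2, 7, (-49), 5, (-18), 23, (-1), (-12), 0, 5, (-7), (-26), 69, 21, (-12), 4, 24, (-27), 0, (-7), 38, (-2), 30, (-35), 6, 12, 17, 4, (-3), 20, (-37), (-14), (-12), 35])))))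

/-- data -/
def val0_1000100 : Trie (Vec) := .node (.node (.node (.leaf ([])) (.leaf ([101919, (-371611), (-629097), (-26651), (-129570), (-388914), 85723, 100427, (-35248), 0, 0, 0, 0, 0, 0, 0, 62189, 49587, (-22968), 39781, (-16030), (-18670), (-21701), 904, 34, 1045, 894, (-654), 1311, (-1135), 2475, (-2522), (-772), (-2689), (-1436), 1054, 1506, 1673, 1779, 203, 56, (-171), (-88), (-13), (-11), (-27), (-8), (-18), 11, 58, (-3), 15, 4, (-12), 1, 6, 10, (-2), (-17), 58, 1, 1, 0, 1, (-13), (-11), (-8), (-17), 9, 13, 9, 11, 4, 1, 1, (-11), 24, 2, 1, 2, (-7)]))) (.node (.leaf ([125749, (-493394), (-862723), (-70484), (-193761), (-546904), 92180, 154448, (-61497), 0, 0, 0, 0, 0, 0, 0, 25286, 41174, (-14710), 24873, (-6696), (-7831), (-22835), 44, 177, 967, 149, 304, 499, (-1077), 890, (-2020), 271, (-2206), (-1473), 669, 948, 1479, 749, (-581), (-339), (-117), (-142), (-2), (-26), (-55), (-8), (-19), 10, 50, (-3), 10, 14, (-9), (-3), 12, 11, (-3), (-22), 74,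 8, (-3), 3, 5, (-16), (-9), (-10), (-9), 7, 19, 1, 12, 4, 4, 5, (-9), 27, (-4), (-3), (-2), 2])) (.leaf ([])))) (.node (.node (.leaf ([])) (.leaf ([(-143703), 560671, 979450, 84898, 218360, 621124, (-102890), (-180674), 72137, 0, 0, 0, 0, 0, 0, 0, (-25599), (-46472), 16751, (-27853), 6768, 7675, 26691, 57, (-176), (-1072), (-32), (-439), (-458), 1175, (-821), 2162, (-433), 2383, 1595, (-712), (-990), (-1658), (-722), 763, 436, 106, 144, 3, 25, 55, 9, 20, (-12), (-51), 3, (-10), (-16), 8, 4, (-13), (-11), 2, 24, (-75), (-8), 4, (-4), (-5), 15, 9, 10, 9, (-7), (-19), (-1), (-12), (-4), (-4), (-6), 8, (-27), 5, 3, 2, (-3)]))) (.node (.leaf ([0, 0, 0, 0, 0, 0, 0, 0, 0, 0, 0, 0, 0, 0, 0, 0, 0, 0, 0, 0, 0, 0, 0, 0, 0, 0, 0, 0, 0, 0, 0, 0, 0, 0, 0, 0, 0, 0, 0, 0, 0, 0, 0, 1])) (.leaf ([255788, (-1134905), (-2170993), (-335179), (-568189), (-1452909), 58621, 503267, (-242529), 0, 0, 0, 0, 0, 0, 0, (-329104), (-66501), 70310, (-128793), 85203, 96866, (-15792), (-8368),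 1185, (-1124), (-6752), 9297, (-7513), 785, (-14286), 4165, 9649, 5564, (-454), (-4144), (-5589), (-2025), (-9647), (-6821), (-3340), 273, (-614), 121, (-212), (-299), 3, (-35), 37, (-1), 13, (-27), 39, 1, (-18), 34, 24, (-31), (-78), 226, 50, (-35), 20, 38, (-71), (-39), (-11), 54, 12, 94, (-108), 34, 15, 45, 39, 0, 100, (-54), (-29), (-41), 63]))))

/-- data -/
def val0_1000101 : Trie (Vec) := .node (.node (.node (.leaf ([])) (.leaf ([4208, (-19948), (-32634), (-4022), (-7583), (-19693), 6954, 3376, (-734), 0, 0, 0, 0, 0, 0, 0, 7284, 3485, (-1963), 3508, (-2110), (-2094), (-918), 178, (-4), 176, 112, (-111), 172, (-162), 329, (-307), (-127), (-382), (-163), 161, 189, 261, 247, (-55), 4, (-4), (-1), (-15), 2, 2, (-1), 0, 0, 4, (-1), 1, 0, 0, 0, 1, 0, 0, 0, (-2), 0, 0, 0, (-1), 1, 0, 2, 0, 0, (-1), 2, 0, (-1), (-1), 0, 0, (-1), 2, 0, 0, (-1)]))) (.node (.leaf ([])) (.leaf ([(-15218), 72353, 127855, 14660, 31780, 82156, (-13923), (-23105), 9161, 0, 0, 0, 0, 0,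 0, 0, (-2178), (-4924), 1552, (-2679), 742, 825, 2873, 21, (-56), (-169), (-8), (-68), (-46), 188, (-137), 316, (-45), 330, 207, (-85), (-101), (-214), (-89), 119, 45, 24, 10, 8, 4, 6, 2, 4, (-2), (-10), 0, (-3), (-2), 2, 1, (-3), (-2), 0, 3, (-12), (-1), 1, 0, (-1), 3, 2, 0, 2, (-3), (-3), (-1), (-2), 0, (-1), 0, 2, (-4), 2, 1, 1, (-1)])))) (.node (.node (.leaf ([(-12274), 48056, 82073, 10530, 16635, 53261, (-5919), (-21286), 8656, 0, 0, 0, 0, 0, 0, 0, 1069, (-4116), 1858, (-2317), (-366), (-609), 3550, 166, 4, 28, 110, (-93), 73, (-24), 161, (-11), (-123), (-48), (-8), 52, 28, 22, 94, 50, 55, (-4), 10, (-5), 0, 2, 0, 0, 1, 1, 0, 0, (-2), (-1), 0, 0, 0, (-1), 0, 1, 0, 0, (-1), 0, (-1), (-1), 1, 0, 0, 0, 0, 0, 0, 0, 0, (-1)])) (.leaf ([0, 0, 0, 0, 0, 0, 0, 0, 0, 0, 0, 0, 0, 0, 0, 0, 0, 0, 0, 0, 0, 0, 0, 0, 0, 0, 0, 0, 0, 0, 0, 0, 0, 0, 0, 0, 0, 0, 0, 0, 0, 0, 0, 1]))) (.node (.leaf ([])) (.leaf ([(-246971), 1003574, 1704176, 96086, 376710, 1067125, (-235514),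 (-254437), 90028, 0, 0, 0, 0, 0, 0, 0, (-167868), (-126853), 59527, (-100949), 44371, 51633, 53419, (-2895), (-236), (-2910), (-2789), 2167, (-3889), 3245, (-6786), 7222, 2523, 8023, 4183, (-3046), (-4471), (-4547), (-5180), (-552), (-152), 453, 263, 161, 41, 61, 22, 53, (-26), (-165), 18, (-40), (-16), 28, (-1), (-28), (-32), (-2), 49, (-162), (-2), 2, (-7), (-1), 25, 22, 5, 57, (-23), (-28), (-33), (-31), (-6), 2, (-5), 24, (-57), (-12), 1, (-3), 13]))))

/-- data -/
def val0_100011 : Trie (Vec) := .node (.node (.node (.node (.leaf ([])) (.leaf ([]))) (.node (.leaf ([(-346), 3755, 6552, 1434, 1788, 4624, (-225), (-2044), 868, 0, 0, 0, 0, 0, 0, 0, 628, (-90), 42, 41, (-139), (-226), 257, 29, (-4), 13, 11, (-21), 17, (-10), 34, (-17), (-20), (-24), (-7), 18, 17, 20, 24, 7, 6, 2, 0, 1, 0, 0, 0, 0, 0, (-1)])) (.leaf ([])))) (.node (.node (.leaf ([])) (.leaf ([592757, (-2801049), (-4569267), (-761587), (-909485), (-2998599), 392293, 1322559, (-498744), 0, 0, 0,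 0, 0, 0, 0, 172043, 360457, (-214146), 292236, (-51282), (-15746), (-268887), (-9163), (-583), (-904), (-1783), 1755, (-694), 1349, (-1142), (-1569), 2254, (-819), 1943, (-2238), 0, (-558), 137, (-724), (-1562), (-229), (-260), (-126), (-121), (-42), (-15), (-3), (-9), 91, (-2), 11, (-25), 20, (-6), 21, (-9), 15, 16, (-69), (-4), 1, (-3), (-32), 26, (-25), 17, (-12), 42, (-31), 6, 7, (-8), (-9), 21, 8, (-26), 0, 3, 0, 3]))) (.node (.leaf ([])) (.leaf ([]))))) (.node (.node (.node (.leaf ([])) (.leaf ([]))) (.node (.leaf ([])) (.leaf ([2377, (-8119), (-12959), 827, (-2155), (-7941), 1867, 2360, (-698), 0, 0, 0, 0, 0, 0, 0, 2188, 1685, (-884), 1521, (-523), (-625), (-770), 7, (-1), 1, 44, (-18), 39, (-10), 81, (-40), (-26), (-38), (-21), 13, 27, 14, 48, 40, 13, (-10), (-5), 1, (-1), (-1), 0, (-1), 1, 3, 0, 1, 0, (-1), 0, 0, 1, 0, (-1), 2, 0, 0, 0, 0, (-1), (-1), 0, 0, 1, 1, 0, 1, 0, 1, 0, (-1), 2])))) (.node (.node (.leaf ([28554, (-68087), (-122743), 22272, (-26123),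 (-65630), 30968, (-12377), 6407, 0, 0, 0, 0, 0, 0, 0, 30337, 10850, (-2997), 9030, (-7547), (-10817), 1432, 1093, 28, 797, 603, (-512), 874, (-836), 1648, (-1559), (-609), (-1788), (-1044), 851, 984, 1228, 1138, 45, 78, (-67), (-35), (-21), 2, (-5), (-4), (-9), 4, 27, (-2), 8, 2, (-5), 1, 3, 5, 0, (-6), 22, (-1), 1, 0, (-1), (-4), (-4), (-1), (-10), 3, 5, 7, 5, 0, (-1), 0, (-5), 10, 4, 1, 1, (-5)])) (.leaf ([144937, (-635130), (-1109326), (-238704), (-228167), (-759915), (-6163), 411521, (-178450), 0, 0, 0, 0, 0, 0, 0, (-167756), 12939, (-3176), (-19687), 45096, 59186, (-56802), (-7525), 47, (-3115), (-4807), 4599, (-5241), 3158, (-9958), 5840, 5368, 7445, 3257, (-4140), (-4478), (-4480), (-6738), (-1795), (-1622), 294, (-87), 328, (-30), (-73), 24, 32, (-16), (-111), 22, (-36), 21, 24, (-4), (-11), (-24), (-9), 17, (-66), 16, (-5), 2, 1, 9, 12, (-36), 53, (-16), (-6), (-50), (-18), 9, 15, 14, 23, (-18), (-30), 3, (-3), 19]))) (.node (.leaf ([])) (.leaf ([4003,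 (-10126), (-15016), 11830, (-4259), (-4160), 14151, (-16278), 8212, 0, 0, 0, 0, 0, 0, 0, 22205, 6372, (-3305), 7279, (-5887), (-7397), 1124, 688, 13, 433, 500, (-457), 603, (-445), 1133, (-881), (-542), (-1072), (-495), 505, 591, 635, 806, 134, 116, (-42), 5, (-40), (-2), 7, (-3), (-6), 3, 17, (-2), 4, (-3), (-3), 0, 2, 3, 2, (-2), 10, (-2), 0, 0, (-1), (-2), (-3), 4, (-8), 4, 1, 4, 2, (-1), (-1), (-1), (-3), 3, 3, 0, 0, (-2)])))))

/-- data -/
def val0_100100 : Trie (Vec) := .node (.node (.node (.node (.leaf ([])) (.leaf ([]))) (.node (.leaf ([])) (.leaf ([])))) (.node (.node (.leaf ([])) (.leaf ([]))) (.node (.leaf ([])) (.leaf ([(-1780443), 6818615, 11529300, 642160, 2465183, 7121915, (-1695797), (-1679122), 574684, 0, 0, 0, 0, 0, 0, 0, (-1297768), (-922635), 436362, (-755076), 343957, 393945, 369133, (-22119), (-961), (-24602), (-19362), 17843, (-28759), 25624, (-54093), 53990, 20122, 62525, 30492, (-24775), (-34349), (-37763), (-39886), (-2279), (-1019),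 2548, 1546, 590, 148, 272, 145, 305, (-118), (-963), 69, (-247), (-75), 139, (-8), (-186), (-140), 12, 201, (-801), (-35), (-19), (-12), 34, 118, 128, 100, 340, (-124), (-129), (-200), (-142), (-29), 19, (-48), 131, (-286), (-86), (-34), (-37), 131]))))) (.node (.node (.node (.leaf ([])) (.leaf ([(-37206), 114485, 194607, (-6279), 37571, 116019, (-30853), (-21312), 6455, 0, 0, 0, 0, 0, 0, 0, (-26820), (-17345), 7429, (-14513), 6607, 8677, 5711, (-634), (-10), (-478), (-479), 319, (-650), 525, (-1208), 1120, 382, 1198, 662, (-550), (-659), (-772), (-837), (-154), (-70), 85, 26, 26, (-1), (-1), 4, 10, (-5), (-28), 3, (-8), (-1), 5, (-1), (-3), (-6), (-1), 5, (-22), 2, (-1), 0, 0, 4, 4, 1, 12, (-4), (-4), (-7), (-5), 0, 0, 1, 6, (-10), (-5), (-1), (-1), 5]))) (.node (.leaf ([])) (.leaf ([0, 0, 0, 0, 0, 0, 0, 0, 0, 0, 0, 0, 0, 0, 0, 0, 0, 0, 0, 0, 0, 0, 0, 0, 0, 0, 0, 0, 0, 0, 0, 0, 0, 0, 0, 0, 0, 0, 0, 0, 0, 0, 0, 1])))) (.node (.node (.leaf ([])) (.leaf ([])))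 (.node (.leaf ([])) (.leaf ([349326, (-1171833), (-1980752), (-5402), (-396627), (-1196506), 309817, 250636, (-80522), 0, 0, 0, 0, 0, 0, 0, 262011, 174461, (-79296), 145554, (-66824), (-81471), (-62419), 5303, 47, 4686, 4236, (-3088), 5968, (-4999), 11288, (-10641), (-3755), (-11600), (-6342), 4967, 6457, 7490, 7902, 916, 469, (-693), (-374), (-132), (-32), (-79), (-34), (-74), 42, 243, (-15), 63, 7, (-40), 9, 23, 42, (-3), (-57), 212, (-2), 7, 3, 0, (-43), (-42), (-19), (-79), 33, 47, 44, 43, 9, 1, 2, (-41), 95, 27, 5, 6, (-39)])))))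

/-- data -/
def val0_100101 : Trie (Vec) := .node (.node (.node (.node (.leaf ([])) (.leaf ([235989, (-947919), (-1576903), (-147493), (-322019), (-994985), 195819, 310658, (-111881), 0, 0, 0, 0, 0, 0, 0, 141685, 128383, (-67368), 106799, (-38381), (-37474), (-66802), 1232, (-79), 2236, 1675, (-1229), 2694, (-2213), 4709, (-5152), (-1317), (-6184), (-2723), 2242, 3198, 3715, 3768, (-174), (-255), (-234), (-145), (-210), (-17), (-1), (-14), (-27), 8, 97, (-12), 23, 2, (-7), 2, 17, 13, 10, (-6), 34, (-11), 1, 0, (-12), 5, (-13), 22, (-40), 20, (-6), 28, 12, (-10), (-7), 2, (-7), 9, 18, 2, (-1), (-11)]))) (.node (.leaf ([0, 0, 0, 0, 0, 0, 0, 0, 0, 0, 0, 0, 0, 0, 0, 0, 0, 0, 0, 0, 0, 0, 0, 0, 0, 0, 0, 0, 0, 0, 0, 0, 0, 0, 0, 0, 0, 0, 0, 0, 0, 0, 0, 1])) (.leaf ([(-1403), 4732, 7128, 703, 650, 4808, 35, (-3716), 1449, 0, 0, 0, 0, 0, 0, 0, 336, (-857), 553, (-709), (-131), (-223), 857, 39, 6, 34, 22, (-39), 24, (-33), 51, (-46), (-39), (-76), (-28), 33, 40, 43, 41,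 (-1), 5, 3, 2, (-3), 1, 1, 0, 0, 0, (-1), 0, 0, 0, 0, 0, 1, 0, 0, 0, 0, 0, 0, 0, 0, 0, 0, 1])))) (.node (.node (.leaf ([0, 0, 0, 0, 0, 0, 0, 0, 0, 0, 0, 0, 0, 0, 0, 0, 0, 0, 0, 0, 0, 0, 0, 0, 0, 0, 0, 0, 0, 0, 0, 0, 0, 0, 0, 0, 0, 0, 0, 0, 0, 0, 0, 1])) (.leaf ([]))) (.node (.leaf ([])) (.leaf ([(-7243), 29403, 49847, 3401, 10558, 31878, (-5255), (-9667), 3612, 0, 0, 0, 0, 0, 0, 0, (-2843), (-3430), 1640, (-2557), 717, 821, 1958, (-3), (-7), (-19), (-47), 16, (-52), 33, (-83), 107, 19, 104, 56, (-25), (-57), (-38), (-67), (-35), (-1), 13, 7, (-2), 3, 3, 1, 2, (-1), (-5), 0, (-2), 0, 1, 0, (-1), (-1), 0, 1, (-5), 0, 0, 0, (-1), 1, 1, 1, 2, (-2), (-2), 0, (-1), (-1), 0, 0, 1, (-2), 1]))))) (.node (.node (.node (.leaf ([])) (.leaf ([]))) (.node (.leaf ([])) (.leaf ([(-268200), 1063275, 1842965, 191486, 400423, 1178775, (-172567), (-394317), 157272, 0, 0, 0, 0, 0, 0, 0, (-21296), (-90260), 36082, (-53319), 4904, 4182, 62361, 1787, (-271), (-1030), 930, (-1300),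 206, 1186, 233, 2450, (-1452), 2160, 1620, (-266), (-731), (-1630), 8, 1169, 868, 156, 197, (-62), 47, 82, 12, 27, (-12), (-69), (-2), (-15), (-28), 13, 7, (-21), (-8), 4, 27, (-93), (-14), 2, 0, (-5), 21, 14, 23, 9, (-14), (-22), 4, (-14), (-4), (-7), (-8), 11, (-34), 16, 1, 1, (-5)])))) (.node (.node (.leaf ([2263, (-7961), (-13518), (-1707), (-2412), (-8801), 564, 4415, (-1789), 0, 0, 0, 0, 0, 0, 0, (-755), 685, (-313), 369, 233, 305, (-755), (-54), (-2), (-16), (-36), 42, (-33), 18, (-59), 29, 46, 52, 19, (-27), (-34), (-22), (-43), (-15), (-12), 0, 1, (-1), 0, 0, 0, 0, 0, 0, 0, 0, 0, 0, 0, 0, 0, 0, (-1), 1])) (.leaf ([15490, (-88712), (-158333), (-13969), (-46526), (-98184), 31750, (-1224), 1201, 0, 0, 0, 0, 0, 0, 0, 25415, 7681, (-2671), 6434, (-7629), (-8819), 1691, 989, 87, 800, 647, (-597), 823, (-824), 1388, (-1506), (-675), (-2020), (-977), 797, 1038, 1146, 1140, (-177), 16, (-16), (-39), (-32), (-7), (-3), (-5), (-8), 2, 21, (-4), 4, 1, (-2), (-1),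 12, 3, (-3), (-7), 20, 4, (-2), 1, (-2), (-1), (-2), (-1), (-9), 0, 2, 4, 3, (-2), (-2), 5, (-1), 4, 3, 0, (-1), (-1)]))) (.node (.leaf ([])) (.leaf ([(-956459), 3468957, 5845112, 342698, 1163226, 3653813, (-702241), (-1105521), 408146, 0, 0, 0, 0, 0, 0, 0, (-442440), (-445418), 213213, (-346019), 110778, 125194, 231586, (-3390), (-13), (-6529), (-4466), 2869, (-8419), 7247, (-14549), 17466, 3248, 18041, 10165, (-6633), (-10419), (-11243), (-11053), (-840), 757, 1195, 303, 243, (-1), 55, 50, 91, (-45), (-401), 18, (-87), (-38), 67, (-4), (-12), (-30), (-7), 74, (-252), 26, (-25), 16, 17, 40, 60, 13, 117, (-39), (-25), (-103), (-30), 18, (-4), 0, 60, (-98), (-26), (-17), (-12), 74])))))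

/-- data -/
def val0_100110 : Trie (Vec) := .node (.node (.node (.node (.leaf ([])) (.leaf ([]))) (.node (.leaf ([])) (.leaf ([0, 0, 0, 0, 0, 0, 0, 0, 0, 0, 0, 0, 0, 0, 0, 0, 0, 0, 0, 0, 0, 0, 0, 0, 0, 0, 0, 0, 0, 0, 0, 0, 0, 0, 0, 0, 0, 0, 0, 0, 0, 0, 0, 0, 0, 0, 0, 0, 0, 0, 0, 0, 0, 0, 0, 0, 0, 1])))) (.node (.node (.leaf ([])) (.leaf ([(-1395), 7388, 12108, 838, 3493, 6377, (-4863), 1506, (-1088), 0, 0, 0, 0, 0, 0, 0, (-5770), (-1816), 975, (-2121), 1672, 1786, (-116), (-210), (-1), (-172), (-98), 87, (-155), 159, (-308), 280, 112, 329, 156, (-153), (-154), (-245), (-215), 57, (-11), 6, 1, 16, (-2), (-2), 1, 0, 0, (-4), 1, (-1), 0, 0, 0, (-1), 0, 0, 0, 2, 0, 0, 0, 1, (-1), 0, (-2), 0, 0, 1, (-2), 0, 1, 1, 0, 0, 1, (-2), 0, 0, 1]))) (.node (.leaf ([0, 0, 0, 0, 0, 0, 0, 0, 0, 0, 0, 0, 0, 0, 0, 0, 0, 0, 0, 0, 0, 0, 0, 0, 0, 0, 0, 0, 0, 0, 0, 0, 0, 0, 0, 0, 0, 0, 0, 0, 0, 0, 0, 1])) (.leaf ([88985, (-353495), (-628113), (-61645), (-143286), (-404140), 52195,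 125604, (-52685), 0, 0, 0, 0, 0, 0, 0, (-9865), 19738, (-4109), 5893, 2689, 3012, (-15565), (-815), 162, 197, (-400), 705, (-347), (-309), (-681), (-458), 797, (-468), (-566), (-69), 80, 322, (-374), (-492), (-372), (-43), (-107), 66, (-22), (-58), (-1), (-8), 6, 13, 2, 2, 16, (-5), (-3), 4, 8, (-3), (-15), 54, 8, (-4), 3, 9, (-15), (-4), (-14), 4, 3, 18, (-8), 8, 7, 7, 4, (-5), 21, (-12), (-3), (-2), 7]))))) (.node (.node (.node (.leaf ([])) (.leaf ([141380, (-587336), (-1093442), (-118918), (-281717), (-703718), 93429, 179476, (-82688), 0, 0, 0, 0, 0, 0, 0, (-55145), 2510, 15738, (-23996), 14202, 12330, (-7067), (-754), 552, 1278, (-1353), 1908, (-899), (-1445), (-1785), (-1622), 1994, (-1870), (-2053), 353, 199, 1684, (-1069), (-2278), (-1080), 17, (-150), 35, (-32), (-60), (-8), (-21), 2, 24, (-1), 2, 32, (-4), (-8), 28, 7, (-6), (-24), 77, 16, (-7), 4, 7, (-12), 1, (-18), (-3), (-1), 20, (-10), 7, (-2), 4, 11, (-1), 20, (-11), (-5), (-7), 12]))) (.node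 (.leaf ([0, 0, 0, 0, 0, 0, 0, 0, 0, 0, 0, 0, 0, 0, 0, 0, 0, 0, 0, 0, 0, 0, 0, 0, 0, 0, 0, 0, 0, 0, 0, 0, 0, 0, 0, 0, 0, 0, 0, 0, 0, 0, 0, 1])) (.leaf ([(-1160753), 8844223, 15304599, 2855182, 4317324, 9966390, (-2286158), (-1949246), 729903, 0, 0, 0, 0, 0, 0, 0, (-1357080), (-732189), 367579, (-578260), 451229, 407996, 221128, (-31023), (-5961), (-47066), (-26449), 28304, (-38011), 45805, (-64634), 81124, 31244, 118467, 49920, (-39768), (-56525), (-64827), (-58184), 22192, 6036, (-939), 853, 3352, 444, (-480), 227, 249, 123, (-380), 250, (-13), 71, (-209), 127, (-553), (-5), (-87), 62, 176, (-89), 132, (-124), 196, (-334), (-130), (-389), 272, 39, 217, (-237), (-25), 240, 213, (-277), (-125), 342, (-226), 91, 87, (-118)])))) (.node (.node (.leaf ([])) (.leaf ([]))) (.node (.leaf ([])) (.leaf ([(-2377), 8119, 12959, (-827), 2155, 7941, (-1867), (-2360), 698, 0, 0, 0, 0, 0, 0, 0, (-2188), (-1685), 884, (-1521), 523, 625, 770, (-7), 1, (-1), (-44), 18, (-39), 10,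 (-81), 40, 26, 38, 21, (-13), (-27), (-14), (-48), (-40), (-13), 10, 5, 0, 1, 1, 0, 1, (-1), (-3), 0, (-1), 0, 1, 0, 0, (-1), 0, 1, (-2), 0, 0, 0, 0, 1, 1, 0, 0, (-1), (-1), 0, (-1), 0, (-1), 0, 1, (-2)])))))

/-- data -/
def val0_100111 : Trie (Vec) := .node (.node (.node (.node (.leaf ([])) (.leaf ([0, 0, 0, 0, 0, 0, 0, 0, 0, 0, 0, 0, 0, 0, 0, 0, 0, 0, 0, 0, 0, 0, 0, 0, 0, 0, 0, 0, 0, 0, 0, 0, 0, 0, 0, 0, 0, 0, 0, 0, 0, 0, 0, 1]))) (.node (.leaf ([])) (.leaf ([])))) (.node (.node (.leaf ([])) (.leaf ([]))) (.node (.leaf ([(-7072), 54342, 93849, 18176, 24370, 64988, (-5333), (-22756), 9729, 0, 0, 0, 0, 0, 0, 0, 3219, (-2476), 1339, (-683), (-500), (-1251), 3027, 196, (-31), 96, 24, (-79), 69, (-67), 274, (-51), (-86), (-27), 3, 122, 10, 141, 105, 45, 56, (-2), 16, (-11), 8, 5, 0, 1, 0, (-2), 1, 1, 1, 0, 0, (-3), (-1), 2, 4, (-9), (-2), 1, (-1), 0, 1, 1, 5, 1, 1, (-3), 2, (-1), 0, 0, (-3), 0, (-2), 0, 1, 1, (-1)])) (.leaf ([(-137160), 533821, 934718, 82566,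 207478, 595631, (-90717), (-181054), 73349, 0, 0, 0, 0, 0, 0, 0, (-12432), (-41134), 14099, (-22635), 3135, 3500, 26062, 428, (-168), (-759), 198, (-707), (-133), 882, (-181), 1637, (-724), 1666, 1301, (-388), (-610), (-1217), (-254), 769, 464, 100, 147, (-2), 29, 58, 7, 18, (-9), (-47), 2, (-9), (-17), 8, 3, (-10), (-11), 2, 23, (-73), (-7), 3, (-4), (-6), 16, 9, 9, 7, (-7), (-20), 1, (-12), (-4), (-5), (-5), 8, (-28), 6, 3, 3, (-3)]))))) (.node (.node (.node (.leaf ([])) (.leaf ([1936958, (-7929098), (-13263688), (-1609955), (-2633090), (-8570105), 1127091, 3511960, (-1352598), 0, 0, 0, 0, 0, 0, 0, 286304, 897033, (-466608), 661393, (-74663), (-16911), (-665838), (-22739), (-555), (-1100), (-7183), 12391, (-4254), 1108, (-6459), (-6048), 13064, 456, (-424), (-5771), (-2819), 857, (-4235), (-4038), (-5217), (-1716), (-1582), 58, (-399), (-571), (-61), (-124), 97, 540, 8, 107, 37, (-51), (-1), 42, 67, 0, (-119), 453, 20, (-5), 8, 2, (-102), (-128), (-69), (-57),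 143, 118, (-5), 101, 29, 40, 20, (-61), 217, (-36), (-2), (-20), (-26)]))) (.node (.leaf ([])) (.leaf ([(-41086), 161346, 268196, 16151, 54455, 168136, (-35088), (-49725), 17406, 0, 0, 0, 0, 0, 0, 0, (-27156), (-23277), 11854, (-19391), 7090, 7739, 11417, (-296), 5, (-325), (-391), 269, (-536), 367, (-961), 932, 318, 973, 479, (-358), (-563), (-551), (-710), (-143), (-35), 77, 39, 23, 7, 11, 4, 8, (-4), (-27), 2, (-7), (-1), 4, 0, (-3), (-5), (-1), 7, (-26), 0, 0, (-1), (-1), 4, 4, 0, 8, (-5), (-5), (-5), (-5), (-1), 0, 0, 4, (-10), 0, 0, 0, 2])))) (.node (.node (.leaf ([])) (.leaf ([]))) (.node (.leaf ([(-93138), 402938, 661139, 91578, 133102, 423811, (-74482), (-153324), 56144, 0, 0, 0, 0, 0, 0, 0, (-52637), (-54680), 31281, (-46956), 15085, 11725, 32356, (-155), 99, (-821), (-458), 278, (-874), 713, (-1385), 1725, 238, 2338, 818, (-786), (-1065), (-1417), (-1283), 409, 264, 29, 33, 154, (-1), (-24), 4, 5, 3, (-24), 7, (-4), 1, (-4), (-1), (-8), (-1), (-9),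 (-11), 28, 10, 0, 1, 10, (-15), 0, (-25), 16, (-7), 17, (-15), 0, 11, 7, 0, (-4), 15, (-13), (-1), 2, 3])) (.leaf ([29660, (-126065), (-219389), (-24740), (-50638), (-139548), 24511, 40403, (-15669), 0, 0, 0, 0, 0, 0, 0, 7936, 10896, (-4285), 7135, (-2254), (-2373), (-6013), 9, 51, 298, 36, (-11), 143, (-313), 319, (-549), 4, (-663), (-334), 214, 287, 427, 255, (-160), (-80), (-17), (-14), 8, (-7), (-8), (-3), (-5), 2, 10, 0, 3, 4, (-2), (-2), 3, 2, 0, (-4), 14, 2, 0, 0, 0, (-3), (-2), (-4), (-2), 3, 3, 0, 2, 1, 1, 2, (-3), 4, (-3), 0, 1, 2])))))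

/-- data -/
def val0_101000 : Trie (Vec) := .node (.node (.node (.node (.leaf ([])) (.leaf ([0, 0, 0, 0, 0, 0, 0, 0, 0, 0, 0, 0, 0, 0, 0, 0, 0, 0, 0, 0, 0, 0, 0, 0, 0, 0, 0, 0, 0, 0, 0, 0, 0, 0, 0, 0, 0, 0, 0, 0, 0, 0, 0, 1]))) (.node (.leaf ([])) (.leaf ([])))) (.node (.node (.leaf ([])) (.leaf ([(-3504), 14629, 27648, 3461, 7484, 17376, (-3120), (-3886), 1760, 0, 0, 0, 0, 0, 0, 0, 827, 4, (-500), 562, (-178), (-104), (-79), (-15), (-17), (-82), 33, (-52), 6, 79, (-8), 95, (-50), 111, 87, (-43), (-25), (-106), (-2), 96, 32, 0, 3, (-2), 1, 0, 0, 1, 0, (-1), 0, 0, (-1), 0, 0, (-1), 0, 0, 0, 0, 0, 0, 0, 0, 0, 0, 1]))) (.node (.leaf ([0, 0, 0, 0, 0, 0, 0, 0, 0, 0, 0, 0, 0, 0, 0, 0, 0, 0, 0, 0, 0, 0, 0, 0, 0, 0, 0, 0, 0, 0, 0, 0, 0, 0, 0, 0, 0, 0, 0, 0, 0, 0, 0, 1])) (.leaf ([6297, (-22384), (-35615), (-1846), (-5739), (-22522), 3896, 8001, (-2725), 0, 0, 0, 0, 0, 0, 0, 4456, 4039, (-2331), 3571, (-1109), (-1116), (-2248), 6, (-12), (-11), 73, (-67), 76, 2, 114,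 (-64), (-60), (-80), (-8), 26, 72, 12, 99, 77, 18, (-8), (-1), 0, (-1), (-1), 0, (-1), 1, 3, 0, 0, 0, (-1), 0, 0, 1, 0, 0, 1, 0, 0, 0, 0, (-1), (-1), 0, 0, 0, 1, 0, 1, 0, 0, 0, (-1), 1]))))) (.node (.node (.node (.leaf ([])) (.leaf ([]))) (.node (.leaf ([])) (.leaf ([34202, (-129886), (-220479), (-16551), (-45783), (-137750), 26909, 43010, (-15696), 0, 0, 0, 0, 0, 0, 0, 15054, 15807, (-7330), 12243, (-3902), (-4218), (-8334), 64, 18, 299, 107, (-52), 250, (-310), 569, (-663), (-83), (-630), (-338), 227, 308, 452, 370, (-27), (-18), (-50), (-13), (-9), (-1), (-7), (-2), (-4), 3, 16, 0, 4, 2, (-3), 0, 1, 2, 0, (-2), 10, 0, 0, (-1), 0, (-3), (-3), 0, (-4), 3, 2, 3, 2, 0, 1, (-1), (-3), 4, 0, 0, 0, (-2)])))) (.node (.node (.leaf ([8317, (-35124), (-60359), (-8212), (-13183), (-38938), 5500, 13503, (-5346), 0, 0, 0, 0, 0, 0, 0, 764, 3063, (-1347), 1924, (-236), (-88), (-2211), (-68), 8, 21, (-25), 11, (-7), (-22), (-24), (-58), 30, (-72), (-24), 10, 32, 31, 6, (-24),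 (-28), (-2), (-6), 3, 0, (-2), 0, 0, 0, 0, 0, 0, 2, 0, 0, 1, 0, 0, 0, 1, 1, 0, 0, 0, 0, 1, (-1)])) (.leaf ([]))) (.node (.leaf ([])) (.leaf ([1604, 1942, 6376, 14136, 1419, 9031, 10621, (-19219), 9179, 0, 0, 0, 0, 0, 0, 0, 20707, 5231, (-2947), 6597, (-5488), (-6773), 1544, 669, (-2), 379, 485, (-414), 567, (-390), 1037, (-766), (-492), (-972), (-460), 461, 542, 580, 747, 105, 104, (-31), 2, (-32), (-3), 4, (-3), (-5), 3, 18, (-2), 4, (-2), (-3), 0, 2, 2, 1, (-2), 9, (-1), 0, (-1), (-1), (-2), (-4), 3, (-6), 3, 1, 4, 2, (-1), (-1), 0, (-3), 3, 2, 0, 0, (-2)])))))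

/-- data -/
def val0_101001 : Trie (Vec) := .node (.node (.node (.node (.leaf ([])) (.leaf ([(-145936), 495972, 856679, (-39087), 195163, 501097, (-177250), (-19594), (-3423), 0, 0, 0, 0, 0, 0, 0, (-167487), (-77017), 31250, (-67414), 43576, 56608, 10278, (-5048), (-232), (-3746), (-3369), 2702, (-4475), 3979, (-8435), 7660, 3255, 8858, 4734, (-4003), (-4772), (-5626), (-5917), (-463), (-504), 423, 150, 212, 18, 16, 29, 58, (-28), (-166), 16, (-46), (-6), 32, 0, (-29), (-31), (-3), 39, (-153), 3, (-1), (-1), (-1), 26, 24, (-7), 62, (-28), (-26), (-36), (-28), 1, 3, 1, 28, (-54), (-13), (-1), (-2), 15]))) (.node (.leaf ([])) (.leaf ([])))) (.node (.node (.leaf ([])) (.leaf ([]))) (.node (.leaf ([])) (.leaf ([0, 0, 0, 0, 0, 0, 0, 0, 0, 0, 0, 0, 0, 0, 0, 0, 0, 0, 0, 0, 0, 0, 0, 0, 0, 0, 0, 0, 0, 0, 0, 0, 0, 0, 0, 0, 0, 0, 0, 0, 0, 0, 0, 1]))))) (.node (.node (.node (.leaf ([])) (.leaf ([]))) (.node (.leaf ([])) (.leaf ([79087, (-277053), (-465935), (-10390), (-93928),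 (-284150), 70513, 64912, (-21302), 0, 0, 0, 0, 0, 0, 0, 59237, 41111, (-19383), 34465, (-15225), (-18145), (-15911), 1133, 1, 1008, 926, (-735), 1327, (-1074), 2456, (-2342), (-853), (-2565), (-1331), 1087, 1443, 1619, 1768, 211, 98, (-144), (-67), (-45), (-6), (-13), (-8), (-16), 8, 53, (-4), 14, 3, (-8), 1, 6, 9, 1, (-12), 46, (-1), 1, 1, 0, (-7), (-8), (-1), (-18), 8, 8, 11, 9, 1, (-1), 0, (-8), 18, 4, 1, 1, (-7)])))) (.node (.node (.leaf ([])) (.leaf ([]))) (.node (.leaf ([132632, (-511154), (-896054), (-74332), (-199920), (-568145), 92499, 163407, (-65789), 0, 0, 0, 0, 0, 0, 0, 19968, 40461, (-13692), 23174, (-5197), (-6182), (-23319), (-75), 167, 951, (-2), 476, 373, (-1065), 640, (-1953), 476, (-2111), (-1484), 618, 861, 1493, 582, (-728), (-411), (-99), (-150), 0, (-26), (-56), (-8), (-19), 10, 49, (-3), 10, 17, (-8), (-3), 11, 11, (-2), (-23), 72, 7, (-3), 4, 5, (-15), (-9), (-10), (-9), 7, 19, 1, 12, 4, 4, 5, (-8), 27, (-4), (-3), (-2), 2])) (.leaf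 ([(-28911), 139058, 234141, 16254, 55086, 149460, (-33278), (-31156), 10841, 0, 0, 0, 0, 0, 0, 0, (-26793), (-18216), 9308, (-14691), 7262, 8248, 7384, (-462), (-44), (-322), (-570), 515, (-650), 401, (-1020), 1020, 561, 1246, 575, (-428), (-757), (-524), (-864), (-226), (-64), 60, 61, (-3), 15, 19, 4, 7, (-3), (-24), 2, (-6), (-3), 4, 1, (-6), (-5), 1, 9, (-28), (-4), 1, (-3), (-1), 5, 4, 5, 6, (-4), (-7), (-2), (-6), (-3), 0, (-5), 3, (-11), 3, 1, (-1)])))))

/-- data -/
def val0_101010 : Trie (Vec) := .node (.node (.node (.node (.leaf ([])) (.leaf ([418909, (-1631597), (-2800717), (-244965), (-595340), (-1780880), 287279, 562664, (-218772), 0, 0, 0, 0, 0, 0, 0, 102394, 162573, (-70716), 111373, (-26731), (-26601), (-97522), (-869), 263, 2028, 576, 672, 1452, (-2333), 2523, (-5243), 725, (-5573), (-3380), 1428, 2578, 3443, 2219, (-940), (-885), (-384), (-480), 75, (-82), (-186), (-22), (-52), 34, 151, (-3), 36, 43, (-27), (-7), 27, 35, (-7), (-64), 216, 20,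 (-7), 11, 17, (-50), (-32), (-37), (-22), 28, 60, 1, 40, 21, 15, 16, (-26), 90, (-20), (-8), (-2), 5]))) (.node (.leaf ([])) (.leaf ([245156, (-1009257), (-1754237), (-204266), (-388528), (-1128925), 156590, 387337, (-156083), 0, 0, 0, 0, 0, 0, 0, 2185, 78795, (-30832), 43043, (-408), 1904, (-58776), (-2234), 300, 803, (-1278), 1586, (-658), (-926), (-1049), (-1810), 1759, (-1501), (-1282), (-77), 305, 1221, (-575), (-1394), (-959), (-104), (-186), 81, (-50), (-85), (-10), (-21), 9, 53, 4, 10, 27, (-10), (-8), 20, 4, (-5), (-23), 78, 16, (-3), 0, 5, (-19), (-12), (-22), (-1), 12, 20, (-9), 11, 4, 7, 9, (-7), 28, (-20), (-2), (-2), 9])))) (.node (.node (.leaf ([])) (.leaf ([]))) (.node (.leaf ([3865, (-18817), (-32637), (-3972), (-8117), (-20593), 4675, 4869, (-1808), 0, 0, 0, 0, 0, 0, 0, 2449, 1837, (-769), 1273, (-714), (-770), (-727), 30, 10, 73, 25, (-45), 53, (-72), 110, (-137), (-49), (-167), (-78), 58, 89, 102, 85, (-12), (-6), (-2), (-1), 1, 0, 0, 0,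 0, 0, 0, 0, 1, 0, 0, 0, 0, 0, 0, 0, (-1), 0, 0, 0, 0, 0, 0, 0, 0, 1])) (.leaf ([0, 0, 0, 0, 0, 0, 0, 0, 0, 0, 0, 0, 0, 0, 0, 0, 0, 0, 0, 0, 0, 0, 0, 0, 0, 0, 0, 0, 0, 0, 0, 0, 0, 0, 0, 0, 0, 0, 0, 0, 0, 0, 0, 0, 0, 0, 0, 1]))))) (.node (.node (.node (.leaf ([])) (.leaf ([]))) (.node (.leaf ([(-249791), 970943, 1644540, 87851, 352380, 1024017, (-226381), (-257695), 90599, 0, 0, 0, 0, 0, 0, 0, (-162267), (-126435), 59439, (-101538), 42545, 49204, 54784, (-2676), (-148), (-2858), (-2451), 1845, (-3609), 3106, (-6534), 6916, 2192, 7446, 3903, (-2896), (-4069), (-4515), (-4826), (-425), (-133), 446, 235, 158, 30, 48, 22, 51, (-24), (-161), 15, (-41), (-12), 26, (-3), (-25), (-28), (-3), 39, (-137), 2, 0, (-4), 1, 22, 22, 2, 54, (-26), (-25), (-32), (-29), (-3), 3, 0, 23, (-52), (-14), (-1), (-2), 16])) (.leaf ([])))) (.node (.node (.leaf ([(-6374), 29067, 50030, 7043, 11521, 32236, (-5262), (-9850), 3825, 0, 0, 0, 0, 0, 0, 0, (-1686), (-2617), 1161, (-1728), 512,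 444, 1615, 12, (-10), (-40), (-11), 32, (-28), 41, (-37), 94, 16, 129, 43, (-40), (-68), (-58), (-53), 9, 16, 2, 6, (-2), 0, 2, 0, 0, 0, 0, 0, 0, (-2), 0, 0, (-1), 0, 0, 0, (-1), (-1), 0, 0, 0, 0, (-1), 1])) (.leaf ([602656, (-3317552), (-5204330), (-1062357), (-1042211), (-3387914), 655058, 1384452, (-474830), 0, 0, 0, 0, 0, 0, 0, 647285, 569198, (-365227), 528836, (-191401), (-141830), (-337013), (-2057), (-1451), 5103, 6165, (-11033), 9195, (-3484), 17583, (-13477), (-10328), (-19628), (-777), 5171, 11567, 8121, 15315, 2370, 345, 235, (-182), (-206), (-1), 188, 1, 56, (-93), (-60), (-17), (-12), (-60), 101, 7, 41, (-65), 37, 145, (-463), (-12), 13, 4, (-103), 165, 49, 20, (-25), 1, (-158), 64, (-44), (-18), (-69), 36, 74, (-198), 85, 31, 33, (-37)]))) (.node (.leaf ([])) (.leaf ([])))))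

/-- data -/
def val0_101011 : Trie (Vec) := .node (.node (.node (.node (.leaf ([])) (.leaf ([(-1846), 9999, 16555, 2030, 3931, 10530, (-2591), (-2337), 722, 0, 0, 0, 0, 0, 0, 0, (-2420), (-1451), 805, (-1290), 695, 700, 572, (-29), (-3), (-35), (-42), 58, (-54), 36, (-99), 89, 61, 105, 31, (-35), (-64), (-48), (-80), (-23), (-11), 2, 1, 0, 0, 0, 0, 0, 0, 0, 0, (-1), 0, 0, 0, 0, 0, 0, 0, 1, 0, 0, 0, 0, 0, 0, 0, 0, (-1)]))) (.node (.leaf ([])) (.leaf ([(-112657), 424129, 717269, 41723, 148200, 447742, (-90967), (-127676), 46161, 0, 0, 0, 0, 0, 0, 0, (-59471), (-54257), 25433, (-42545), 15301, 17375, 26417, (-604), (-35), (-934), (-737), 524, (-1166), 1034, (-2212), 2398, 618, 2465, 1316, (-904), (-1382), (-1515), (-1590), (-193), (-11), 172, 98, 2, 11, 29, 8, 18, (-10), (-57), 3, (-15), (-6), 11, (-1), (-6), (-10), 1, 17, (-58), (-1), (-1), (-1), (-1), 12, 10, 11, 17, (-9), (-13), (-9), (-11), (-4), (-1), (-1), 10, (-24), (-2), (-1), (-2), 7])))) (.node (.node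 (.leaf ([])) (.leaf ([]))) (.node (.leaf ([])) (.leaf ([(-30487), 105304, 172828, 8882, 30622, 107114, (-21120), (-37494), 13188, 0, 0, 0, 0, 0, 0, 0, (-16852), (-16699), 8717, (-13808), 4152, 4357, 9122, 0, 28, (-128), (-146), 133, (-246), 133, (-494), 447, 142, 405, 182, (-148), (-274), (-249), (-345), (-155), (-16), 45, 22, (-3), 1, 7, 0, 1, (-2), (-9), (-1), (-2), 0, 2, (-1), 2, 0, 0, 0, (-4), 1, (-1), 1, 2, 2, 2, 1, 1, (-2), (-1), (-1), (-1), (-1), (-1), 1, 2, (-4), (-2), (-1), (-1), 3]))))) (.node (.node (.node (.leaf ([])) (.leaf ([0, 0, 0, 0, 0, 0, 0, 0, 0, 0, 0, 0, 0, 0, 0, 0, 0, 0, 0, 0, 0, 0, 0, 0, 0, 0, 0, 0, 0, 0, 0, 0, 0, 0, 0, 0, 0, 0, 0, 0, 0, 0, 0, 0, 0, 0, 0, 0, 0, 0, 0, 0, 0, 0, 0, 0, 0, 0, 0, 0, 0, 0, 0, 0, 0, 0, 0, 0, 0, 1]))) (.node (.leaf ([])) (.leaf ([0, 0, 0, 0, 0, 0, 0, 0, 0, 0, 0, 0, 0, 0, 0, 0, 0, 0, 0, 0, 0, 0, 0, 0, 0, 0, 0, 0, 0, 0, 0, 0, 0, 0, 0, 0, 0, 0, 0, 0, 0, 0, 0, 1])))) (.node (.node (.leaf ([])) (.leaf ([0, 0, 0, 0, 0,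 0, 0, 0, 0, 0, 0, 0, 0, 0, 0, 0, 0, 0, 0, 0, 0, 0, 0, 0, 0, 0, 0, 0, 0, 0, 0, 0, 0, 0, 0, 0, 0, 0, 0, 0, 0, 0, 0, 1]))) (.node (.leaf ([])) (.leaf ([120746, (-478804), (-837260), (-72506), (-187703), (-533739), 84025, 156812, (-63173), 0, 0, 0, 0, 0, 0, 0, 16741, 38044, (-13418), 21803, (-4419), (-4994), (-22872), (-234), 165, 715, 19, 450, 283, (-843), 422, (-1612), 452, (-1744), (-1251), 443, 718, 1137, 441, (-551), (-366), (-102), (-146), 16, (-32), (-57), (-7), (-18), 9, 45, (-2), 9, 13, (-8), (-3), 10, 11, (-2), (-23), 73, 7, (-3), 4, 6, (-16), (-9), (-12), (-7), 7, 20, (-1), 12, 4, 5, 5, (-8), 28, (-6), (-3), (-3), 3])))))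

/-- data -/
def val0_101100 : Trie (Vec) := .node (.node (.node (.node (.leaf ([])) (.leaf ([]))) (.node (.leaf ([])) (.leaf ([(-91415), 299422, 498908, 7685, 91740, 304105, (-68727), (-85435), 28990, 0, 0, 0, 0, 0, 0, 0, (-56717), (-46550), 22375, (-38684), 13896, 16672, 21251, (-722), 50, (-749), (-733), 525, (-1106), 818, (-2121), 1942, 598, 1976, 1039, (-862), (-1151), (-1304), (-1464), (-350), (-86), 158, 55, 42, 1, 12, 7, 16, (-9), (-51), 2, (-15), (-4), 9, (-1), (-2), (-9), (-3), 9, (-40), 3, (-2), 0, (-1), 8, 7, (-3), 17, (-10), (-7), (-11), (-8), (-2), (-1), 2, 9, (-19), (-1), (-2), (-2), 7])))) (.node (.node (.leaf ([])) (.leaf ([0, 0, 0, 0, 0, 0, 0, 0, 0, 0, 0, 0, 0, 0, 0, 0, 0, 0, 0, 0, 0, 0, 0, 0, 0, 0, 0, 0, 0, 0, 0, 0, 0, 0, 0, 0, 0, 0, 0, 0, 0, 0, 0, 1]))) (.node (.leaf ([])) (.leaf ([3244347, (-20387662), (-33667180), (-6224244), (-8187542), (-21839665), 4756423, 6335652, (-2209363), 0, 0, 0, 0, 0, 0, 0, 3699744, 2647646, (-1550114), 2343954,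 (-1140445), (-965761), (-1279259), 34696, 3319, 71048, 54446, (-68013), 74992, (-65366), 138374, (-137898), (-70767), (-197762), (-61343), 63379, 100598, 100373, 117981, (-12907), (-2962), 206, (-2840), (-3787), (-843), 406, (-308), (-298), (-293), 681, (-319), 139, (-177), 393, (-122), 860, (-48), 170, 180, (-680), 181, (-126), 171, (-427), 601, 191, 291, (-447), 137, (-435), 379, 43, (-171), (-391), 399, 248, (-639), 378, (-30), 8, 82]))))) (.node (.node (.node (.leaf ([])) (.leaf ([]))) (.node (.leaf ([])) (.leaf ([(-4472), 7812, 10441, (-2170), (-1240), 5747, (-842), (-4262), 1246, 0, 0, 0, 0, 0, 0, 0, (-3005), (-2954), 1813, (-2873), 614, 674, 1748, 37, 23, 36, (-24), 19, (-25), (-37), (-46), (-15), 11, (-47), (-42), 10, 0, 30, (-35), (-65), (-17), 5, (-8), 2, 1, 0, 0, 0, (-1), (-2), 0, 0, 0, 1, 0, 1, 0, (-1), 0, 0, 1, 0, 1, 0, 1, 1, 0, 0, (-1), 0, 0, 0, 0, 0, 1, 1])))) (.node (.node (.leaf ([(-65357), 261972, 499700, 40031, 136826, 314156, (-57309), (-48706),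 24111, 0, 0, 0, 0, 0, 0, 0, 10180, 827, (-10283), 12616, (-2531), 746, (-3967), (-442), (-342), (-1216), 218, (-391), (-132), 1317, (-296), 1752, (-382), 2186, 1620, (-800), (-800), (-1633), (-296), 1085, 429, 7, 42, (-8), 12, 21, 6, 14, (-4), (-19), 0, (-4), (-17), 6, 5, (-15), (-3), 4, 11, (-42), (-8), 3, 1, (-3), 8, 2, 7, 6, 0, (-8), 2, (-3), 2, (-2), (-4), 4, (-10), 7, 1, 2, (-5)])) (.leaf ([]))) (.node (.leaf ([12091, (-47908), (-81487), (-10798), (-16441), (-52962), 5887, 21357, (-8640), 0, 0, 0, 0, 0, 0, 0, (-803), 4264, (-2001), 2509, 282, 549, (-3641), (-162), (-5), (-33), (-102), 83, (-68), 29, (-157), 14, 114, 48, 15, (-52), (-25), (-29), (-87), (-43), (-52), 4, (-10), 4, 0, (-2), 0, 0, (-1), (-1), 0, 0, 2, 1, 0, 0, 0, 1, 0, 0, 0, 0, 1, 0, 1, 1, (-1), 0, 0, 0, 0, 0, 0, 0, 0, 1])) (.leaf ([(-3576328), 15028982, 25252826, 2337877, 5528147, 15802198, (-3603474), (-4074784), 1415160, 0, 0, 0, 0, 0, 0, 0, (-2722178), (-1997735), 1002960, (-1657343), 750267,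 790791, 867335, (-38552), (-1672), (-51219), (-38467), 41594, (-57834), 51436, (-108636), 110032, 44517, 133934, 57194, (-50007), (-72593), (-77231), (-83703), (-1268), (-732), 3529, 3176, 1001, 334, 402, 270, 484, (-116), (-1514), 141, (-393), (-134), 115, 8, (-430), (-169), (-8), 237, (-987), (-97), (-13), (-58), 141, 42, 153, 204, 577, (-204), (-104), (-350), (-207), (-44), 96, (-161), 118, (-307), (-206), (-60), (-91), 200])))))

/-- data -/
def val0_101101 : Trie (Vec) := .node (.node (.node (.node (.leaf ([])) (.leaf ([145936, (-495972), (-856679), 39087, (-195163), (-501097), 177250, 19594, 3423, 0, 0, 0, 0, 0, 0, 0, 167487, 77017, (-31250), 67414, (-43576), (-56608), (-10278), 5048, 232, 3746, 3369, (-2702), 4475, (-3979), 8435, (-7660), (-3255), (-8858), (-4734), 4003, 4772, 5626, 5917, 463, 504, (-423), (-150), (-211), (-18), (-16), (-29), (-58), 28, 166, (-16), 46, 6, (-32), 0, 29, 31, 3, (-39), 153, (-3), 1, 1, 1, (-26), (-24), 7, (-62), 28, 26,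 36, 28, (-1), (-3), (-1), (-28), 54, 13, 1, 2, (-15)]))) (.node (.leaf ([])) (.leaf ([])))) (.node (.node (.leaf ([])) (.leaf ([1716, (-5745), (-8919), (-781), (-1027), (-5929), 145, 4020, (-1579), 0, 0, 0, 0, 0, 0, 0, (-340), 937, (-581), 733, 139, 220, (-915), (-38), (-6), (-32), (-24), 41, (-24), 31, (-55), 40, 41, 72, 24, (-31), (-38), (-39), (-41), (-1), (-7), (-3), (-2), (-4), (-1), (-1), 0, 0, 0, 1, 0, 0, 0, 0, 0, (-1), 0, 0, 0, 0, 0, 0, 0, 0, 0, 0, 1]))) (.node (.leaf ([])) (.leaf ([(-764926), 2761959, 4571340, 104688, 915595, 2773369, (-765435), (-573937), 168319, 0, 0, 0, 0, 0, 0, 0, (-751464), (-463420), 234578, (-410757), 197561, 226123, 166247, (-14568), 241, (-11916), (-12599), 11418, (-17066), 12383, (-31324), 27767, 12872, 31897, 14915, (-13458), (-18333), (-19047), (-22929), (-3658), (-1831), 1472, 724, 658, 56, 49, 82, 159, (-75), (-532), 53, (-143), 16, 75, (-23), (-65), (-88), (-14), 94, (-366), 27, (-15), (-4), 29, 47, 82, (-16), 208, (-87),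 (-55), (-132), (-88), 6, 23, 0, 73, (-153), (-96), (-12), (-14), 93]))))) (.node (.node (.node (.leaf ([])) (.leaf ([]))) (.node (.leaf ([])) (.leaf ([11789, (-52771), (-88700), (-9728), (-19207), (-57073), 9574, 18990, (-7049), 0, 0, 0, 0, 0, 0, 0, 5080, 6254, (-3198), 4815, (-1394), (-1306), (-3760), (-29), 9, 48, 55, (-39), 77, (-59), 140, (-177), (-40), (-183), (-71), 40, 99, 79, 114, 31, (-5), (-17), (-7), 3, (-3), (-3), (-1), (-2), 1, 5, 0, 2, 0, (-1), 0, 1, 1, 0, (-1), 5, 0, 0, 0, 1, (-1), (-1), (-1), (-2), 2, 1, 0, 1, 1, 0, 0, (-1), 2, (-1)])))) (.node (.node (.leaf ([])) (.leaf ([]))) (.node (.leaf ([])) (.leaf ([0, 0, 0, 0, 0, 0, 0, 0, 0, 0, 0, 0, 0, 0, 0, 0, 0, 0, 0, 0, 0, 0, 0, 0, 0, 0, 0, 0, 0, 0, 0, 0, 0, 0, 0, 0, 0, 0, 0, 0, 0, 0, 0, 1])))))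

/-- data -/
def val0_101110 : Trie (Vec) := .node (.node (.node (.node (.leaf ([])) (.leaf ([13501, (-57789), (-98141), (-10683), (-22161), (-61431), 13855, 15957, (-5655), 0, 0, 0, 0, 0, 0, 0, 9251, 6932, (-3339), 5648, (-2610), (-2692), (-3004), 156, 11, 229, 110, (-136), 204, (-220), 386, (-436), (-141), (-520), (-223), 203, 264, 329, 302, (-50), (-10), (-10), (-6), (-10), 2, 0, (-1), (-1), 0, 4, (-1), 1, 2, 0, 0, 2, 0, 0, 0, 1, 1, 0, 0, (-1), 1, 1, 0, (-2), 0, (-1), 2, 0, (-1), (-1), 0, 0, (-1), 2, 0, 0, (-1)]))) (.node (.leaf ([])) (.leaf ([(-28605), 124674, 203579, 56851, 29923, 144712, 15849, (-119130), 49155, 0, 0, 0, 0, 0, 0, 0, 45588, (-7433), 5393, (-1581), (-12462), (-17563), 20249, 2419, 73, 1236, 1406, (-1528), 1654, (-1281), 2904, (-2259), (-1685), (-3107), (-1468), 1527, 1803, 1771, 2178, 282, 322, (-21), (-14), (-67), 9, 15, (-4), (-9), 1, 19, (-6), 6, 0, (-3), 1, 8, 4, 1, (-4), 14, 0, 0, 2, (-3), 2, 2, 5, (-15), (-1), (-1), 11, 2, (-1), (-4),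 2, (-1), 1, 9, 1, 2, (-4)])))) (.node (.node (.leaf ([0, 0, 0, 0, 0, 0, 0, 0, 0, 0, 0, 0, 0, 0, 0, 0, 0, 0, 0, 0, 0, 0, 0, 0, 0, 0, 0, 0, 0, 0, 0, 0, 0, 0, 0, 0, 0, 0, 0, 0, 0, 0, 0, 1])) (.leaf ([(-32381), 190252, 313210, 45597, 71309, 208181, (-31295), (-75041), 28029, 0, 0, 0, 0, 0, 0, 0, (-18066), (-23743), 13916, (-19134), 5306, 4007, 15629, 288, (-35), 72, (-286), 169, (-238), (-5), (-287), 349, 193, 404, 68, 50, (-268), 76, (-342), (-199), (-3), 61, 54, (-2), 21, 20, 4, 7, (-4), (-21), 2, (-5), (-1), 4, 2, (-6), (-5), 1, 10, (-29), (-5), 2, (-3), (-2), 6, 5, 5, 2, (-5), (-7), 0, (-6), (-3), (-1), (-5), 4, (-11), 4, 2, 0, (-3)]))) (.node (.leaf ([(-4514), 18368, 30708, (-7482), 9493, 14847, (-15497), 13236, (-6783), 0, 0, 0, 0, 0, 0, 0, (-20571), (-5912), 2833, (-6346), 5518, 6990, (-1158), (-633), (-25), (-444), (-452), 451, (-567), 457, (-1083), 889, 527, 1087, 502, (-495), (-597), (-639), (-769), (-112), (-99), 36, 3, 45, 3, (-7), 3, 6, (-2), (-16),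 2, (-4), 3, 2, 0, (-3), (-3), (-2), 2, (-10), 2, 0, 0, 1, 1, 2, (-5), 8, (-4), (-1), (-4), (-2), 1, 1, 1, 2, (-3), (-3), 0, 0, 1])) (.leaf ([]))))) (.node (.node (.node (.leaf ([])) (.leaf ([0, 0, 0, 0, 0, 0, 0, 0, 0, 0, 0, 0, 0, 0, 0, 0, 0, 0, 0, 0, 0, 0, 0, 0, 0, 0, 0, 0, 0, 0, 0, 0, 0, 0, 0, 0, 0, 0, 0, 0, 0, 0, 0, 1]))) (.node (.leaf ([])) (.leaf ([])))) (.node (.node (.leaf ([])) (.leaf ([]))) (.node (.leaf ([])) (.leaf ([4352087, (-22008659), (-36743178), (-5019716), (-8567546), (-23372175), 5320252, 6193125, (-2148327), 0, 0, 0, 0, 0, 0, 0, 4084700, 2867696, (-1547119), 2453404, (-1194606), (-1137763), (-1270928), 51577, 3617, 80951, 59954, (-69768), 86388, (-77737), 161403, (-163293), (-74654), (-214952), (-80765), 74929, 112400, 117537, 130199, (-7382), (-934), (-2541), (-4011), (-3246), (-753), (-48), (-318), (-512), (-74), 1454, (-289), 310, (-95), 169, (-36), 759, 84, 70, (-71), 356, 170, (-55), 133, (-375), 301, (-19), 71, (-699), 192, (-159), 409,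 149, (-66), (-268), 320, 67, (-128), 459, 38, 48, (-140)])))))

/-- data -/
def val0_101111 : Trie (Vec) := .node (.node (.node (.node (.leaf ([])) (.leaf ([151114, (-581011), (-975563), (-86679), (-194467), (-618737), 102656, 218073, (-82150), 0, 0, 0, 0, 0, 0, 0, 51799, 70476, (-35291), 54329, (-13495), (-12017), (-43005), (-334), (-33), 708, 203, 248, 691, (-729), 1249, (-1995), 182, (-1811), (-1057), 496, 844, 1296, 946, (-233), (-262), (-184), (-104), (-64), (-11), (-28), (-4), (-11), 9, 59, (-3), 10, 3, (-7), 4, 1, 7, 1, (-7), 25, (-4), 1, (-1), (-3), (-6), (-12), 6, (-15), 8, 5, 10, 8, (-2), 0, (-1), (-7), 14, 8, 1, (-2), (-9)]))) (.node (.leaf ([])) (.leaf ([(-11860), 52255, 95468, (-958), 30431, 52124, (-32624), 22605, (-10765), 0, 0, 0, 0, 0, 0, 0, (-34234), (-7449), 2368, (-7689), 9741, 11834, (-4474), (-1292), (-67), (-1029), (-768), 823, (-1030), 1027, (-1946), 1809, 912, 2376, 1103, (-1046), (-1242), (-1473), (-1456), 118, (-88), 20, 21, 32, 0,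 (-2), 5, 7, (-2), (-19), 3, (-5), (-2), 2, 1, (-8), (-2), 1, 3, (-11), (-2), 0, 0, 2, 0, 2, (-1), 8, (-1), 0, (-6), (-2), 1, 2, (-3), 2, (-2), (-3), (-1), (-1), 2])))) (.node (.node (.leaf ([])) (.leaf ([]))) (.node (.leaf ([])) (.leaf ([(-191503), 691293, 1165833, 40927, 240318, 713878, (-174694), (-163306), 54146, 0, 0, 0, 0, 0, 0, 0, (-143169), (-99007), 46587, (-82302), 37243, 43593, 38410, (-2526), (-37), (-2479), (-2205), 1977, (-3175), 2626, (-5965), 5712, 2209, 6374, 3162, (-2622), (-3633), (-3910), (-4333), (-555), (-240), 314, 170, 49, 15, 40, 17, 34, (-18), (-110), 8, (-30), (-8), 21, (-2), (-13), (-19), 1, 28, (-102), (-1), (-2), (-1), 0, 20, 18, 12, 37, (-17), (-20), (-22), (-20), (-6), 1, (-1), 19, (-42), (-8), (-3), (-5), 15]))))) (.node (.node (.node (.leaf ([0, 0, 0, 0, 0, 0, 0, 0, 0, 0, 0, 0, 0, 0, 0, 0, 0, 0, 0, 0, 0, 0, 0, 0, 0, 0, 0, 0, 0, 0, 0, 0, 0, 0, 0, 0, 0, 0, 0, 0, 0, 0, 0, 1])) (.leaf ([34343, (-200620), (-332456), (-48392), (-76820),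 (-220343), 33878, 77559, (-29069), 0, 0, 0, 0, 0, 0, 0, 18140, 23999, (-13757), 19032, (-5378), (-4166), (-15649), (-268), 49, (-13), 278, (-163), 250, (-53), 327, (-435), (-191), (-493), (-122), (-17), 297, (-7), 366, 157, (-7), (-64), (-56), 5, (-22), (-20), (-4), (-8), 4, 22, (-2), 5, 1, (-4), (-2), 7, 5, (-1), (-10), 30, 5, (-2), 3, 2, (-6), (-5), (-6), (-4), 5, 7, 0, 6, 3, 1, 5, (-4), 11, (-4), (-2), 0, 3]))) (.node (.leaf ([(-64985), 340090, 594104, 120483, 133225, 409565, (-4039), (-207787), 88883, 0, 0, 0, 0, 0, 0, 0, 76751, (-8240), 2379, 6691, (-19764), (-27175), 27826, 3544, (-131), 1525, 1900, (-2386), 2369, (-1456), 4469, (-2687), (-2577), (-3567), (-1409), 2094, 2234, 2272, 3105, 782, 665, (-13), 82, (-93), 41, 65, (-5), (-4), (-1), 15, (-6), 10, (-7), 0, 4, 3, (-1), 7, 14, (-33), (-11), 4, (-1), (-10), 15, 5, 13, (-23), 0, (-18), 22, (-4), (-4), (-10), (-4), 2, (-15), 17, 6, 8, (-13)])) (.leaf ([])))) (.node (.node (.leaf ([])) (.leaf ([4488,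 (-18801), (-33039), (-3807), (-7594), (-21298), 2998, 6473, (-2650), 0, 0, 0, 0, 0, 0, 0, 58, 1233, (-394), 543, (-9), (-38), (-874), (-34), 9, 15, (-13), 6, 0, (-21), (-8), (-49), 14, (-52), (-29), 8, 26, 21, 3, (-4), (-13), (-2), (-1), (-1), 0, 0, 0, 0, 0, 0, 0, 0, 0, 0, 0, 0, 1, 0, 0, 2, 0, 0, 0, 0, 0, 0, 0, (-2)]))) (.node (.leaf ([])) (.leaf ([472398, (-1082863), (-2323228), 600084, (-712383), (-1247865), 599607, (-737306), 275875, 0, 0, 0, 0, 0, 0, 0, 420145, (-4524), 110287, (-56666), (-104623), (-195192), 194076, 28106, 2594, 17586, 15340, (-10800), 18063, (-19930), 30491, (-32465), (-12121), (-42912), (-26611), 19898, 22882, 26211, 23329, (-950), 835, (-1044), (-1564), 204, (-103), (-526), (-106), (-278), 132, 516, (-64), 175, 237, (-139), (-17), 164, 206, (-29), (-286), 1086, 86, (-37), 75, 118, (-197), (-43), (-196), (-200), 35, 280, 69, 168, 75, 16, 59, (-115), 386, (-31), (-33), (-3), (-6)])))))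

/-- data -/
def val0_110000 : Trie (Vec) := .node (.node (.node (.node (.leaf ([])) (.leaf ([17783, (-70797), (-131361), (-34197), (-26704), (-94340), (-13579), 56791, (-26534), 0, 0, 0, 0, 0, 0, 0, (-41573), (-6127), 4691, (-11811), 11410, 13512, (-6028), (-1519), 13, (-869), (-928), 785, (-1159), 824, (-2281), 1577, 1045, 1836, 871, (-929), (-959), (-1246), (-1490), (-159), (-267), 85, (-32), 128, (-9), (-35), 6, 8, (-2), (-33), 6, (-7), 15, 3, (-3), (-4), 1, (-1), (-2), 5, 5, (-3), 3, 8, (-3), 4, (-16), 16, (-3), 5, (-14), 0, 8, 5, 3, 4, 3, (-18), (-1), 1, 10]))) (.node (.leaf ([])) (.leaf ([])))) (.node (.node (.leaf ([])) (.leaf ([0, 0, 0, 0, 0, 0, 0, 0, 0, 0, 0, 0, 0, 0, 0, 0, 0, 0, 0, 0, 0, 0, 0, 0, 0, 0, 0, 0, 0, 0, 0, 0, 0, 0, 0, 0, 0, 0, 0, 0, 0, 0, 0, 0, 0, 0, 0, 0, 0, 0, 0, 0, 0, 0, 0, 0, 0, 0, 0, 0, 0, 0, 0, 0, 0, 0, 0, 0, 0, 0, 1]))) (.node (.leaf ([])) (.leaf ([0, 0, 0, 0, 0, 0, 0, 0, 0, 0, 0, 0, 0, 0, 0, 0, 0, 0, 0, 0, 0, 0, 0, 0, 0, 0, 0, 0,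 0, 0, 0, 0, 0, 0, 0, 0, 0, 0, 0, 0, 0, 0, 0, 1]))))) (.node (.node (.node (.leaf ([])) (.leaf ([0, 0, 0, 0, 0, 0, 0, 0, 0, 0, 0, 0, 0, 0, 0, 0, 0, 0, 0, 0, 0, 0, 0, 0, 0, 0, 0, 0, 0, 0, 0, 0, 0, 0, 0, 0, 0, 0, 0, 0, 0, 0, 0, 0, 0, 0, 0, 0, 0, 0, 0, 0, 0, 0, 0, 0, 0, 0, 0, 0, 0, 0, 0, 0, 0, 0, 0, 1]))) (.node (.leaf ([0, 0, 0, 0, 0, 0, 0, 0, 0, 0, 0, 0, 0, 0, 0, 0, 0, 0, 0, 0, 0, 0, 0, 0, 0, 0, 0, 0, 0, 0, 0, 0, 0, 0, 0, 0, 0, 0, 0, 0, 0, 0, 0, 1])) (.leaf ([2963, (-33066), (-58091), (-12015), (-16375), (-41443), 2169, 13850, (-6308), 0, 0, 0, 0, 0, 0, 0, (-4169), 365, (-196), (-871), 839, 1363, (-1474), (-138), 29, (-99), (-20), 82, (-69), 70, (-273), 82, 82, 61, (-3), (-114), (-31), (-146), (-115), (-42), (-46), 4, (-16), 4, (-8), (-5), 0, (-1), 0, 2, (-1), (-1), (-1), 0, 0, 3, 1, (-2), (-4), 9, 2, (-1), 1, 0, (-1), (-1), (-3), (-1), (-1), 3, (-2), 1, 0, 0, 3, 0, 2, 0, (-1), (-1), 1])))) (.node (.node (.leaf ([])) (.leaf ([29327, (-98334), (-174592), (-13314),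 (-35436), (-111934), 10660, 39532, (-17026), 0, 0, 0, 0, 0, 0, 0, (-7748), 5158, (-601), 379, 2512, 2369, (-5255), (-420), 4, (-160), (-274), 234, (-249), 102, (-518), 149, 332, 290, 28, (-181), (-89), (-170), (-333), (-34), (-107), 6, (-27), 60, 1, (-18), 1, 0, 0, (-6), 1, (-1), 8, (-1), 0, (-2), 2, (-1), (-5), 14, 2, 0, 2, 4, (-3), 1, (-11), 3, (-3), 5, (-3), 2, 4, 1, 1, 0, 6, (-5), 0, 1, 1]))) (.node (.leaf ([0, 0, 0, 0, 0, 0, 0, 0, 0, 0, 0, 0, 0, 0, 0, 0, 0, 0, 0, 0, 0, 0, 0, 0, 0, 0, 0, 0, 0, 0, 0, 0, 0, 0, 0, 0, 0, 0, 0, 0, 0, 0, 0, 1])) (.leaf ([7721, (-37197), (-101192), 9411, (-47172), (-60071), 22731, (-43459), 13611, 0, 0, 0, 0, 0, 0, 0, 872, (-14249), 13799, (-17061), (-793), (-4101), 16077, 1157, 220, 890, 491, (-335), 580, (-1002), 825, (-1361), (-358), (-2055), (-1313), 867, 1009, 1216, 792, (-441), (-105), 17, (-50), 1, (-4), (-26), (-3), (-8), 2, 6, (-4), 0, 14, (-3), (-3), 9, 8, (-2), (-15), 45, 7, (-5), 5, 7, (-7), 3, (-5), (-3), (-5), 11,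 (-1), 5, 3, 1, 6, (-2), 11, (-5), (-4), (-2), 6])))))

/-- data -/
def val0_110001 : Trie (Vec) := .node (.node (.node (.node (.leaf ([])) (.leaf ([]))) (.node (.leaf ([])) (.leaf ([])))) (.node (.node (.leaf ([])) (.leaf ([]))) (.node (.leaf ([])) (.leaf ([(-129676), 477537, 847471, 35473, 196783, 527386, (-108734), (-100710), 40287, 0, 0, 0, 0, 0, 0, 0, (-49008), (-39851), 11638, (-23562), 12470, 17681, 13145, (-1289), (-231), (-1648), (-858), 435, (-1398), 1838, (-2308), 3338, 526, 4005, 2497, (-1542), (-2041), (-2521), (-1895), 486, 242, 124, 151, 69, 35, 69, 9, 26, (-13), (-68), 6, (-12), (-20), 15, 7, (-18), (-16), 4, 33, (-111), (-12), 5, (-4), (-10), 25, 12, (-1), 9, (-10), (-26), (-2), (-16), (-7), (-6), (-7), 12, (-36), 11, 5, 3, (-7)]))))) (.node (.node (.node (.leaf ([])) (.leaf ([(-525158), 1987340, 3337808, 171018, 685238, 2080424, (-443736), (-555655), 195271, 0, 0, 0, 0, 0, 0, 0, (-339814), (-272275), 132897, (-222550), 88814, 98810, 123824,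 (-4300), (-53), (-4888), (-5302), 3742, (-7085), 5369, (-12691), 12639, 4324, 14155, 7115, (-5338), (-8033), (-8141), (-9543), (-1553), (-314), 870, 547, 276, 113, 137, 40, 96, (-53), (-287), 25, (-73), 4, 48, (-8), (-31), (-72), (-4), 84, (-317), 5, (-1), (-6), (-9), 62, 57, 1, 97, (-60), (-73), (-35), (-69), (-9), (-4), (-1), 52, (-131), (-21), 4, 5, 29]))) (.node (.leaf ([])) (.leaf ([0, 0, 0, 0, 0, 0, 0, 0, 0, 0, 0, 0, 0, 0, 0, 0, 0, 0, 0, 0, 0, 0, 0, 0, 0, 0, 0, 0, 0, 0, 0, 0, 0, 0, 0, 0, 0, 0, 0, 0, 0, 0, 0, 1])))) (.node (.node (.leaf ([])) (.leaf ([]))) (.node (.leaf ([(-3651), 30528, 53144, (-101), 18142, 30947, (-18081), 10999, (-5495), 0, 0, 0, 0, 0, 0, 0, (-20160), (-5262), 2359, (-5459), 5768, 6871, (-1632), (-730), (-47), (-495), (-504), 474, (-605), 513, (-1088), 957, 553, 1265, 592, (-536), (-676), (-708), (-817), (-23), (-72), 30, 22, 19, 1, (-2), 3, 5, (-1), (-14), 2, (-4), 0, 1, 0, (-5), (-2), 0, 2, (-8), (-1), 0, (-1), 1, 0, 1, 0, 6, (-1),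 (-1), (-4), (-2), 1, 1, (-2), 1, (-3), (-3), 0, 0, 2])) (.leaf ([635224, (-2284282), (-3930392), (-89955), (-857800), (-2404179), 597661, 438273, (-149976), 0, 0, 0, 0, 0, 0, 0, 448086, 286030, (-120451), 225396, (-116917), (-144476), (-91087), 10248, 575, 9593, 7940, (-6127), 11151, (-10335), 20080, (-20816), (-7166), (-24322), (-13264), 9922, 13324, 14918, 14957, 385, 300, (-1013), (-702), (-263), (-86), (-155), (-62), (-135), 63, 400, (-33), 98, 34, (-68), 3, 67, 79, (-11), (-119), 421, 15, 2, 12, 5, (-73), (-64), (-36), (-133), 44, 88, 70, 77, 9, 0, 23, (-65), 161, 31, 1, 3, (-48)])))))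

/-- data -/
def val0_110010 : Trie (Vec) := .node (.node (.node (.node (.leaf ([])) (.leaf ([37656, (-154972), (-259757), (-21052), (-54755), (-163518), 32851, 52445, (-18796), 0, 0, 0, 0, 0, 0, 0, 20854, 20491, (-10174), 16691, (-5549), (-5798), (-10757), 153, 19, 347, 218, (-74), 364, (-361), 774, (-809), (-149), (-782), (-421), 272, 374, 524, 504, (-11), (-4), (-74), (-35), (-30), (-7), (-7), (-4), (-8), 4, 25, (-2), 6, 0, (-4), 0, 4, 4, 0, (-7), 22, 0, 0, 0, (-1), (-4), (-4), 0, (-7), 5, 4, 4, 5, 0, 0, 0, (-4), 8, 3, 0, 0, (-2)]))) (.node (.leaf ([])) (.leaf ([(-21401), 75037, 137006, 32484, 24997, 97403, 14012, (-59300), 27447, 0, 0, 0, 0, 0, 0, 0, 40575, 4607, (-3747), 10417, (-11300), (-13392), 7064, 1532, 11, 899, 928, (-793), 1156, (-861), 2315, (-1621), (-1074), (-1863), (-893), 929, 965, 1257, 1493, 153, 276, (-91), 32, (-127), 9, 35, (-6), (-8), 2, 33, (-6), 7, (-15), (-3), 3, 4, (-1), 1, 2, (-5), (-5), 3, (-3), (-8), 3, (-4), 16, (-16), 3, (-5),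 14, 0, (-8), (-5), (-3), (-4), (-3), 18, 1, (-1), (-10)])))) (.node (.node (.leaf ([])) (.leaf ([(-412361), 1593479, 2733781, 225810, 581828, 1731017, (-295442), (-524620), 201922, 0, 0, 0, 0, 0, 0, 0, (-125617), (-164267), 71763, (-115754), 33008, 34396, 92432, (-8), (-253), (-2544), (-1111), (-48), (-2131), 2834, (-3794), 6166, (-48), 6795, 3883, (-2052), (-3288), (-4208), (-3146), 808, 746, 394, 452, (-34), 76, 169, 23, 52, (-34), (-157), 5, (-37), (-39), 27, 6, (-26), (-35), 5, 60, (-204), (-17), 6, (-10), (-16), 47, 32, 30, 27, (-27), (-56), (-7), (-39), (-19), (-13), (-14), 26, (-86), 15, 7, 1, (-1)]))) (.node (.leaf ([])) (.leaf ([(-45457), 174167, 272754, 13936, 44608, 170034, (-35819), (-73889), 24170, 0, 0, 0, 0, 0, 0, 0, (-36818), (-35397), 20446, (-32397), 9433, 9144, 20123, 21, 61, (-116), (-393), 125, (-492), 116, (-1163), 730, 302, 342, 132, (-90), (-208), (-231), (-628), (-424), (-167), 168, 41, 21, 10, 7, 4, 9, (-9), (-46), 1, (-10), 10, 6,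 (-4), 1, (-4), 1, 5, (-20), 2, (-3), 1, 2, 8, 11, 2, 11, (-8), (-7), (-6), (-5), (-2), (-2), 3, 8, (-15), (-8), (-1), (-1), 10]))))) (.node (.node (.node (.leaf ([])) (.leaf ([0, 0, 0, 0, 0, 0, 0, 0, 0, 0, 0, 0, 0, 0, 0, 0, 0, 0, 0, 0, 0, 0, 0, 0, 0, 0, 0, 0, 0, 0, 0, 0, 0, 0, 0, 0, 0, 0, 0, 0, 0, 0, 0, 1]))) (.node (.leaf ([])) (.leaf ([4803861, (-21902177), (-36462185), (-4413210), (-7980824), (-23177624), 4789555, 6956451, (-2477790), 0, 0, 0, 0, 0, 0, 0, 3475936, 2891977, (-1548438), 2422764, (-986779), (-932541), (-1451894), 28359, 947, 58958, 43737, (-46549), 66681, (-57330), 123880, (-129656), (-49591), (-161362), (-62227), 54385, 85153, 89603, 99375, (-2870), (-2508), (-3827), (-4018), (-2504), (-766), (-374), (-321), (-521), 67, 1719, (-223), 393, (-36), 6, (-18), 558, 173, 74, (-195), 760, 77, (-20), 91, (-264), 106, (-167), 14, (-647), 295, (-13), 393, 243, (-34), (-175), 227, (-57), 165, 322, 34, 47, (-173)])))) (.node (.node (.leaf ([0, 0, 0, 0,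 0, 0, 0, 0, 0, 0, 0, 0, 0, 0, 0, 0, 0, 0, 0, 0, 0, 0, 0, 0, 0, 0, 0, 0, 0, 0, 0, 0, 0, 0, 0, 0, 0, 0, 0, 0, 0, 0, 0, 1])) (.leaf ([(-207991), 835601, 1443402, 150653, 313945, 926662, (-135586), (-289801), 115541, 0, 0, 0, 0, 0, 0, 0, (-33508), (-72402), 30554, (-46024), 9492, 7815, 46412, 657, (-150), (-826), (-167), (-453), (-466), 1000, (-360), 2272, (-644), 2745, 1552, (-572), (-1195), (-1491), (-796), 807, 605, 93, 249, (-31), 52, 107, 11, 24, (-18), (-68), 4, (-13), (-30), 10, 7, (-18), (-20), 2, 36, (-115), (-15), 8, (-10), (-14), 25, 16, 16, 8, (-11), (-34), 4, (-21), (-14), (-8), (-13), 9, (-44), 20, 7, 2, (-11)]))) (.node (.leaf ([])) (.leaf ([0, 0, 0, 0, 0, 0, 0, 0, 0, 0, 0, 0, 0, 0, 0, 0, 0, 0, 0, 0, 0, 0, 0, 0, 0, 0, 0, 0, 0, 0, 0, 0, 0, 0, 0, 0, 0, 0, 0, 0, 0, 0, 0, 1])))))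

/-- data -/
def val0_1100110 : Trie (Vec) := .node (.node (.node (.leaf ([])) (.leaf ([]))) (.node (.leaf ([(-37970), 141001, 269910, 754, 75549, 165029, (-42014), 2365, 958, 0, 0, 0, 0, 0, 0, 0, (-16053), (-2731), (-4727), 2914, 4482, 7752, (-6109), (-1062), (-181), (-946), (-580), 419, (-758), 1058, (-1207), 1682, 445, 2285, 1400, (-939), (-1194), (-1360), (-1040), 270, 91, 28, 75, (-1), 6, 34, 2, 9, (-4), (-14), 3, (-2), (-14), 5, 2, (-7), (-8), 2, 15, (-48), (-6), 4, (-4), (-6), 9, (-1), 5, 4, 3, (-12), 0, (-6), (-4), (-2), (-4), 4, (-15), 3, 3, 1, (-3)])) (.leaf ([(-68277), 238100, 401606, 18563, 78514, 249268, (-49445), (-72661), 26411, 0, 0, 0, 0, 0, 0, 0, (-33140), (-31372), 14676, (-24702), 8230, 9603, 15523, (-379), 16, (-500), (-389), 229, (-648), 552, (-1161), 1291, 245, 1361, 744, (-536), (-752), (-878), (-859), (-75), 28, 86, 53, 11, 4, 10, 5, 11, (-5), (-34), 2, (-10), (-4), 5, (-1), (-4), (-6), (-1), 7, (-27), 1, (-1), (-1), 0, 4, 5, 4, 12,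 (-6), (-5), (-7), (-6), (-1), 0, 0, 5, (-12), (-2), (-1), (-1), 5])))) (.node (.node (.leaf ([])) (.leaf ([]))) (.node (.leaf ([0, 0, 0, 0, 0, 0, 0, 0, 0, 0, 0, 0, 0, 0, 0, 0, 0, 0, 0, 0, 0, 0, 0, 0, 0, 0, 0, 0, 0, 0, 0, 0, 0, 0, 0, 0, 0, 0, 0, 0, 0, 0, 0, 1])) (.leaf ([]))))

/-- data -/
def val0_1100111 : Trie (Vec) := .node (.node (.node (.leaf ([])) (.leaf ([16, 66, 99, 38, 40, 78, (-15), (-37), 13, 0, 0, 0, 0, 0, 0, 0, (-2), (-14), 9, (-9), (-1), 2, 12, (-1), 0, 0, 0, 0, 0, 0, 0, 0, 0, 0, 0, 0, 0, 0, 0, 0, 0, 0, 0, 1, 0, 0, 0, 0, 0, 0, 0, 0, 0, 0, 0, 0, 0, 0, 0, 0, 0, 0, 0, 0, 0, 0, 0, 0, 0, 0, 0, (-1)]))) (.node (.leaf ([4142, (-17969), (-30223), 7506, (-9732), (-14615), 15558, (-13618), 6913, 0, 0, 0, 0, 0, 0, 0, 20457, 5747, (-2712), 6194, (-5504), (-6988), 1288, 643, 29, 450, 457, (-446), 570, (-463), 1087, (-899), (-527), (-1096), (-512), 498, 596, 644, 771, 108, 99, (-38), (-3), (-44), (-3), 7, (-3), (-6), 2, 16, (-2), 4, (-3), (-2), 0, 3, 3, 2, (-2),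 10, (-2), 0, 0, (-1), (-1), (-2), 5, (-8), 4, 1, 4, 2, (-1), (-1), (-1), (-2), 3, 3, 0, 0, (-2)])) (.leaf ([23391, (-61344), (-103912), 9926, (-17875), (-59777), 18305, 6957, (-1412), 0, 0, 0, 0, 0, 0, 0, 18564, 10646, (-4461), 9179, (-4477), (-6105), (-2846), 488, (-4), 304, 358, (-277), 468, (-337), 845, (-735), (-306), (-805), (-427), 395, 471, 503, 599, 159, 68, (-53), (-11), (-18), 3, 3, (-2), (-6), 3, 16, (-2), 5, 1, (-3), 1, 1, 4, 1, (-4), 15, (-2), 1, 0, 0, (-2), (-2), (-1), (-8), 2, 2, 5, 3, 0, 0, (-1), (-4), 6, 4, 1, 1, (-4)])))) (.node (.node (.leaf ([(-15582), 14455, 32768, (-58682), 16893, (-4571), (-56025), 95243, (-42157), 0, 0, 0, 0, 0, 0, 0, (-80973), (-13859), 3952, (-16275), 21435, 28816, (-13803), (-3234), (-71), (-1956), (-1947), 2037, (-2484), 2021, (-4494), 3757, 2256, 4792, 2345, (-2285), (-2748), (-2899), (-3302), (-369), (-383), 89, 39, 82, (-12), (-14), 8, 17, (-5), (-45), 8, (-13), (-2), 7, (-2), (-11), (-8), (-1), 9, (-34), 1, (-1),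 (-2), 4, 1, 3, (-2), 25, (-2), (-2), (-17), (-6), 1, 5, (-2), 5, (-9), (-13), (-2), (-3), 9])) (.leaf ([0, 0, 0, 0, 0, 0, 0, 0, 0, 0, 0, 0, 0, 0, 0, 0, 0, 0, 0, 0, 0, 0, 0, 0, 0, 0, 0, 0, 0, 0, 0, 0, 0, 0, 0, 0, 0, 0, 0, 0, 0, 0, 0, 0, 0, 0, 0, 0, 0, 0, 0, 0, 0, 0, 0, 0, 0, 0, 0, 0, 0, 0, 0, 0, 0, 0, 0, 0, 0, 0, 0, 0, 1]))) (.node (.leaf ([418774, (-1441404), (-2578062), (-32762), (-606691), (-1557971), 406305, 173468, (-61399), 0, 0, 0, 0, 0, 0, 0, 252543, 136110, (-34093), 90902, (-65934), (-90814), (-18559), 8359, 807, 7747, 5106, (-4322), 7174, (-8257), 13389, (-14538), (-4571), (-18189), (-9956), 7832, 9571, 11473, 10048, (-699), (-54), (-501), (-674), 161, (-29), (-243), (-37), (-90), 41, 202, (-16), 62, 109, (-48), (-8), 67, 59, (-13), (-92), 354, 47, (-12), 23, 32, (-66), (-11), (-87), (-57), 13, 84, 31, 55, 35, 6, 19, (-36), 123, (-15), (-8), 8, (-3)])) (.leaf ([974305, (-3560855), (-6101701), (-182251), (-1338070), (-3720926), 966725, 689136, (-228035),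 0, 0, 0, 0, 0, 0, 0, 744003, 465932, (-202793), 377292, (-194732), (-238222), (-149010), 17450, 872, 16668, 12169, (-10209), 18359, (-17467), 33733, (-34684), (-11847), (-40170), (-21272), 16943, 21553, 25474, 24769, (-73), 414, (-1593), (-761), (-789), (-28), (-94), (-94), (-198), 78, 629, (-59), 158, 66, (-98), 1, 111, 90, 13, (-127), 473, (-7), 5, 6, (-23), (-59), (-69), 25, (-227), 75, 55, 165, 86, (-10), (-21), 8, (-86), 159, 69, 14, 16, (-81)]))))

/-- data -/
def val0_110100 : Trie (Vec) := .node (.node (.node (.node (.leaf ([])) (.leaf ([42178, (-180356), (-294859), (-23597), (-60874), (-184472), 43259, 55817, (-18215), 0, 0, 0, 0, 0, 0, 0, 38520, 29254, (-15988), 26257, (-10420), (-10857), (-13807), 507, 3, 565, 556, (-401), 777, (-574), 1522, (-1361), (-519), (-1446), (-630), 555, 735, 871, 1050, 123, 75, (-105), (-26), (-62), (-5), 8, (-6), (-11), 5, 40, (-3), 11, (-4), (-4), 1, 6, 4, 2, (-2), 13, (-3), 1, (-1), (-4), (-1), (-6), 5, (-15), 9, 0, 10,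 4, (-3), (-1), (-1), (-5), 6, 7, 1, 0, (-6)]))) (.node (.leaf ([])) (.leaf ([])))) (.node (.node (.leaf ([0, 0, 0, 0, 0, 0, 0, 0, 0, 0, 0, 0, 0, 0, 0, 0, 0, 0, 0, 0, 0, 0, 0, 0, 0, 0, 0, 0, 0, 0, 0, 0, 0, 0, 0, 0, 0, 0, 0, 0, 0, 0, 0, 1])) (.leaf ([]))) (.node (.leaf ([0, 0, 0, 0, 0, 0, 0, 0, 0, 0, 0, 0, 0, 0, 0, 0, 0, 0, 0, 0, 0, 0, 0, 0, 0, 0, 0, 0, 0, 0, 0, 0, 0, 0, 0, 0, 0, 0, 0, 0, 0, 0, (-1), 2, 0, 0, 0, 0, 0, 0, 0, 0, 0, 0, 0, 0, 0, 0, 1, (-1)])) (.leaf ([94504, (-409288), (-672710), (-93164), (-136139), (-431151), 75821, 155095, (-56856), 0, 0, 0, 0, 0, 0, 0, 52745, 54940, (-31297), 47008, (-15140), (-11781), (-32484), 153, (-94), 849, 451, (-275), 878, (-739), 1402, (-1768), (-235), (-2383), (-844), 801, 1082, 1454, 1294, (-429), (-271), (-30), (-33), (-153), 1, 24, (-4), (-5), (-3), 24, (-7), 4, (-1), 4, 1, 8, 1, 9, 11, (-28), (-10), 0, (-1), (-10), 15, 0, 25, (-17), 7, (-17), 15, 0, (-11), (-7), 0, 4, (-15), 13, 1, (-2), (-3)]))))) (.node (.node (.node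 (.leaf ([])) (.leaf ([(-169393), 527133, 917453, (-75275), 208259, 524810, (-208238), 27893, (-22211), 0, 0, 0, 0, 0, 0, 0, (-207097), (-83837), 32353, (-73392), 53690, 70854, 2682, (-6716), (-225), (-4782), (-4286), 3746, (-5792), 5051, (-10482), 9676, 4359, 11612, 6247, (-5246), (-6469), (-7258), (-7618), (-441), (-549), 396, 185, 183, (-3), (-2), 28, 56, (-22), (-169), 19, (-43), (-7), 28, (-3), (-32), (-28), 3, 39, (-137), 0, (-3), (-4), 6, 17, 20, 5, 69, (-10), (-19), (-46), (-25), 3, 8, (-8), 25, (-50), (-29), (-4), (-6), 29]))) (.node (.leaf ([])) (.leaf ([(-9799), 36141, 64919, 7402, 14936, 40875, (-6510), (-11842), 4962, 0, 0, 0, 0, 0, 0, 0, 394, (-1851), 259, (-566), (-105), (-52), 1203, 8, (-15), (-113), 63, (-74), 10, 109, 6, 145, (-86), 173, 117, (-64), (-45), (-160), (-7), 145, 57, (-4), 4, 4, 1, 2, 1, 1, 0, (-2), 0, 0, (-2), 0, 1, (-2), 0, 0, 1, (-3), (-1), 0, 0, 0, 0, 0, 0, 0, 0, 0, 0, 0, 0, 0, (-1), 0, 0, 1, 0, 0, (-1)])))) (.node (.node (.leaf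 ([])) (.leaf ([]))) (.node (.leaf ([0, 0, 0, 0, 0, 0, 0, 0, 0, 0, 0, 0, 0, 0, 0, 0, 0, 0, 0, 0, 0, 0, 0, 0, 0, 0, 0, 0, 0, 0, 0, 0, 0, 0, 0, 0, 0, 0, 0, 0, 0, 0, 0, 1])) (.leaf ([2498754, (-9960875), (-17062380), (-1299912), (-3782357), (-10677786), 2260604, 2669664, (-979434), 0, 0, 0, 0, 0, 0, 0, 1392534, 1132621, (-507913), 864437, (-377065), (-420993), (-494088), 21471, 2253, 31519, 19621, (-15690), 30944, (-32822), 56921, (-66635), (-17819), (-78733), (-39941), 29161, 40586, 48078, 44010, (-4301), (-2190), (-2716), (-2483), (-872), (-398), (-565), (-194), (-404), 172, 1155, (-98), 277, 131, (-145), (-16), 274, 197, (-12), (-309), 1137, 70, (-18), 46, (-13), (-168), (-172), (-94), (-372), 172, 221, 166, 212, 24, (-8), 92, (-142), 405, 80, (-5), 2, (-84)])))))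

/-- data -/
def val0_110101 : Trie (Vec) := .node (.node (.node (.node (.leaf ([])) (.leaf ([]))) (.node (.leaf ([(-34241), 121264, 198738, 10913, 36393, 122355, (-27173), (-39678), 13457, 0, 0, 0, 0, 0, 0, 0, (-23418), (-19854), 10418, (-16994), 5999, 6330, 9920, (-179), 30, (-284), (-247), 240, (-404), 277, (-811), 718, 267, 728, 315, (-294), (-433), (-470), (-567), (-137), (-32), 52, 25, 7, (-1), 5, 1, 2, (-2), (-13), 0, (-3), 0, 2, (-1), 1, 0, 0, 0, (-1), 1, (-1), 1, 2, 1, 2, 0, 3, (-2), 0, (-3), (-1), 0, 0, 1, 2, (-3), (-4), (-1), (-1), 4])) (.leaf ([])))) (.node (.node (.leaf ([])) (.leaf ([(-636), 3533, 6042, 795, 1492, 3962, (-672), (-1093), 424, 0, 0, 0, 0, 0, 0, 0, (-345), (-326), 178, (-254), 112, 92, 174, (-6), (-1), (-8), (-6), 2, (-9), 10, (-12), 21, 4, 22, 12, (-6), (-10), (-13), (-12), 8, 1, 1, 1, (-3), 0, 0, 0, 0, 0, (-1), 0, 0, 0, 0, 0, (-1), 0, 0, 0, 0, 0, 0, 0, 0, 0, 0, 1, 0, 0, 0, 0, 0, 0, 0, (-1)]))) (.node (.leaf ([25131, (-64264), (-114415),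 50644, (-35337), (-47570), 67785, (-79578), 36956, 0, 0, 0, 0, 0, 0, 0, 90925, 21494, (-8154), 23126, (-24239), (-31606), 10157, 3358, 83, 2082, 2124, (-2133), 2684, (-2156), 4873, (-4082), (-2392), (-5150), (-2507), 2406, 2930, 3090, 3572, 395, 406, (-123), (-52), (-89), 9, 12, (-10), (-20), 7, 57, (-8), 16, 1, (-9), 2, 13, 9, 0, (-10), 41, (-1), 1, 2, (-4), (-3), (-5), 2, (-27), 4, 4, 19, 8, (-1), (-5), 2, (-7), 13, 14, 2, 3, (-10)])) (.leaf ([]))))) (.node (.node (.node (.leaf ([0, 0, 0, 0, 0, 0, 0, 0, 0, 0, 0, 0, 0, 0, 0, 0, 0, 0, 0, 0, 0, 0, 0, 0, 0, 0, 0, 0, 0, 0, 0, 0, 0, 0, 0, 0, 0, 0, 0, 0, 0, 0, 0, 1])) (.leaf ([]))) (.node (.leaf ([0, 0, 0, 0, 0, 0, 0, 0, 0, 0, 0, 0, 0, 0, 0, 0, 0, 0, 0, 0, 0, 0, 0, 0, 0, 0, 0, 0, 0, 0, 0, 0, 0, 0, 0, 0, 0, 0, 0, 0, 0, 0, 0, 1])) (.leaf ([(-14492), (-18251), (-30191), (-39562), (-18099), (-29899), (-2595), 26304, (-11670), 0, 0, 0, 0, 0, 0, 0, (-15190), (-3744), 306, (-4066), 2791, 5710, (-2191), (-541), 47, (-52),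 (-397), 446, (-419), 126, (-733), 355, 367, 360, 168, (-322), (-400), (-182), (-528), (-499), (-183), 32, (-15), (-60), (-5), 7, 1, 4, (-5), (-8), (-1), (-5), (-7), 7, 0, 5, (-4), 0, 6, (-21), 0, (-2), 1, (-4), 8, 3, 13, 2, (-1), (-7), (-2), (-3), (-6), (-2), 2, 8, (-10), 5, (-2), (-5), 3])))) (.node (.node (.leaf ([])) (.leaf ([]))) (.node (.leaf ([])) (.leaf ([7874607, (-39239406), (-65088333), (-9215476), (-14724913), (-41570664), 8892832, 12316327, (-4332415), 0, 0, 0, 0, 0, 0, 0, 6706584, 5224377, (-2887842), 4477002, (-1957434), (-1787985), (-2566123), 59950, 2937, 120958, 87855, (-102387), 131220, (-114347), 246304, (-251657), (-108878), (-326847), (-116327), 109460, 169539, 178105, 199782, (-11928), (-4037), (-4606), (-6568), (-5853), (-1368), 87, (-547), (-810), (-129), 2511, (-465), 548, (-271), 306, (-54), 1209, 120, 192, 0, 216, 171, (-77), 189, (-692), 596, (-87), 253, (-1175), 440, (-395), 720, 255, (-167), (-471), 491, 129, (-302), 775, 83, 84,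 (-252)])))))

/-- data -/
def val0_110110 : Trie (Vec) := .node (.node (.node (.node (.leaf ([0, 0, 0, 0, 0, 0, 0, 0, 0, 0, 0, 0, 0, 0, 0, 0, 0, 0, 0, 0, 0, 0, 0, 0, 0, 0, 0, 0, 0, 0, 0, 0, 0, 0, 0, 0, 0, 0, 0, 0, 0, 0, 0, 1])) (.leaf ([]))) (.node (.leaf ([(-9264), 41246, 65878, 3099, 13222, 41200, (-10462), (-12259), 3680, 0, 0, 0, 0, 0, 0, 0, (-11122), (-7911), 4440, (-7358), 2967, 3163, 3581, (-156), 3, (-105), (-192), 128, (-222), 115, (-423), 310, 169, 317, 138, (-121), (-184), (-169), (-289), (-86), (-46), 34, 13, 8, 3, 2, 2, 3, (-2), (-12), 0, (-3), 1, 2, 0, (-2), (-1), 1, 1, (-7), 0, 0, 0, 0, 2, 2, 0, 2, (-2), (-2), (-2), (-2), 0, 0, 0, 2, (-4), (-1), 0, 0, 1])) (.leaf ([0, 0, 0, 0, 0, 0, 0, 0, 0, 0, 0, 0, 0, 0, 0, 0, 0, 0, 0, 0, 0, 0, 0, 0, 0, 0, 0, 0, 0, 0, 0, 0, 0, 0, 0, 0, 0, 0, 0, 0, 0, 0, 0, 0, 0, 1])))) (.node (.node (.leaf ([])) (.leaf ([0, 0, 0, 0, 0, 0, 0, 0, 0, 0, 0, 0, 0, 0, 0, 0, 0, 0, 0, 0, 0, 0, 0, 0, 0, 0, 0, 0, 0, 0, 0, 0, 0, 0, 0,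 0, 0, 0, 0, 0, 0, 0, 0, 1]))) (.node (.leaf ([])) (.leaf ([]))))) (.node (.node (.node (.leaf ([])) (.leaf ([]))) (.node (.leaf ([])) (.leaf ([])))) (.node (.node (.leaf ([])) (.leaf ([451, 3844, 5833, (-9025), 5254, (-233), (-13030), 19590, (-9088), 0, 0, 0, 0, 0, 0, 0, (-20148), (-4106), 2108, (-5189), 5562, 6810, (-2427), (-725), (-26), (-441), (-501), 453, (-592), 457, (-1078), 862, 539, 1118, 534, (-503), (-610), (-646), (-785), (-71), (-94), 31, 6, 31, 2, (-4), 3, 5, (-2), (-16), 2, (-4), 2, 2, 0, (-3), (-2), (-1), 2, (-9), 0, 0, 0, 1, 1, 3, (-3), 6, (-2), (-1), (-4), (-2), 1, 1, (-1), 2, (-3), (-2), 0, 0, 2]))) (.node (.leaf ([(-156875), 596115, 999031, 58759, 204339, 622715, (-132998), (-172689), 60788, 0, 0, 0, 0, 0, 0, 0, (-100212), (-82435), 40745, (-67543), 26164, 28904, 38560, (-1223), (-8), (-1522), (-1396), 1073, (-2044), 1621, (-3721), 3765, 1227, 4190, 2062, (-1592), (-2335), (-2491), (-2775), (-319), (-42), 236, 124, 70, 19, 27, 12, 25, (-13),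 (-84), 6, (-21), (-3), 13, (-1), (-10), (-14), (-1), 19, (-70), 1, (-1), (-1), 2, 12, 15, 2, 26, (-15), (-13), (-15), (-14), (-1), 0, (-2), 13, (-28), (-6), (-1), (-1), 9])) (.leaf ([2001, (-10970), (-18186), (-3011), (-4081), (-12023), 1769, 4309, (-1623), 0, 0, 0, 0, 0, 0, 0, 951, 1281, (-740), 1026, (-307), (-193), (-858), (-21), 3, (-1), 16, (-15), 12, (-2), 16, (-22), (-13), (-32), (-2), 1, 20, (-5), 22, 10, (-1), (-2), (-4), 0, (-1), (-2), 0, 0, 0, 1, 0, 0, 0, 0, 0, 0, 0, 0, 0, 0, 0, 0, 0, 1, (-1), 0, 0, 0, 0, 1, 0, 0, 1])))))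

/-- data -/
def val0_110111 : Trie (Vec) := .node (.node (.node (.node (.leaf ([])) (.leaf ([1527, (-9761), (-19418), (-2747), (-6459), (-12255), 2787, 1418, (-728), 0, 0, 0, 0, 0, 0, 0, (-530), (-473), 710, (-829), 59, (-45), 518, 45, 23, 90, (-10), 34, 11, (-88), 43, (-110), 23, (-128), (-93), 52, 33, 108, 23, (-79), (-21), (-4), (-3), 3, (-1), (-1), 0, (-1), 0, 1, 0, 0, 1, 0, 0, 1, 0, 0, 0, 0, 0, 0, 0, 0, 0, 0, (-1)]))) (.node (.leaf ([])) (.leaf ([0, 0, 0, 0, 0, 0, 0, 0, 0, 0, 0, 0, 0, 0, 0, 0, 0, 0, 0, 0, 0, 0, 0, 0, 0, 0, 0, 0, 0, 0, 0, 0, 0, 0, 0, 0, 0, 0, 0, 0, 0, 0, 0, 1])))) (.node (.node (.leaf ([])) (.leaf ([]))) (.node (.leaf ([6263, (-24233), (-37962), 6556, (-9909), (-18137), 18982, (-11571), 6826, 0, 0, 0, 0, 0, 0, 0, 26143, 8713, (-4606), 9628, (-7087), (-8465), 232, 795, 6, 571, 515, (-489), 682, (-558), 1330, (-1066), (-584), (-1290), (-585), 606, 677, 831, 926, 51, 105, (-42), (-3), (-60), 0, 10, (-4), (-6), 2, 19, (-3), 5, (-3), (-2), 0,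 4, 3, 2, (-2), 9, (-2), 0, 0, (-2), 0, (-2), 7, (-8), 4, (-1), 6, 2, (-2), (-2), (-1), (-2), 2, 5, 0, 0, (-2)])) (.leaf ([(-122307), 494216, 862777, 79050, 193612, 552151, (-83783), (-168924), 68136, 0, 0, 0, 0, 0, 0, 0, (-12783), (-38964), 14058, (-22175), 3434, 3506, 24852, 408, (-176), (-618), 77, (-620), (-151), 751, (-183), 1431, (-609), 1489, 1158, (-309), (-549), (-990), (-254), 608, 399, 114, 140, (-6), 31, 56, 7, 18, (-10), (-47), 2, (-9), (-13), 8, 3, (-10), (-11), 2, 23, (-73), (-7), 3, (-4), (-6), 16, 9, 10, 7, (-7), (-20), 1, (-12), (-4), (-5), (-5), 8, (-28), 6, 4, 3, (-3)]))))) (.node (.node (.node (.leaf ([])) (.leaf ([]))) (.node (.leaf ([])) (.leaf ([(-177379), (-159985), (-97368), (-723236), 4737, (-288841), (-309479), 779200, (-324969), 0, 0, 0, 0, 0, 0, 0, (-422448), (-25612), (-38691), (-31167), 101562, 169889, (-134899), (-21912), (-770), (-12004), (-11774), 9033, (-14580), 13148, (-26995), 22978, 10914, 26923, 16708, (-14138), (-15098),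 (-18221), (-18319), (-2330), (-2473), 1226, 553, 421, (-34), 112, 69, 179, (-96), (-458), 44, (-140), (-57), 113, (-17), (-51), (-116), 3, 142, (-567), 12, (-8), (-11), (-31), 113, 62, 17, 186, (-55), (-126), (-103), (-95), (-18), (-2), 17, 97, (-221), (-50), (-5), (-8), 67])))) (.node (.node (.leaf ([])) (.leaf ([13744, (-80250), (-121341), (-33903), (-18253), (-85579), (-272), 63473, (-24203), 0, 0, 0, 0, 0, 0, 0, (-5775), 12499, (-9050), 10573, 1413, 4250, (-13761), (-962), (-56), (-555), (-341), 355, (-474), 584, (-853), 846, 411, 1114, 714, (-588), (-593), (-792), (-599), 122, (-51), (-8), (-1), 13, (-5), (-4), 2, 4, 0, (-6), 2, (-3), (-2), 1, 0, (-3), (-3), 0, 4, (-8), 0, 0, (-1), 0, 0, 0, 0, 5, 1, (-2), (-4), (-2), 1, 2, (-1), 1, (-2), (-1), 0, 0, 1]))) (.node (.leaf ([])) (.leaf ([0, 0, 0, 0, 0, 0, 0, 0, 0, 0, 0, 0, 0, 0, 0, 0, 0, 0, 0, 0, 0, 0, 0, 0, 0, 0, 0, 0, 0, 0, 0, 0, 0, 0, 0, 0, 0, 0, 0, 0, 0, 0, 0, 1])))))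

/-- data -/
def val0_1110000 : Trie (Vec) := .node (.node (.node (.leaf ([])) (.leaf ([0, 0, 0, 0, 0, 0, 0, 0, 0, 0, 0, 0, 0, 0, 0, 0, 0, 0, 0, 0, 0, 0, 0, 0, 0, 0, 0, 0, 0, 0, 0, 0, 0, 0, 0, 0, 0, 0, 0, 0, 0, 0, 0, 1, 0, 0, 0, 0, 0, 0, 0, 0, 0, 0, 0, 0, 0, 0, 0, 0, 0, 0, 0, 0, 0, 0, 0, 0, 0, 0, (-1)]))) (.node (.leaf ([])) (.leaf ([53201, (-208881), (-379698), (-42254), (-88239), (-247708), 21931, 81670, (-36374), 0, 0, 0, 0, 0, 0, 0, (-25336), 4136, 2643, (-5746), 6805, 7674, (-7847), (-991), 116, (-165), (-594), 759, (-664), 86, (-1319), 320, 890, 383, (-97), (-372), (-309), (-230), (-821), (-422), (-337), 12, (-82), 81, (-16), (-50), 3, 0, 2, (-10), 3, (-4), 14, (-1), (-2), (-1), 4, (-3), (-11), 32, 7, (-3), 3, 8, (-10), 0, (-13), 10, (-2), 13, (-11), 4, 6, 6, 3, (-1), 13, (-11), (-3), (-2), 7])))) (.node (.node (.leaf ([])) (.leaf ([9628, (-38432), (-64510), (-7857), (-13155), (-41030), 6986, 13692, (-5128), 0, 0, 0, 0, 0, 0, 0, 3917, 4599, (-2329), 3563,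 (-1069), (-951), (-2701), (-21), (-1), 53, 25, (-52), 55, (-51), 97, (-123), (-34), (-168), (-48), 53, 99, 85, 96, (-2), (-14), 0, (-4), 1, 0, (-2), 0, 0, 0, 0, 0, 0, 1]))) (.node (.leaf ([])) (.leaf ([2444, 33257, 22961, 50130, (-17050), 37548, 40122, (-105567), 41982, 0, 0, 0, 0, 0, 0, 0, 41429, (-9419), 11402, (-7842), (-11212), (-18120), 23924, 2791, 160, 1993, 1141, (-1167), 1719, (-2033), 3236, (-3286), (-1357), (-4095), (-2344), 1977, 2101, 2861, 2289, (-448), 113, (-31), (-28), (-78), 11, 11, (-9), (-16), 1, 37, (-8), 12, 7, (-5), 0, 14, 7, 0, (-10), 25, 0, 1, 2, (-2), 0, (-2), 2, (-20), 1, 4, 16, 6, (-5), (-7), 1, (-4), 5, 10, 0, 0, (-6)]))))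

/-- data -/
def val0_1110001 : Trie (Vec) := .node (.node (.node (.leaf ([])) (.leaf ([1309223, (-4759552), (-8192574), (-385453), (-1741942), (-5102180), 1024833, 1268921, (-473826), 0, 0, 0, 0, 0, 0, 0, 601182, 532356, (-222599), 392432, (-154360), (-185980), (-236248), 9986, 896, 12372, 9341, (-4669), 13627, (-13765), 23684, (-28655), (-5468), (-32583), (-18750), 12443, 17116, 20154, 18293, (-586), (-1033), (-1752), (-1483), (-269), (-215), (-457), (-100), (-235), 133, 667, (-48), 166, 115, (-124), (-1), 107, 158, (-8), (-225), 827, 27, (-10), 28, 45, (-159), (-115), (-76), (-203), 103, 191, 79, 152, 33, 22, 30, (-114), 323, 3, (-14), (-7), (-42)]))) (.node (.leaf ([33070, (-121125), (-237451), 3457, (-69517), (-144173), 38943, (-11082), 2261, 0, 0, 0, 0, 0, 0, 0, 14222, (-27), 6267, (-5167), (-3995), (-7410), 7967, 1115, 188, 949, 584, (-406), 748, (-1062), 1182, (-1653), (-438), (-2271), (-1414), 947, 1175, 1360, 1019, (-288), (-90), (-26), (-75), 2, (-6),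 (-34), (-2), (-9), 4, 14, (-3), 2, 14, (-5), (-2), 7, 8, (-2), (-15), 48, 6, (-4), 4, 6, (-9), 1, (-5), (-4), (-3), 12, 0, 6, 4, 2, 4, (-4), 15, (-3), (-3), (-1), 3])) (.leaf ([(-8916), 37714, 64810, 2320, 15475, 40003, (-10720), (-6587), 2118, 0, 0, 0, 0, 0, 0, 0, (-8042), (-4764), 2030, (-3866), 2177, 2686, 1357, (-226), (-20), (-183), (-163), 112, (-213), 199, (-395), 391, 145, 463, 250, (-188), (-234), (-273), (-279), (-10), (-12), 23, 21, 8, 1, 2, 2, 4, (-1), (-10), 1, (-3), 0, 1, 0, (-3), (-2), 0, 3, (-11), 0, 0, (-1), 0, 1, 1, 1, 4, (-2), (-2), (-2), (-2), 0, 0, (-1), 1, (-4), (-1), 0, 0, 1])))) (.node (.node (.leaf ([(-124422), 492668, 859822, 70432, 193801, 544348, (-95005), (-151138), 59712, 0, 0, 0, 0, 0, 0, 0, (-30422), (-42629), 15690, (-26663), 8155, 9407, 22722, (-130), (-177), (-1035), (-255), (-162), (-608), 1143, (-1131), 2149, (-120), 2409, 1531, (-752), (-1083), (-1571), (-921), 533, 310, 120, 141, 3, 26, 54, 8, 19, (-10), (-50), 3, (-10),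 (-14), 9, 3, (-12), (-11), 3, 23, (-74), (-8), 3, (-3), (-5), 16, 9, 10, 9, (-7), (-19), (-1), (-12), (-4), (-4), (-5), 9, (-27), 4, 3, 2, (-2)])) (.leaf ([]))) (.node (.leaf ([])) (.leaf ([(-4357), 14639, 22564, (-128), 3271, 13877, (-3356), (-4008), 1128, 0, 0, 0, 0, 0, 0, 0, (-4958), (-3365), 1991, (-3177), 1248, 1337, 1536, (-51), 11, (-10), (-93), 87, (-98), 18, (-160), 88, 86, 118, 32, (-50), (-94), (-39), (-128), (-74), (-23), 8, 1, 1, 1, 1, 0, 0, (-1), (-3), 0, 0, 0, 1, 0, 0, (-1), 0, 0, (-1), 0, 0, 0, 0, 1, 1, 0, 0, 0, (-1), 0, (-1), 0, 0, 0, 1, (-1)]))))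

/-- data -/
def val0_111001 : Trie (Vec) := .node (.node (.node (.node (.leaf ([0, 0, 0, 0, 0, 0, 0, 0, 0, 0, 0, 0, 0, 0, 0, 0, 0, 0, 0, 0, 0, 0, 0, 0, 0, 0, 0, 0, 0, 0, 0, 0, 0, 0, 0, 0, 0, 0, 0, 0, 0, 0, 0, 1])) (.leaf ([0, 0, 0, 0, 0, 0, 0, 0, 0, 0, 0, 0, 0, 0, 0, 0, 0, 0, 0, 0, 0, 0, 0, 0, 0, 0, 0, 0, 0, 0, 0, 0, 0, 0, 0, 0, 0, 0, 0, 0, 0, 0, 0, 0, 0, 0, 0, 0, 0, 0, 0, 0, 0, 0, 0, 0, 0, 0, 0, 0, 0, 0, 0, 0, 0, 1]))) (.node (.leaf ([])) (.leaf ([(-36597), 149760, 250729, 19560, 52745, 157396, (-32556), (-49660), 17625, 0, 0, 0, 0, 0, 0, 0, (-21624), (-20252), 10086, (-16663), 5755, 6057, 10356, (-188), (-17), (-365), (-238), 97, (-386), 377, (-818), 830, 174, 819, 437, (-294), (-397), (-551), (-536), 10, (-1), 73, 35, 31, 7, 7, 4, 8, (-4), (-25), 2, (-6), 0, 4, 0, (-4), (-4), 0, 7, (-22), 0, 0, 0, 1, 4, 4, 0, 7, (-5), (-4), (-4), (-5), 0, 0, 0, 4, (-8), (-3), 0, 0, 2])))) (.node (.node (.leaf ([])) (.leaf ([]))) (.node (.leaf ([96074, (-344055), (-667057),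 (-22980), (-183407), (-411063), 86600, 30599, (-18745), 0, 0, 0, 0, 0, 0, 0, 736, (-2002), 16862, (-18127), (-28), (-6908), 11764, 1350, 477, 1972, 231, 61, 715, (-2176), 1267, (-3035), 61, (-3954), (-2748), 1602, 1736, 2744, 1098, (-1237), (-487), (-28), (-97), 16, (-12), (-52), (-7), (-22), 8, 27, (-2), 6, 32, (-11), (-7), 18, 10, (-4), (-22), 84, 12, (-6), 2, 10, (-17), 0, (-9), (-9), (-2), 18, (-2), 7, 3, 5, 6, (-8), 24, (-13), (-3), (-2), 8])) (.leaf ([194236, (-658100), (-1049280), (-64934), (-162402), (-654638), 117032, 268304, (-93436), 0, 0, 0, 0, 0, 0, 0, 111480, 118446, (-66649), 102273, (-27122), (-26332), (-70073), (-560), (-404), 28, 801, (-1036), 1384, (-38), 2591, (-1861), (-918), (-1319), (-108), 425, 1327, 592, 1904, 1517, 236, (-236), (-105), 49, 2, (-23), 0, (-4), 10, 47, 3, 12, (-1), (-9), 7, (-15), 1, 3, 0, 10, (-7), 6, (-3), (-7), (-5), (-11), (-12), (-12), 11, (-3), 12, 5, 8, 4, (-7), (-7), 18, 9, 8, 10, (-18)]))))) (.node (.node (.node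 (.leaf ([])) (.leaf ([(-2839), 10395, 17809, 2425, 3641, 11259, (-1822), (-3616), 1449, 0, 0, 0, 0, 0, 0, 0, (-627), (-970), 420, (-684), 188, 118, 577, (-2), (-1), (-21), 0, 1, (-8), 20, (-12), 25, (-7), 60, 26, (-22), (-29), (-36), (-17), 24, 15, (-3), 4, 0, 0, 2, 0, 0, 0, 0, 0, 0, (-1)]))) (.node (.leaf ([])) (.leaf ([60832, (-211312), (-353968), (-15828), (-67944), (-219229), 44787, 64109, (-22883), 0, 0, 0, 0, 0, 0, 0, 33018, 29549, (-14266), 24002, (-8300), (-9452), (-14403), 428, (-27), 469, 418, (-265), 655, (-505), 1151, (-1206), (-284), (-1291), (-675), 528, 725, 823, 866, 94, (-7), (-81), (-47), (-12), (-2), (-10), (-4), (-9), 4, 30, (-2), 8, 4, (-4), 1, 3, 5, 1, (-6), 24, (-1), 1, 1, 0, (-3), (-4), (-3), (-10), 4, 4, 7, 5, 1, (-1), 0, (-4), 10, 2, 1, 1, (-5)])))) (.node (.node (.leaf ([])) (.leaf ([(-38104), 140764, 235252, 9036, 47288, 145888, (-32269), (-39341), 13604, 0, 0, 0, 0, 0, 0, 0, (-25550), (-20445), 10006, (-16904), 6519, 7584, 9240,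 (-378), 4, (-349), (-383), 265, (-537), 389, (-962), 930, 316, 983, 520, (-391), (-567), (-588), (-699), (-129), (-35), 71, 37, 21, 6, 10, 4, 8, (-4), (-25), 2, (-7), (-1), 4, 0, (-3), (-5), (-1), 7, (-26), 0, 0, (-1), (-1), 4, 4, 0, 8, (-5), (-5), (-4), (-5), (-1), 0, 0, 4, (-10), 0, 0, 0, 2]))) (.node (.leaf ([])) (.leaf ([(-6594299), 34569278, 57391815, 8530979, 13317079, 36734793, (-8052479), (-10421778), 3637269, 0, 0, 0, 0, 0, 0, 0, (-6189580), (-4560036), 2532264, (-3938796), 1828170, 1672464, 2155934, (-64929), (-4243), (-115107), (-88147), 103794, (-125905), 109327, (-234183), 235201, 109458, 314500, 110301, (-105839), (-163768), (-167400), (-191831), 11319, 2402, 3203, 5897, 4933, 1254, (-43), 550, 734, 176, (-2120), 448, (-496), 144, (-309), 112, (-1228), (-115), (-177), 38, (-197), (-242), 102, (-223), 571, (-561), (-12), (-152), 980, (-352), 330, (-673), (-251), 132, 471, (-543), (-143), 336, (-603), (-25), (-82), 115])))))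

/-- data -/
def val0_111010 : Trie (Vec) := .node (.node (.node (.node (.leaf ([])) (.leaf ([0, 0, 0, 0, 0, 0, 0, 0, 0, 0, 0, 0, 0, 0, 0, 0, 0, 0, 0, 0, 0, 0, 0, 0, 0, 0, 0, 0, 0, 0, 0, 0, 0, 0, 0, 0, 0, 0, 0, 0, 0, 0, 0, 1]))) (.node (.leaf ([0, 0, 0, 0, 0, 0, 0, 0, 0, 0, 0, 0, 0, 0, 0, 0, 0, 0, 0, 0, 0, 0, 0, 0, 0, 0, 0, 0, 0, 0, 0, 0, 0, 0, 0, 0, 0, 0, 0, 0, 0, 0, 0, 1])) (.leaf ([])))) (.node (.node (.leaf ([])) (.leaf ([0, 0, 0, 0, 0, 0, 0, 0, 0, 0, 0, 0, 0, 0, 0, 0, 0, 0, 0, 0, 0, 0, 0, 0, 0, 0, 0, 0, 0, 0, 0, 0, 0, 0, 0, 0, 0, 0, 0, 0, 0, 0, 0, 0, 0, 0, 0, 0, 0, 0, 0, 0, 0, 0, 0, 0, 0, 0, 0, 0, 0, 0, 0, 0, 0, 0, 0, 0, 0, 0, 0, 1]))) (.node (.leaf ([])) (.leaf ([(-10322), 33807, 59998, 13417, 10070, 40630, 3006, (-26303), 11404, 0, 0, 0, 0, 0, 0, 0, 13119, 84, (-488), 2159, (-3672), (-4581), 3519, 587, 12, 246, 400, (-321), 417, (-256), 738, (-487), (-407), (-658), (-317), 312, 361, 354, 527, 86, 97, (-23), (-11), (-31), (-2), 5, (-3), (-4), 1, 13, (-2),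 4, (-3), (-1), 0, 4, 1, 0, (-2), 8, 0, 0, 0, (-1), 0, (-1), 3, (-4), 2, 1, 4, 2, (-1), (-1), 1, (-1), 3, 3, 0, 0, (-2)]))))) (.node (.node (.node (.leaf ([])) (.leaf ([]))) (.node (.leaf ([])) (.leaf ([0, 0, 0, 0, 0, 0, 0, 0, 0, 0, 0, 0, 0, 0, 0, 0, 0, 0, 0, 0, 0, 0, 0, 0, 0, 0, 0, 0, 0, 0, 0, 0, 0, 0, 0, 0, 0, 0, 0, 0, 0, 0, 0, 1])))) (.node (.node (.leaf ([0, 0, 0, 0, 0, 0, 0, 0, 0, 0, 0, 0, 0, 0, 0, 0, 0, 0, 0, 0, 0, 0, 0, 0, 0, 0, 0, 0, 0, 0, 0, 0, 0, 0, 0, 0, 0, 0, 0, 0, 0, 0, 0, 1])) (.leaf ([]))) (.node (.leaf ([(-6263), 24233, 37962, (-6556), 9909, 18137, (-18982), 11571, (-6826), 0, 0, 0, 0, 0, 0, 0, (-26143), (-8713), 4606, (-9628), 7087, 8465, (-232), (-795), (-6), (-571), (-515), 489, (-682), 558, (-1330), 1066, 584, 1290, 585, (-606), (-677), (-831), (-926), (-51), (-105), 42, 3, 61, 0, (-10), 4, 6, (-2), (-19), 3, (-5), 3, 2, 0, (-4), (-3), (-2), 2, (-9), 2, 0, 0, 2, 0, 2, (-7), 8, (-4), 1, (-6), (-2), 2, 2, 1, 2, (-2), (-5), 0, 0, 2])) (.leaf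 ([])))))

/-- data -/
def val0_111011 : Trie (Vec) := .node (.node (.node (.node (.leaf ([0, 0, 0, 0, 0, 0, 0, 0, 0, 0, 0, 0, 0, 0, 0, 0, 0, 0, 0, 0, 0, 0, 0, 0, 0, 0, 0, 0, 0, 0, 0, 0, 0, 0, 0, 0, 0, 0, 0, 0, 0, 0, 0, 1])) (.leaf ([]))) (.node (.leaf ([135594, (-533189), (-930654), (-79073), (-207860), (-590973), 97525, 171215, (-68285), 0, 0, 0, 0, 0, 0, 0, 25054, 44637, (-16252), 26888, (-6598), (-7569), (-25625), (-68), 176, 951, 87, 358, 460, (-1067), 794, (-2030), 347, (-2206), (-1478), 641, 946, 1471, 702, (-607), (-378), (-115), (-151), 3, (-26), (-56), (-8), (-19), 9, 49, (-3), 10, 16, (-8), (-3), 12, 11, (-2), (-23), 73, 8, (-3), 4, 5, (-15), (-8), (-11), (-9), 7, 19, 1, 12, 4, 4, 5, (-8), 27, (-4), (-3), (-2), 2])) (.leaf ([5829885, (-23968654), (-40244646), (-3405029), (-8695146), (-25142686), 5704249, 6574353, (-2282064), 0, 0, 0, 0, 0, 0, 0, 4325447, 3230027, (-1616823), 2683066, (-1179849), (-1256577), (-1417105), 61401, 2254, 79509, 60937, (-60382),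 91379, (-80398), 171445, (-173359), (-66258), (-206298), (-91586), 77787, 111316, 121194, 130342, 2844, 1329, (-6809), (-5162), (-2301), (-656), (-703), (-471), (-859), 276, 2782, (-249), 705, 149, (-273), 5, 661, 342, 20, (-475), 1925, 103, 31, 74, (-206), (-161), (-339), (-228), (-999), 411, 239, 601, 399, 37, (-140), 202, (-267), 641, 352, 82, 112, (-357)])))) (.node (.node (.leaf ([])) (.leaf ([]))) (.node (.leaf ([])) (.leaf ([(-14158), 11710, 28326, (-57486), 16457, (-6829), (-54929), 95193, (-42020), 0, 0, 0, 0, 0, 0, 0, (-79512), (-13100), 3599, (-15623), 21110, 28335, (-13987), (-3207), (-75), (-1940), (-1930), 2003, (-2452), 2004, (-4432), 3710, 2222, 4749, 2325, (-2263), (-2710), (-2872), (-3260), (-343), (-374), 88, 42, 83, (-10), (-13), 8, 17, (-5), (-45), 8, (-13), (-2), 7, (-2), (-11), (-8), (-1), 9, (-34), 1, (-1), (-2), 4, 1, 2, (-2), 25, (-2), (-2), (-17), (-6), 1, 5, (-2), 5, (-9), (-13), (-2), (-3), 9]))))) (.node (.node (.node (.leaf ([]))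 (.leaf ([(-1329), 4545, 7719, 466, 1563, 4697, (-1139), (-1028), 346, 0, 0, 0, 0, 0, 0, 0, (-892), (-622), 289, (-486), 232, 271, 245, (-9), 0, (-17), (-11), 18, (-18), 17, (-35), 35, 17, 46, 18, (-18), (-27), (-26), (-28), (-5), 0, 0, 0, 1, 0, 0, 0, 0, 0, 0, 0, 0, 0, 0, 0, 0, 0, 0, 0, 0, 0, 0, 0, 0, 0, 0, 0, 0, 0, 0, 0, 0, (-1)]))) (.node (.leaf ([])) (.leaf ([4354979, (-20656468), (-33543082), (-4405248), (-7127176), (-21242766), 4908897, 6455251, (-2149553), 0, 0, 0, 0, 0, 0, 0, 4504770, 3276572, (-1887332), 2943216, (-1271950), (-1203758), (-1568481), 42308, (-2722), 64176, 59898, (-75303), 86887, (-60114), 162860, (-145337), (-78652), (-184020), (-59256), 65044, 103918, 97600, 128407, 12115, 4996, (-3234), (-2504), (-3046), (-348), 699, (-286), (-350), (-137), 1475, (-250), 366, (-313), 143, 36, 516, 6, 136, 145, (-407), (-27), 75, 46, (-482), 443, (-54), 93, (-735), 224, (-397), 607, 95, (-109), (-328), 204, 48, (-294), 579, 137, 153, (-348)])))) (.node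 (.node (.leaf ([0, 0, 0, 0, 0, 0, 0, 0, 0, 0, 0, 0, 0, 0, 0, 0, 0, 0, 0, 0, 0, 0, 0, 0, 0, 0, 0, 0, 0, 0, 0, 0, 0, 0, 0, 0, 0, 0, 0, 0, 0, 0, 0, 1])) (.leaf ([(-9269), 46719, 75561, 10946, 15487, 48835, (-8502), (-21246), 7549, 0, 0, 0, 0, 0, 0, 0, (-5605), (-7070), 4168, (-6007), 1570, 1141, 4639, 134, 6, (-23), 3, 10, (-34), 17, (-132), 118, 32, 34, (-13), 26, (-29), (-27), (-66), (-40), (-10), 21, (-5), 10, 3, 2, 0, 0, (-1), (-3), 0, 0, 2, 1, 0, 1, 0, 0, 0, 0, 0, 0, 1, 0, 1, 1, (-2), 0, (-1), 0, 0, 0, 0, 0, 1, 1]))) (.node (.leaf ([])) (.leaf ([132891, (-496857), (-880685), (-41106), (-205529), (-548509), 113940, 105208, (-41871), 0, 0, 0, 0, 0, 0, 0, 52467, 41774, (-12569), 25131, (-13574), (-18681), (-13758), 1344, 242, 1749, 914, (-504), 1480, (-1937), 2472, (-3514), (-603), (-4244), (-2595), 1625, 2162, 2663, 2026, (-515), (-247), (-125), (-151), (-68), (-35), (-69), (-9), (-26), 13, 68, (-6), 12, 20, (-15), (-7), 18, 16, (-4), (-33), 111, 12, (-5), 4,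 10, (-25), (-12), 1, (-9), 10, 26, 2, 16, 7, 6, 7, (-12), 36, (-11), (-5), (-3), 7])))))

/-- data -/
def val0_111100 : Trie (Vec) := .node (.node (.node (.node (.leaf ([])) (.leaf ([]))) (.node (.leaf ([])) (.leaf ([0, 0, 0, 0, 0, 0, 0, 0, 0, 0, 0, 0, 0, 0, 0, 0, 0, 0, 0, 0, 0, 0, 0, 0, 0, 0, 0, 0, 0, 0, 0, 0, 0, 0, 0, 0, 0, 0, 0, 0, 0, 0, 0, 1])))) (.node (.node (.leaf ([])) (.leaf ([4024, (-31792), (-56863), (-2157), (-19328), (-33631), 17085, (-8670), 4306, 0, 0, 0, 0, 0, 0, 0, 16923, 4051, (-1512), 4125, (-4959), (-5865), 1836, 659, 50, 487, 428, (-386), 528, (-502), 968, (-903), (-458), (-1183), (-569), 495, 602, 694, 720, (-50), 46, (-26), (-22), (-26), (-1), 2, (-3), (-5), 1, 14, (-2), 4, 0, (-1), 0, 5, 2, 0, (-2), 8, 1, 0, 1, (-1), 0, (-1), 2, (-6), 1, 1, 4, 2, (-1), (-1), 2, (-1), 3, 3, 0, 0, (-2)]))) (.node (.leaf ([])) (.leaf ([(-21137), (-125112), (-331870), (-120852), (-163557), (-246851), (-5606), 19326, (-26362), 0, 0, 0, 0, 0, 0, 0, (-129296),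 (-75416), 53953, (-86351), 29628, 34822, 34011, (-1464), 760, 378, (-1386), 2185, (-2083), (-504), (-4299), 1100, 2416, (-175), (-772), (-497), (-959), 12, (-2429), (-2698), (-1133), 218, (-127), (-61), (-40), (-112), 10, 0, 3, (-67), (-3), (-26), 44, 6, (-14), 12, 10, 0, (-21), 62, 19, (-23), 9, 25, (-16), 15, 26, 31, (-9), 21, (-30), 5, 5, 13, 4, 6, 6, (-33), (-19), (-19), 46]))))) (.node (.node (.node (.leaf ([0, 0, 0, 0, 0, 0, 0, 0, 0, 0, 0, 0, 0, 0, 0, 0, 0, 0, 0, 0, 0, 0, 0, 0, 0, 0, 0, 0, 0, 0, 0, 0, 0, 0, 0, 0, 0, 0, 0, 0, 0, 0, 0, 1])) (.leaf ([0, 0, 0, 0, 0, 0, 0, 0, 0, 0, 0, 0, 0, 0, 0, 0, 0, 0, 0, 0, 0, 0, 0, 0, 0, 0, 0, 0, 0, 0, 0, 0, 0, 0, 0, 0, 0, 0, 0, 0, 0, 0, 0, 0, 0, 0, 0, 0, 0, 0, 0, 1]))) (.node (.leaf ([12127, (-49518), (-87413), (-11318), (-20206), (-55748), 8672, 17157, (-6997), 0, 0, 0, 0, 0, 0, 0, 368, 3188, (-977), 1533, (-158), (-92), (-2139), (-38), 18, 115, (-61), 60, (-4), (-114), 3, (-171), 76, (-204), (-121), 62, 68, 164, 21,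 (-137), (-61), 3, (-4), (-3), (-1), (-2), (-1), (-1), 0, 2, 0, 0, 2, 0, (-1), 2, 0, 0, (-1), 3, 1, 0, 0, 0, 0, 0, 0, 0, 0, 0, 0, 0, 0, 0, 1, 0, 0, (-1), 0, 0, 1])) (.leaf ([(-14380), 53570, 92004, 2761, 20161, 56510, (-13498), (-12682), 4351, 0, 0, 0, 0, 0, 0, 0, (-9192), (-6697), 2845, (-5336), 2404, 2949, 2524, (-172), (-21), (-205), (-151), 75, (-210), 224, (-436), 443, 114, 475, 270, (-187), (-230), (-308), (-287), 0, (-9), 33, 11, 9, 1, 2, 2, 4, (-2), (-13), 0, (-4), 0, 2, 0, (-2), (-2), 0, 2, (-10), 0, 0, 0, 0, 2, 2, 0, 4, (-2), (-2), (-3), (-2), 0, (-1), 0, 2, (-4), 0, 0, 0, 2])))) (.node (.node (.leaf ([])) (.leaf ([44417, (-166720), (-278387), (-14727), (-55573), (-174105), 35252, 51945, (-18544), 0, 0, 0, 0, 0, 0, 0, 25624, 23329, (-11587), 18988, (-6543), (-7323), (-11663), 286, (-10), 325, 340, (-193), 501, (-364), 880, (-914), (-242), (-930), (-503), 351, 525, 567, 650, 99, 10, (-76), (-35), (-29), (-6), (-10), (-4), (-8), 4, 27, (-2), 7, 1, (-4),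 0, 3, 5, 1, (-7), 26, 0, 0, 1, 1, (-4), (-4), 2, (-8), 5, 5, 4, 5, 1, 0, 0, (-4), 10, 0, 0, 0, (-2)]))) (.node (.leaf ([])) (.leaf ([439250, (-2148147), (-3446060), (-618644), (-675560), (-2253621), 340872, 990967, (-362892), 0, 0, 0, 0, 0, 0, 0, 230372, 315372, (-195100), 269924, (-66890), (-39465), (-217422), (-5354), (-740), 416, (-124), (-1593), 1543, 205, 2941, (-3775), (-1185), (-3899), 1091, (-325), 2385, 1192, 3120, 382, (-676), (-44), (-129), (-14), (-74), 56, (-12), 21, (-28), 33, (-3), 3, (-45), 38, 1, 24, (-31), 12, 46, (-178), (-6), 7, (-1), (-51), 63, (-2), (-10), (-10), 18, (-61), 16, (-13), (-14), (-26), 23, 29, (-67), 28, 12, 15, (-19)])))))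

/-- data -/
def val0_111101 : Trie (Vec) := .node (.node (.node (.node (.leaf ([])) (.leaf ([]))) (.node (.leaf ([])) (.leaf ([])))) (.node (.node (.leaf ([])) (.leaf ([(-54702), 210077, 382219, 41127, 88069, 248964, (-21705), (-82469), 36832, 0, 0, 0, 0, 0, 0, 0, 26286, (-4037), (-2836), 6030, (-7152), (-7954), 7918, 1013, (-112), 171, 626, (-802), 690, (-94), 1371, (-346), (-938), (-414), 100, 380, 334, 229, 859, 444, 353, (-14), 82, (-80), 16, 50, (-3), 0, (-2), 10, (-3), 4, (-14), 1, 2, 1, (-4), 3, 11, (-32), (-7), 3, (-3), (-8), 10, 0, 13, (-10), 2, (-13), 11, (-4), (-6), (-6), (-3), 1, (-13), 11, 3, 2, (-7)]))) (.node (.leaf ([])) (.leaf ([]))))) (.node (.node (.node (.leaf ([])) (.leaf ([]))) (.node (.leaf ([])) (.leaf ([13491, (-66881), (-120180), (-15068), (-30762), (-78236), 10897, 23508, (-9733), 0, 0, 0, 0, 0, 0, 0, (-2647), 2841, (-294), 448, 571, 587, (-2421), (-147), 64, 95, (-79), 160, (-67), (-119), (-64), (-170), 146, (-137), (-131), (-6),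 (-15), 97, (-64), (-134), (-61), (-21), (-11), (-2), (-5), (-6), (-2), (-4), 2, 9, 0, 3, 2, (-2), (-1), 3, 2, 0, (-3), 12, 1, (-1), 0, 1, (-3), (-2), (-1), (-2), 3, 3, 0, 2, 0, 1, 0, (-2), 4, (-2), (-1), (-1), 1])))) (.node (.node (.leaf ([0, 0, 0, 0, 0, 0, 0, 0, 0, 0, 0, 0, 0, 0, 0, 0, 0, 0, 0, 0, 0, 0, 0, 0, 0, 0, 0, 0, 0, 0, 0, 0, 0, 0, 0, 0, 0, 0, 0, 0, 0, 0, 0, 1])) (.leaf ([156875, (-596115), (-999031), (-58759), (-204339), (-622715), 132998, 172689, (-60788), 0, 0, 0, 0, 0, 0, 0, 100212, 82435, (-40745), 67543, (-26164), (-28904), (-38560), 1223, 8, 1522, 1396, (-1073), 2044, (-1621), 3721, (-3765), (-1227), (-4190), (-2062), 1592, 2335, 2491, 2775, 319, 42, (-236), (-124), (-69), (-19), (-27), (-12), (-25), 13, 84, (-6), 21, 3, (-13), 1, 10, 14, 1, (-19), 70, (-1), 1, 1, (-2), (-12), (-15), (-2), (-26), 15, 13, 15, 14, 1, 0, 2, (-13), 28, 6, 1, 1, (-9)]))) (.node (.leaf ([0, 0, 0, 0, 0, 0, 0, 0, 0, 0, 0, 0, 0, 0, 0, 0, 0, 0, 0, 0, 0, 0, 0, 0, 0, 0, 0,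 0, 0, 0, 0, 0, 0, 0, 0, 0, 0, 0, 0, 0, 0, 0, 0, 1])) (.leaf ([53761, (-215852), (-364085), (-44191), (-71991), (-236223), 26504, 100648, (-39457), 0, 0, 0, 0, 0, 0, 0, (-595), 21535, (-10651), 14769, 248, 2001, (-17841), (-772), (-11), (-163), (-346), 525, (-291), 150, (-492), 2, 542, 402, 120, (-335), (-300), (-178), (-378), (-126), (-142), (-58), (-47), 29, (-7), (-11), (-3), (-4), 2, 15, 0, 4, 1, 0, 2, 0, 4, 0, (-5), 11, 0, 0, 1, (-1), (-2), (-5), (-10), (-5), 3, 5, 0, 5, (-1), 1, 1, (-3), 7, 3, 0, (-1), (-3)])))))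

/-- data -/
def val0_111110 : Trie (Vec) := .node (.node (.node (.node (.leaf ([])) (.leaf ([969007, (-3692196), (-6329919), (-434596), (-1373185), (-3942825), 833785, 995508, (-367342), 0, 0, 0, 0, 0, 0, 0, 507726, 421865, (-186258), 317835, (-135050), (-152956), (-185114), 7363, 634, 11648, 6389, (-5427), 11054, (-12034), 20524, (-24591), (-6140), (-28336), (-14770), 10640, 14834, 17944, 15745, (-1659), (-931), (-947), (-891), (-339), (-107), (-215), (-49), (-128), 55, 389, (-29), 79, 46, (-48), 4, 77, 57, (-12), (-100), 366, 28, (-2), 10, (-15), (-59), (-61), (-20), (-128), 46, 67, 53, 61, 13, 4, 27, (-45), 132, 42, 6, 1, (-42)]))) (.node (.leaf ([(-76693), 322638, 615823, 63974, 168372, 394000, (-58419), (-75968), 37677, 0, 0, 0, 0, 0, 0, 0, 29935, 5293, (-14607), 20968, (-7527), (-5404), (-3079), 240, (-407), (-979), 578, (-705), 374, 1110, 719, 1160, (-828), 1737, 1420, (-500), (-549), (-1245), 282, 1264, 610, (-50), 72, (-54), 18, 57, 1, 8, (-3), 7,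 (-3), 5, (-29), 5, 8, (-12), (-1), 5, 13, (-54), (-14), 7, (-1), (-10), 13, (-4), 8, (-8), 5, (-12), 13, 0, (-4), (-7), (-6), 1, (-12), 19, 4, 3, (-14)])) (.leaf ([])))) (.node (.node (.leaf ([])) (.leaf ([]))) (.node (.leaf ([])) (.leaf ([]))))) (.node (.node (.node (.leaf ([])) (.leaf ([]))) (.node (.leaf ([0, 0, 0, 0, 0, 0, 0, 0, 0, 0, 0, 0, 0, 0, 0, 0, 0, 0, 0, 0, 0, 0, 0, 0, 0, 0, 0, 0, 0, 0, 0, 0, 0, 0, 0, 0, 0, 0, 0, 0, 0, 0, 0, 0, 0, 0, 0, 0, 0, 1])) (.leaf ([220321, (-880522), (-1571024), (-148232), (-364430), (-1009394), 135672, 304271, (-128516), 0, 0, 0, 0, 0, 0, 0, (-24712), 46366, (-7935), 11763, 6845, 6360, (-35572), (-1575), 444, 804, (-1055), 1896, (-706), (-1106), (-1440), (-1728), 1998, (-1498), (-1846), (-3), 286, 1224, (-818), (-1556), (-952), (-131), (-260), 100, (-59), (-134), (-8), (-27), 16, 58, 0, 8, 38, (-15), (-8), 16, 20, (-9), (-48), 147, 21, (-8), 8, 19, (-37), (-14), (-30), 3, 7, 45, (-16), 22, 13, 14, 11, (-14), 55, (-24), (-8),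 (-7), 14])))) (.node (.node (.leaf ([])) (.leaf ([(-2349), 13346, 24024, 3270, 6671, 15386, (-3203), (-2991), 1166, 0, 0, 0, 0, 0, 0, 0, (-980), (-722), 128, (-331), 330, 411, 195, (-28), (-15), (-59), (-16), 26, (-34), 61, (-73), 107, 28, 125, 60, (-43), (-58), (-71), (-54), 12, 3, 3, 2, (-2), 1, 0, 0, 1, 0, (-1), 0, (-1), 0, 0, 0, (-1), 0, 0, 0, (-1), 0, 0, 0, 0, 0, 0, 1, 2]))) (.node (.leaf ([])) (.leaf ([(-2001), 10970, 18186, 3011, 4081, 12023, (-1769), (-4309), 1623, 0, 0, 0, 0, 0, 0, 0, (-951), (-1281), 740, (-1026), 307, 193, 858, 21, (-3), 1, (-16), 15, (-12), 2, (-16), 22, 13, 32, 2, (-1), (-20), 5, (-22), (-10), 1, 2, 4, 1, 1, 2, 0, 0, 0, (-1), 0, 0, 0, 0, 0, 0, 0, 0, 0, 0, 0, 0, 0, (-1), 1, 0, 0, 0, 0, (-1), 0, 0, (-1)])))))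

/-- data -/
def val0_111111 : Trie (Vec) := .node (.node (.node (.node (.leaf ([])) (.leaf ([]))) (.node (.leaf ([])) (.leaf ([0, 0, 0, 0, 0, 0, 0, 0, 0, 0, 0, 0, 0, 0, 0, 0, 0, 0, 0, 0, 0, 0, 0, 0, 0, 0, 0, 0, 0, 0, 0, 0, 0, 0, 0, 0, 0, 0, 0, 0, 0, 0, 0, 1])))) (.node (.node (.leaf ([0, 0, 0, 0, 0, 0, 0, 0, 0, 0, 0, 0, 0, 0, 0, 0, 0, 0, 0, 0, 0, 0, 0, 0, 0, 0, 0, 0, 0, 0, 0, 0, 0, 0, 0, 0, 0, 0, 0, 0, 0, 0, 0, 1])) (.leaf ([231482, (-810388), (-1260550), (-182435), (-158517), (-825228), 52696, 502263, (-189987), 0, 0, 0, 0, 0, 0, 0, 19208, 133773, (-84250), 111774, (-2517), 12741, (-115073), (-5699), (-868), (-2959), (-2102), 2098, (-2077), 3175, (-4011), 3606, 2697, 5464, 3441, (-2920), (-2553), (-3399), (-2709), 683, (-549), (-15), (-77), 102, 16, (-19), 14, 26, (-8), (-9), 12, (-6), (-3), 13, 6, (-34), (-15), 4, 22, (-84), (-13), 9, (-3), (-9), 16, (-6), (-3), 25, (-1), (-18), 4, (-6), 4, 2, (-1), 8, (-12), 3, 9, 5, (-17)]))) (.node (.leaf ([])) (.leaf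 ([(-57655), 160309, 277518, 4117, 48556, 168235, (-30070), (-47596), 18656, 0, 0, 0, 0, 0, 0, 0, (-14437), (-17446), 6203, (-11480), 2946, 4280, 8623, (-82), 58, (-275), 3, 91, (-248), 318, (-450), 712, (-11), 689, 451, (-300), (-491), (-567), (-353), 5, 74, 4, 34, (-54), (-13), 12, (-1), 1, 0, (-2), (-1), (-1), (-11), 2, (-2), 3, (-2), 2, 3, (-9), 0, (-2), (-1), (-2), 2, 0, 11, 1, 5, (-3), (-2), (-2), (-4), 0, (-1), 1, (-6), 0, (-3), (-2), 5]))))) (.node (.node (.node (.leaf ([])) (.leaf ([0, 0, 0, 0, 0, 0, 0, 0, 0, 0, 0, 0, 0, 0, 0, 0, 0, 0, 0, 0, 0, 0, 0, 0, 0, 0, 0, 0, 0, 0, 0, 0, 0, 0, 0, 0, 0, 0, 0, 0, 0, 0, 0, 1, 0, 0, 0, 0, 0, 0, 0, 0, 0, 0, 0, 0, 0, 0, 0, 0, 0, 0, 0, 0, 0, (-1)]))) (.node (.leaf ([])) (.leaf ([])))) (.node (.node (.leaf ([])) (.leaf ([]))) (.node (.leaf ([0, 0, 0, 0, 0, 0, 0, 0, 0, 0, 0, 0, 0, 0, 0, 0, 0, 0, 0, 0, 0, 0, 0, 0, 0, 0, 0, 0, 0, 0, 0, 0, 0, 0, 0, 0, 0, 0, 0, 0, 0, 0, 0, 1])) (.leaf ([155498, (-540057), (-923462), (-61379),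 (-177832), (-583476), 80692, 222105, (-86312), 0, 0, 0, 0, 0, 0, 0, 12588, 56239, (-23609), 38036, (-1583), (-1777), (-39521), (-1077), 31, 111, (-555), 1308, (-284), (-226), (-228), (-731), 1281, 172, (-497), (-237), (-325), 370, (-440), (-283), (-321), (-235), (-93), 0, (-22), (-45), (-10), (-23), 17, 73, (-1), 19, 9, (-17), 1, 5, 15, (-1), (-24), 93, (-2), 0, (-3), 5, (-22), (-17), (-11), (-19), 18, 21, 4, 15, 1, 6, (-6), (-15), 36, (-7), 0, (-3), (-5)])))))

/-- data -/
def val0 : Trie (Vec) := .node (.node (.node (.node (.node (.node (val0_000000) (val0_000001)) (.node (val0_000010) (val0_000011))) (.node (.node (val0_000100) (val0_000101)) (.node (val0_000110) (val0_000111)))) (.node (.node (.node (val0_001000) (val0_001001)) (.node (val0_001010) (.node (val0_0010110) (val0_0010111)))) (.node (.node (val0_001100) (val0_001101)) (.node (.node (val0_0011100) (val0_0011101)) (val0_001111))))) (.node (.node (.node (.node (val0_010000) (.node (val0_0100010)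 (val0_0100011))) (.node (val0_010010) (val0_010011))) (.node (.node (val0_010100) (val0_010101)) (.node (val0_010110) (val0_010111)))) (.node (.node (.node (val0_011000) (val0_011001)) (.node (val0_011010) (val0_011011))) (.node (.node (val0_011100) (.node (val0_0111010) (val0_0111011))) (.node (val0_011110) (val0_011111)))))) (.node (.node (.node (.node (.node (val0_100000) (val0_100001)) (.node (.node (val0_1000100) (val0_1000101)) (val0_100011))) (.node (.node (val0_100100) (val0_100101)) (.node (val0_100110) (val0_100111)))) (.node (.node (.node (val0_101000) (val0_101001)) (.node (val0_101010) (val0_101011))) (.node (.node (val0_101100) (val0_101101)) (.node (val0_101110) (val0_101111))))) (.node (.node (.node (.node (val0_110000) (val0_110001)) (.node (val0_110010) (.node (val0_1100110) (val0_1100111)))) (.node (.node (val0_110100) (val0_110101)) (.node (val0_110110) (val0_110111)))) (.node (.node (.node (.node (val0_1110000) (val0_1110001)) (val0_111001))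 (.node (val0_111010) (val0_111011))) (.node (.node (val0_111100) (val0_111101)) (.node (val0_111110) (val0_111111))))))

/-- data -/
def rank0_000 : Trie (ℕ) := .node (.node (.node (.node (.node (.node (.node (.leaf 0) (.leaf 0)) (.node (.leaf 252) (.leaf 70))) (.node (.node (.leaf 0) (.leaf 57)) (.node (.leaf 0) (.leaf 184)))) (.node (.node (.node (.leaf 0) (.leaf 414)) (.node (.leaf 174) (.leaf 169))) (.node (.node (.leaf 317) (.leaf 65)) (.node (.leaf 37) (.leaf 204))))) (.node (.node (.node (.node (.leaf 5) (.leaf 0)) (.node (.leaf 0) (.leaf 0))) (.node (.node (.leaf 0) (.leaf 62)) (.node (.leaf 338) (.leaf 368)))) (.node (.node (.node (.leaf 0) (.leaf 0)) (.node (.leaf 0) (.leaf 0))) (.node (.node (.leaf 21) (.leaf 163)) (.node (.leaf 0) (.leaf 451)))))) (.node (.node (.node (.node (.node (.leaf 0) (.leaf 46)) (.node (.leaf 0) (.leaf 0))) (.node (.node (.leaf 0) (.leaf 380)) (.node (.leaf 0) (.leaf 0)))) (.node (.node (.node (.leaf 0) (.leaf 139)) (.node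 (.leaf 0) (.leaf 248))) (.node (.node (.leaf 0) (.leaf 0)) (.node (.leaf 280) (.leaf 466))))) (.node (.node (.node (.node (.leaf 0) (.leaf 259)) (.node (.leaf 0) (.leaf 74))) (.node (.node (.leaf 19) (.leaf 63)) (.node (.leaf 0) (.leaf 170)))) (.node (.node (.node (.leaf 0) (.leaf 279)) (.node (.leaf 33) (.leaf 310))) (.node (.node (.leaf 23) (.leaf 68)) (.node (.leaf 0) (.leaf 158))))))) (.node (.node (.node (.node (.node (.node (.leaf 0) (.leaf 0)) (.node (.leaf 0) (.leaf 71))) (.node (.node (.leaf 0) (.leaf 0)) (.node (.leaf 258) (.leaf 460)))) (.node (.node (.node (.leaf 9) (.leaf 52)) (.node (.leaf 30) (.leaf 0))) (.node (.node (.leaf 205) (.leaf 66)) (.node (.leaf 0) (.leaf 84))))) (.node (.node (.node (.node (.leaf 0) (.leaf 49)) (.node (.leaf 0) (.leaf 183))) (.node (.node (.leaf 0) (.leaf 342)) (.node (.leaf 425) (.leaf 188)))) (.node (.node (.node (.leaf 0) (.leaf 231)) (.node (.leaf 0) (.leaf 77))) (.node (.node (.leaf 22) (.leaf 0)) (.node (.leaf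 0) (.leaf 86)))))) (.node (.node (.node (.node (.node (.leaf 6) (.leaf 225)) (.node (.leaf 156) (.leaf 218))) (.node (.node (.leaf 0) (.leaf 367)) (.node (.leaf 0) (.leaf 80)))) (.node (.node (.node (.leaf 0) (.leaf 418)) (.node (.leaf 0) (.leaf 0))) (.node (.node (.leaf 0) (.leaf 285)) (.node (.leaf 0) (.leaf 185))))) (.node (.node (.node (.node (.leaf 0) (.leaf 427)) (.node (.leaf 0) (.leaf 0))) (.node (.node (.leaf 0) (.leaf 64)) (.node (.leaf 320) (.leaf 81)))) (.node (.node (.node (.leaf 0) (.leaf 316)) (.node (.leaf 34) (.leaf 322))) (.node (.node (.leaf 0) (.leaf 389)) (.node (.leaf 0) (.leaf 87)))))))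

/-- data -/
def rank0_001 : Trie (ℕ) := .node (.node (.node (.node (.node (.node (.node (.leaf 0) (.leaf 0)) (.node (.leaf 196) (.leaf 476))) (.node (.node (.leaf 0) (.leaf 58)) (.node (.leaf 0) (.leaf 79)))) (.node (.node (.node (.leaf 0) (.leaf 51)) (.node (.leaf 141) (.leaf 76))) (.node (.node (.leaf 0) (.leaf 376)) (.node (.leaf 0) (.leaf 187))))) (.node (.node (.node (.node (.leaf 0) (.leaf 0)) (.node (.leaf 0) (.leaf 0))) (.node (.node (.leaf 250) (.leaf 0)) (.node (.leaf 429) (.leaf 0)))) (.node (.node (.node (.leaf 11) (.leaf 55)) (.node (.leaf 32) (.leaf 148))) (.node (.node (.leaf 0) (.leaf 303)) (.node (.leaf 339) (.leaf 0)))))) (.node (.node (.node (.node (.node (.leaf 4) (.leaf 266)) (.node (.leaf 0) (.leaf 405))) (.node (.node (.leaf 0) (.leaf 0)) (.node (.leaf 415) (.leaf 0)))) (.node (.node (.node (.leaf 10) (.leaf 0)) (.node (.leaf 0) (.leaf 343))) (.node (.node (.leaf 173) (.leaf 257)) (.node (.leaf 0) (.leaf 455))))) (.node (.node (.node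 (.node (.leaf 0) (.leaf 50)) (.node (.leaf 0) (.leaf 433))) (.node (.node (.leaf 0) (.leaf 461)) (.node (.leaf 149) (.leaf 430)))) (.node (.node (.node (.leaf 0) (.leaf 56)) (.node (.leaf 256) (.leaf 397))) (.node (.node (.leaf 0) (.leaf 287)) (.node (.leaf 42) (.leaf 474))))))) (.node (.node (.node (.node (.node (.node (.leaf 0) (.leaf 0)) (.node (.leaf 0) (.leaf 440))) (.node (.node (.leaf 0) (.leaf 393)) (.node (.leaf 35) (.leaf 497)))) (.node (.node (.node (.leaf 0) (.leaf 355)) (.node (.leaf 0) (.leaf 0))) (.node (.node (.leaf 20) (.leaf 0)) (.node (.leaf 0) (.leaf 490))))) (.node (.node (.node (.node (.leaf 0) (.leaf 0)) (.node (.leaf 352) (.leaf 73))) (.node (.node (.leaf 0) (.leaf 0)) (.node (.leaf 230) (.leaf 314)))) (.node (.node (.node (.leaf 0) (.leaf 308)) (.node (.leaf 0) (.leaf 0))) (.node (.node (.leaf 0) (.leaf 233)) (.node (.leaf 0) (.leaf 464)))))) (.node (.node (.node (.node (.node (.leaf 0) (.leaf 47)) (.node (.leaf 0) (.leaf 315))) (.node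 (.node (.leaf 288) (.leaf 61)) (.node (.leaf 379) (.leaf 0)))) (.node (.node (.node (.leaf 0) (.leaf 375)) (.node (.leaf 329) (.leaf 443))) (.node (.node (.leaf 0) (.leaf 402)) (.node (.leaf 260) (.leaf 356))))) (.node (.node (.node (.node (.leaf 0) (.leaf 0)) (.node (.leaf 0) (.leaf 0))) (.node (.node (.leaf 0) (.leaf 452)) (.node (.leaf 0) (.leaf 82)))) (.node (.node (.node (.leaf 151) (.leaf 0)) (.node (.leaf 0) (.leaf 426))) (.node (.node (.leaf 176) (.leaf 0)) (.node (.leaf 0) (.leaf 509)))))))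

/-- data -/
def rank0_010 : Trie (ℕ) := .node (.node (.node (.node (.node (.node (.node (.leaf 0) (.leaf 44)) (.node (.leaf 0) (.leaf 0))) (.node (.node (.leaf 14) (.leaf 277)) (.node (.leaf 0) (.leaf 412)))) (.node (.node (.node (.leaf 0) (.leaf 0)) (.node (.leaf 0) (.leaf 0))) (.node (.node (.leaf 0) (.leaf 0)) (.node (.leaf 0) (.leaf 212))))) (.node (.node (.node (.node (.leaf 0) (.leaf 354)) (.node (.leaf 27) (.leaf 72))) (.node (.node (.leaf 18) (.leaf 229)) (.node (.leaf 378) (.leaf 477)))) (.node (.node (.node (.leaf 0) (.leaf 492)) (.node (.leaf 206) (.leaf 453))) (.node (.node (.leaf 0) (.leaf 465)) (.node (.leaf 39) (.leaf 448)))))) (.node (.node (.node (.node (.node (.leaf 0) (.leaf 0)) (.node (.leaf 25) (.leaf 437))) (.node (.node (.leaf 0) (.leaf 407)) (.node (.leaf 0) (.leaf 394)))) (.node (.node (.node (.leaf 0) (.leaf 0)) (.node (.leaf 31) (.leaf 0))) (.node (.node (.leaf 0) (.leaf 496)) (.node (.leaf 38) (.leaf 424))))) (.node (.node (.node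 (.node (.leaf 7) (.leaf 179)) (.node (.leaf 341) (.leaf 75))) (.node (.node (.leaf 0) (.leaf 0)) (.node (.leaf 0) (.leaf 337)))) (.node (.node (.node (.leaf 12) (.leaf 0)) (.node (.leaf 420) (.leaf 78))) (.node (.node (.leaf 0) (.leaf 0)) (.node (.leaf 0) (.leaf 501))))))) (.node (.node (.node (.node (.node (.node (.leaf 0) (.leaf 45)) (.node (.leaf 24) (.leaf 182))) (.node (.node (.leaf 249) (.leaf 59)) (.node (.leaf 0) (.leaf 462)))) (.node (.node (.node (.leaf 255) (.leaf 145)) (.node (.leaf 0) (.leaf 210))) (.node (.node (.leaf 0) (.leaf 226)) (.node (.leaf 0) (.leaf 488))))) (.node (.node (.node (.node (.leaf 0) (.leaf 0)) (.node (.leaf 0) (.leaf 214))) (.node (.node (.leaf 153) (.leaf 181)) (.node (.leaf 0) (.leaf 207)))) (.node (.node (.node (.leaf 0) (.leaf 450)) (.node (.leaf 0) (.leaf 321))) (.node (.node (.leaf 0) (.leaf 486)) (.node (.leaf 41) (.leaf 511)))))) (.node (.node (.node (.node (.node (.leaf 0) (.leaf 0)) (.node (.leaf 0) (.leaf 0))) (.node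 (.node (.leaf 254) (.leaf 275)) (.node (.leaf 0) (.leaf 494)))) (.node (.node (.node (.leaf 0) (.leaf 53)) (.node (.leaf 0) (.leaf 211))) (.node (.node (.leaf 0) (.leaf 0)) (.node (.leaf 0) (.leaf 85))))) (.node (.node (.node (.node (.leaf 0) (.leaf 0)) (.node (.leaf 228) (.leaf 469))) (.node (.node (.leaf 0) (.leaf 428)) (.node (.leaf 0) (.leaf 495)))) (.node (.node (.node (.leaf 0) (.leaf 0)) (.node (.leaf 0) (.leaf 381))) (.node (.node (.leaf 175) (.leaf 69)) (.node (.leaf 43) (.leaf 467)))))))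

/-- data -/
def rank0_011 : Trie (ℕ) := .node (.node (.node (.node (.node (.node (.node (.leaf 3) (.leaf 243)) (.node (.leaf 0) (.leaf 0))) (.node (.node (.leaf 15) (.leaf 391)) (.node (.leaf 0) (.leaf 439)))) (.node (.node (.node (.leaf 0) (.leaf 0)) (.node (.leaf 0) (.leaf 456))) (.node (.node (.leaf 0) (.leaf 282)) (.node (.leaf 0) (.leaf 83))))) (.node (.node (.node (.node (.leaf 0) (.leaf 48)) (.node (.leaf 194) (.leaf 0))) (.node (.node (.leaf 0) (.leaf 353)) (.node (.leaf 0) (.leaf 382)))) (.node (.node (.node (.leaf 0) (.leaf 177)) (.node (.leaf 159) (.leaf 0))) (.node (.node (.leaf 0) (.leaf 171)) (.node (.leaf 40) (.leaf 484)))))) (.node (.node (.node (.node (.node (.leaf 0) (.leaf 265)) (.node (.leaf 0) (.leaf 0))) (.node (.node (.leaf 16) (.leaf 60)) (.node (.leaf 0) (.leaf 220)))) (.node (.node (.node (.leaf 0) (.leaf 0)) (.node (.leaf 0) (.leaf 0))) (.node (.node (.leaf 0) (.leaf 67)) (.node (.leaf 0) (.leaf 512))))) (.node (.node (.node (.node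 (.leaf 0) (.leaf 403)) (.node (.leaf 29) (.leaf 500))) (.node (.node (.leaf 0) (.leaf 0)) (.node (.leaf 319) (.leaf 332)))) (.node (.node (.node (.leaf 13) (.leaf 0)) (.node (.leaf 0) (.leaf 471))) (.node (.node (.leaf 0) (.leaf 168)) (.node (.leaf 0) (.leaf 447))))))) (.node (.node (.node (.node (.node (.node (.leaf 0) (.leaf 0)) (.node (.leaf 384) (.leaf 472))) (.node (.node (.leaf 0) (.leaf 147)) (.node (.leaf 0) (.leaf 0)))) (.node (.node (.node (.leaf 143) (.leaf 0)) (.node (.leaf 0) (.leaf 0))) (.node (.node (.leaf 0) (.leaf 292)) (.node (.leaf 281) (.leaf 0))))) (.node (.node (.node (.node (.leaf 0) (.leaf 178)) (.node (.leaf 28) (.leaf 366))) (.node (.node (.leaf 408) (.leaf 410)) (.node (.leaf 36) (.leaf 305)))) (.node (.node (.node (.leaf 291) (.leaf 0)) (.node (.leaf 0) (.leaf 232))) (.node (.node (.leaf 0) (.leaf 413)) (.node (.leaf 157) (.leaf 503)))))) (.node (.node (.node (.node (.node (.leaf 1) (.leaf 0)) (.node (.leaf 26) (.leaf 0))) (.node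 (.node (.leaf 17) (.leaf 0)) (.node (.leaf 180) (.leaf 493)))) (.node (.node (.node (.leaf 0) (.leaf 54)) (.node (.leaf 0) (.leaf 344))) (.node (.node (.leaf 0) (.leaf 224)) (.node (.leaf 0) (.leaf 304))))) (.node (.node (.node (.node (.leaf 8) (.leaf 392)) (.node (.leaf 0) (.leaf 0))) (.node (.node (.leaf 0) (.leaf 479)) (.node (.leaf 0) (.leaf 186)))) (.node (.node (.node (.leaf 0) (.leaf 150)) (.node (.leaf 0) (.leaf 160))) (.node (.node (.leaf 0) (.leaf 0)) (.node (.leaf 242) (.leaf 88)))))))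

/-- data -/
def rank0_100 : Trie (ℕ) := .node (.node (.node (.node (.node (.node (.node (.leaf 0) (.leaf 0)) (.node (.leaf 0) (.leaf 0))) (.node (.node (.leaf 0) (.leaf 244)) (.node (.leaf 261) (.leaf 295)))) (.node (.node (.node (.leaf 0) (.leaf 208)) (.node (.leaf 359) (.leaf 0))) (.node (.node (.leaf 0) (.leaf 335)) (.node (.leaf 0) (.leaf 200))))) (.node (.node (.node (.node (.leaf 0) (.leaf 0)) (.node (.leaf 395) (.leaf 127))) (.node (.node (.leaf 0) (.leaf 0)) (.node (.leaf 0) (.leaf 301)))) (.node (.node (.node (.leaf 0) (.leaf 121)) (.node (.leaf 172) (.leaf 482))) (.node (.node (.leaf 0) (.leaf 333)) (.node (.leaf 0) (.leaf 445)))))) (.node (.node (.node (.node (.node (.leaf 0) (.leaf 324)) (.node (.leaf 361) (.leaf 0))) (.node (.node (.leaf 0) (.leaf 370)) (.node (.leaf 109) (.leaf 489)))) (.node (.node (.node (.leaf 2) (.leaf 263)) (.node (.leaf 0) (.leaf 246))) (.node (.node (.leaf 236) (.leaf 124)) (.node (.leaf 0) (.leaf 449))))) (.node (.node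 (.node (.node (.leaf 0) (.leaf 0)) (.node (.leaf 189) (.leaf 0))) (.node (.node (.leaf 0) (.leaf 459)) (.node (.leaf 0) (.leaf 0)))) (.node (.node (.node (.leaf 0) (.leaf 0)) (.node (.leaf 0) (.leaf 221))) (.node (.node (.leaf 346) (.leaf 444)) (.node (.leaf 0) (.leaf 272))))))) (.node (.node (.node (.node (.node (.node (.leaf 0) (.leaf 0)) (.node (.leaf 0) (.leaf 0))) (.node (.node (.leaf 0) (.leaf 0)) (.node (.leaf 0) (.leaf 468)))) (.node (.node (.node (.leaf 0) (.leaf 286)) (.node (.leaf 0) (.leaf 130))) (.node (.node (.leaf 0) (.leaf 0)) (.node (.leaf 0) (.leaf 390))))) (.node (.node (.node (.node (.leaf 0) (.leaf 421)) (.node (.leaf 103) (.leaf 201))) (.node (.node (.leaf 97) (.leaf 0)) (.node (.leaf 0) (.leaf 238)))) (.node (.node (.node (.leaf 0) (.leaf 0)) (.node (.leaf 0) (.leaf 411))) (.node (.node (.leaf 154) (.leaf 349)) (.node (.leaf 0) (.leaf 502)))))) (.node (.node (.node (.node (.node (.leaf 0) (.leaf 0)) (.node (.leaf 0) (.leaf 152))) (.node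 (.node (.leaf 0) (.leaf 264)) (.node (.leaf 110) (.leaf 417)))) (.node (.node (.node (.leaf 0) (.leaf 400)) (.node (.leaf 106) (.leaf 507))) (.node (.node (.leaf 0) (.leaf 0)) (.node (.leaf 0) (.leaf 219))))) (.node (.node (.node (.node (.leaf 0) (.leaf 118)) (.node (.leaf 0) (.leaf 0))) (.node (.node (.leaf 0) (.leaf 0)) (.node (.leaf 318) (.leaf 369)))) (.node (.node (.node (.leaf 0) (.leaf 485)) (.node (.leaf 0) (.leaf 307))) (.node (.node (.leaf 0) (.leaf 0)) (.node (.leaf 388) (.leaf 245)))))))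

/-- data -/
def rank0_101 : Trie (ℕ) := .node (.node (.node (.node (.node (.node (.node (.leaf 0) (.leaf 116)) (.node (.leaf 0) (.leaf 0))) (.node (.node (.leaf 0) (.leaf 222)) (.node (.leaf 108) (.leaf 215)))) (.node (.node (.node (.leaf 0) (.leaf 0)) (.node (.leaf 0) (.leaf 269))) (.node (.node (.leaf 234) (.leaf 0)) (.node (.leaf 0) (.leaf 278))))) (.node (.node (.node (.node (.leaf 0) (.leaf 347)) (.node (.leaf 0) (.leaf 0))) (.node (.node (.leaf 0) (.leaf 0)) (.node (.leaf 0) (.leaf 135)))) (.node (.node (.node (.leaf 0) (.leaf 0)) (.node (.leaf 0) (.leaf 313))) (.node (.node (.leaf 0) (.leaf 0)) (.node (.leaf 363) (.leaf 330)))))) (.node (.node (.node (.node (.node (.leaf 0) (.leaf 422)) (.node (.leaf 0) (.leaf 406))) (.node (.node (.leaf 0) (.leaf 0)) (.node (.leaf 199) (.leaf 142)))) (.node (.node (.node (.leaf 0) (.leaf 0)) (.node (.leaf 386) (.leaf 0))) (.node (.node (.leaf 239) (.leaf 487)) (.node (.leaf 0) (.leaf 0))))) (.node (.node (.node (.node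 (.leaf 0) (.leaf 198)) (.node (.leaf 0) (.leaf 327))) (.node (.node (.leaf 0) (.leaf 0)) (.node (.leaf 0) (.leaf 302)))) (.node (.node (.node (.leaf 0) (.leaf 164)) (.node (.leaf 0) (.leaf 133))) (.node (.node (.leaf 0) (.leaf 125)) (.node (.leaf 0) (.leaf 371))))))) (.node (.node (.node (.node (.node (.node (.leaf 0) (.leaf 0)) (.node (.leaf 0) (.leaf 423))) (.node (.node (.leaf 0) (.leaf 122)) (.node (.leaf 0) (.leaf 510)))) (.node (.node (.node (.leaf 0) (.leaf 0)) (.node (.leaf 0) (.leaf 268))) (.node (.node (.leaf 383) (.leaf 0)) (.node (.leaf 237) (.leaf 499))))) (.node (.node (.node (.node (.leaf 0) (.leaf 331)) (.node (.leaf 0) (.leaf 0))) (.node (.node (.leaf 0) (.leaf 203)) (.node (.leaf 0) (.leaf 463)))) (.node (.node (.node (.leaf 0) (.leaf 0)) (.node (.leaf 0) (.leaf 241))) (.node (.node (.leaf 0) (.leaf 0)) (.node (.leaf 0) (.leaf 137)))))) (.node (.node (.node (.node (.node (.leaf 0) (.leaf 262)) (.node (.leaf 0) (.leaf 326))) (.node (.node (.leaf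 96) (.leaf 350)) (.node (.leaf 293) (.leaf 0)))) (.node (.node (.node (.leaf 0) (.leaf 120)) (.node (.leaf 0) (.leaf 0))) (.node (.node (.leaf 0) (.leaf 0)) (.node (.leaf 0) (.leaf 498))))) (.node (.node (.node (.node (.leaf 0) (.leaf 385)) (.node (.leaf 0) (.leaf 290))) (.node (.node (.leaf 0) (.leaf 0)) (.node (.leaf 0) (.leaf 336)))) (.node (.node (.node (.leaf 94) (.leaf 340)) (.node (.leaf 374) (.leaf 0))) (.node (.node (.leaf 0) (.leaf 197)) (.node (.leaf 0) (.leaf 508)))))))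

/-- data -/
def rank0_110 : Trie (ℕ) := .node (.node (.node (.node (.node (.node (.node (.leaf 0) (.leaf 399)) (.node (.leaf 0) (.leaf 0))) (.node (.node (.leaf 0) (.leaf 165)) (.node (.leaf 0) (.leaf 134)))) (.node (.node (.node (.leaf 0) (.leaf 162)) (.node (.leaf 104) (.leaf 306))) (.node (.node (.leaf 0) (.leaf 328)) (.node (.leaf 112) (.leaf 372))))) (.node (.node (.node (.node (.leaf 0) (.leaf 0)) (.node (.leaf 0) (.leaf 0))) (.node (.node (.leaf 0) (.leaf 0)) (.node (.leaf 0) (.leaf 441)))) (.node (.node (.node (.leaf 0) (.leaf 473)) (.node (.leaf 0) (.leaf 132))) (.node (.node (.leaf 0) (.leaf 0)) (.node (.leaf 273) (.leaf 442)))))) (.node (.node (.node (.node (.node (.leaf 0) (.leaf 284)) (.node (.leaf 0) (.leaf 434))) (.node (.node (.leaf 0) (.leaf 404)) (.node (.leaf 0) (.leaf 387)))) (.node (.node (.node (.leaf 0) (.leaf 119)) (.node (.leaf 0) (.leaf 491))) (.node (.node (.leaf 105) (.leaf 454)) (.node (.leaf 0) (.leaf 136))))) (.node (.node (.node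 (.node (.leaf 0) (.leaf 0)) (.node (.leaf 345) (.leaf 289))) (.node (.node (.leaf 0) (.leaf 0)) (.node (.leaf 111) (.leaf 0)))) (.node (.node (.node (.leaf 0) (.leaf 190)) (.node (.leaf 283) (.leaf 297))) (.node (.node (.leaf 358) (.leaf 167)) (.node (.leaf 470) (.leaf 481))))))) (.node (.node (.node (.node (.node (.node (.leaf 0) (.leaf 325)) (.node (.leaf 0) (.leaf 0))) (.node (.node (.leaf 95) (.leaf 0)) (.node (.leaf 155) (.leaf 401)))) (.node (.node (.node (.leaf 0) (.leaf 396)) (.node (.leaf 0) (.leaf 240))) (.node (.node (.leaf 0) (.leaf 0)) (.node (.leaf 113) (.leaf 483))))) (.node (.node (.node (.node (.leaf 0) (.leaf 0)) (.node (.leaf 296) (.leaf 0))) (.node (.node (.leaf 0) (.leaf 202)) (.node (.leaf 364) (.leaf 0)))) (.node (.node (.node (.leaf 93) (.leaf 0)) (.node (.leaf 107) (.leaf 431))) (.node (.node (.leaf 0) (.leaf 0)) (.node (.leaf 0) (.leaf 504)))))) (.node (.node (.node (.node (.node (.leaf 89) (.leaf 0)) (.node (.leaf 253) (.leaf 140)))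 (.node (.node (.leaf 0) (.leaf 123)) (.node (.leaf 0) (.leaf 0)))) (.node (.node (.node (.leaf 0) (.leaf 0)) (.node (.leaf 0) (.leaf 0))) (.node (.node (.leaf 0) (.leaf 276)) (.node (.leaf 312) (.leaf 195))))) (.node (.node (.node (.node (.leaf 0) (.leaf 217)) (.node (.leaf 0) (.leaf 128))) (.node (.node (.leaf 0) (.leaf 0)) (.node (.leaf 298) (.leaf 365)))) (.node (.node (.node (.leaf 0) (.leaf 0)) (.node (.leaf 0) (.leaf 478))) (.node (.node (.leaf 0) (.leaf 398)) (.node (.leaf 0) (.leaf 138)))))))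

/-- data -/
def rank0_111 : Trie (ℕ) := .node (.node (.node (.node (.node (.node (.node (.leaf 0) (.leaf 192)) (.node (.leaf 0) (.leaf 351))) (.node (.node (.leaf 0) (.leaf 227)) (.node (.leaf 0) (.leaf 419)))) (.node (.node (.node (.leaf 0) (.leaf 480)) (.node (.leaf 334) (.leaf 267))) (.node (.node (.leaf 362) (.leaf 0)) (.node (.leaf 0) (.leaf 213))))) (.node (.node (.node (.node (.leaf 90) (.leaf 161)) (.node (.leaf 0) (.leaf 294))) (.node (.node (.leaf 0) (.leaf 0)) (.node (.leaf 409) (.leaf 436)))) (.node (.node (.node (.leaf 0) (.leaf 223)) (.node (.leaf 0) (.leaf 299))) (.node (.node (.leaf 0) (.leaf 309)) (.node (.leaf 0) (.leaf 506)))))) (.node (.node (.node (.node (.node (.leaf 0) (.leaf 117)) (.node (.leaf 102) (.leaf 0))) (.node (.node (.leaf 0) (.leaf 166)) (.node (.leaf 0) (.leaf 270)))) (.node (.node (.node (.leaf 0) (.leaf 0)) (.node (.leaf 0) (.leaf 131))) (.node (.node (.leaf 99) (.leaf 0)) (.node (.leaf 300) (.leaf 0))))) (.node (.node (.node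 (.node (.leaf 91) (.leaf 0)) (.node (.leaf 360) (.leaf 505))) (.node (.node (.leaf 0) (.leaf 0)) (.node (.leaf 0) (.leaf 323)))) (.node (.node (.node (.leaf 0) (.leaf 193)) (.node (.leaf 0) (.leaf 513))) (.node (.node (.leaf 101) (.leaf 271)) (.node (.leaf 0) (.leaf 432))))))) (.node (.node (.node (.node (.node (.node (.leaf 0) (.leaf 0)) (.node (.leaf 0) (.leaf 126))) (.node (.node (.leaf 0) (.leaf 274)) (.node (.leaf 0) (.leaf 446)))) (.node (.node (.node (.leaf 92) (.leaf 146)) (.node (.leaf 235) (.leaf 251))) (.node (.node (.leaf 0) (.leaf 311)) (.node (.leaf 0) (.leaf 457))))) (.node (.node (.node (.node (.leaf 0) (.leaf 0)) (.node (.leaf 0) (.leaf 0))) (.node (.node (.leaf 0) (.leaf 357)) (.node (.leaf 0) (.leaf 0)))) (.node (.node (.node (.leaf 0) (.leaf 0)) (.node (.leaf 0) (.leaf 247))) (.node (.node (.leaf 100) (.leaf 348)) (.node (.leaf 114) (.leaf 373)))))) (.node (.node (.node (.node (.node (.leaf 0) (.leaf 458)) (.node (.leaf 416) (.leaf 0))) (.node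 (.node (.leaf 0) (.leaf 0)) (.node (.leaf 0) (.leaf 0)))) (.node (.node (.node (.leaf 0) (.leaf 0)) (.node (.leaf 144) (.leaf 377))) (.node (.node (.leaf 0) (.leaf 216)) (.node (.leaf 0) (.leaf 209))))) (.node (.node (.node (.node (.leaf 0) (.leaf 0)) (.node (.leaf 0) (.leaf 129))) (.node (.node (.leaf 98) (.leaf 475)) (.node (.leaf 0) (.leaf 435)))) (.node (.node (.node (.leaf 0) (.leaf 191)) (.node (.leaf 0) (.leaf 0))) (.node (.node (.leaf 0) (.leaf 0)) (.node (.leaf 115) (.leaf 438)))))))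

/-- data -/
def rank0 : Trie (ℕ) := .node (.node (.node (rank0_000) (rank0_001)) (.node (rank0_010) (rank0_011))) (.node (.node (rank0_100) (rank0_101)) (.node (rank0_110) (rank0_111)))

/-- data -/
def tree0_00 : Trie (ℕ × ℕ) := .node (.node (.node (.node (.node (.node (.node (.leaf (0, 0)) (.leaf (175, 0))) (.node (.leaf (79, 1)) (.leaf (289, 0)))) (.node (.node (.leaf (37, 1)) (.leaf (227, 0))) (.node (.leaf (124, 1)) (.leaf (377, 0))))) (.node (.node (.node (.leaf (18, 1)) (.leaf (199, 1))) (.node (.leaf (101, 0)) (.leaf (336, 1)))) (.node (.node (.leaf (57, 1)) (.leaf (252, 0))) (.node (.leaf (149, 0)) (.leaf (416, 1)))))) (.node (.node (.node (.node (.leaf (8, 0)) (.leaf (188, 1))) (.node (.leaf (90, 1)) (.leaf (310, 1)))) (.node (.node (.leaf (47, 1)) (.leaf (239, 0))) (.node (.leaf (135, 1)) (.leaf (397, 0))))) (.node (.node (.node (.leaf (28, 0)) (.leaf (214, 1))) (.node (.leaf (113, 0)) (.leaf (354, 1)))) (.node (.node (.leaf (68, 0)) (.leaf (269,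 1))) (.node (.leaf (164, 1)) (.leaf (455, 0))))))) (.node (.node (.node (.node (.node (.leaf (4, 0)) (.leaf (182, 0))) (.node (.leaf (85, 1)) (.leaf (299, 0)))) (.node (.node (.leaf (43, 1)) (.leaf (233, 1))) (.node (.leaf (130, 1)) (.leaf (386, 1))))) (.node (.node (.node (.leaf (23, 0)) (.leaf (205, 1))) (.node (.leaf (108, 1)) (.leaf (345, 1)))) (.node (.node (.leaf (63, 0)) (.leaf (260, 1))) (.node (.leaf (157, 1)) (.leaf (428, 0)))))) (.node (.node (.node (.node (.leaf (13, 0)) (.leaf (193, 1))) (.node (.leaf (94, 1)) (.leaf (318, 0)))) (.node (.node (.leaf (52, 0)) (.leaf (246, 0))) (.node (.leaf (142, 0)) (.leaf (405, 1))))) (.node (.node (.node (.leaf (32, 1)) (.leaf (222, 0))) (.node (.leaf (118, 0)) (.leaf (364, 1)))) (.node (.node (.leaf (73, 0)) (.leaf (278, 0))) (.node (.leaf (169, 1)) (.leaf (469, 1)))))))) (.node (.node (.node (.node (.node (.node (.leaf (1, 1)) (.leaf (179, 1))) (.node (.leaf (82, 1)) (.leaf (295, 0)))) (.node (.node (.leaf (41,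 0)) (.leaf (229, 0))) (.node (.leaf (127, 1)) (.leaf (383, 1))))) (.node (.node (.node (.leaf (21, 0)) (.leaf (203, 0))) (.node (.leaf (104, 0)) (.leaf (339, 1)))) (.node (.node (.leaf (60, 0)) (.leaf (256, 0))) (.node (.leaf (154, 0)) (.leaf (423, 0)))))) (.node (.node (.node (.node (.leaf (10, 1)) (.leaf (191, 0))) (.node (.leaf (92, 1)) (.leaf (313, 0)))) (.node (.node (.leaf (49, 1)) (.leaf (243, 1))) (.node (.leaf (138, 1)) (.leaf (401, 1))))) (.node (.node (.node (.leaf (30, 0)) (.leaf (217, 0))) (.node (.leaf (115, 0)) (.leaf (358, 0)))) (.node (.node (.leaf (71, 0)) (.leaf (273, 1))) (.node (.leaf (166, 1)) (.leaf (462, 0))))))) (.node (.node (.node (.node (.node (.leaf (6, 0)) (.leaf (184, 1))) (.node (.leaf (88, 1)) (.leaf (304, 0)))) (.node (.node (.leaf (45, 1)) (.leaf (236, 0))) (.node (.leaf (132, 1)) (.leaf (392, 0))))) (.node (.node (.node (.leaf (25, 1)) (.leaf (210, 1))) (.node (.leaf (110, 1)) (.leaf (348, 1)))) (.node (.node (.leaf (65, 1))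 (.leaf (263, 1))) (.node (.leaf (159, 1)) (.leaf (435, 0)))))) (.node (.node (.node (.node (.leaf (16, 1)) (.leaf (196, 1))) (.node (.leaf (97, 1)) (.leaf (330, 0)))) (.node (.node (.leaf (54, 1)) (.leaf (249, 0))) (.node (.leaf (146, 0)) (.leaf (412, 0))))) (.node (.node (.node (.leaf (34, 1)) (.leaf (224, 1))) (.node (.leaf (122, 0)) (.leaf (370, 1)))) (.node (.node (.leaf (75, 1)) (.leaf (283, 1))) (.node (.leaf (172, 0)) (.leaf (487, 0))))))))

/-- data -/
def tree0_01 : Trie (ℕ × ℕ) := .node (.node (.node (.node (.node (.node (.node (.leaf (0, 1)) (.leaf (177, 1))) (.node (.leaf (80, 1)) (.leaf (291, 0)))) (.node (.node (.leaf (38, 1)) (.leaf (228, 0))) (.node (.leaf (126, 1)) (.leaf (382, 0))))) (.node (.node (.node (.leaf (20, 0)) (.leaf (201, 0))) (.node (.leaf (103, 0)) (.leaf (338, 0)))) (.node (.node (.leaf (58, 1)) (.leaf (254, 0))) (.node (.leaf (151, 1)) (.leaf (420, 0)))))) (.node (.node (.node (.node (.leaf (9, 0)) (.leaf (189, 1))) (.node (.leaf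 (91, 1)) (.leaf (311, 1)))) (.node (.node (.leaf (48, 1)) (.leaf (240, 0))) (.node (.leaf (137, 1)) (.leaf (399, 1))))) (.node (.node (.node (.leaf (29, 0)) (.leaf (216, 0))) (.node (.leaf (114, 0)) (.leaf (356, 1)))) (.node (.node (.leaf (70, 0)) (.leaf (272, 0))) (.node (.leaf (165, 1)) (.leaf (458, 0))))))) (.node (.node (.node (.node (.node (.leaf (5, 0)) (.leaf (183, 0))) (.node (.leaf (86, 1)) (.leaf (301, 1)))) (.node (.node (.leaf (44, 1)) (.leaf (234, 1))) (.node (.leaf (131, 1)) (.leaf (388, 1))))) (.node (.node (.node (.leaf (24, 0)) (.leaf (208, 1))) (.node (.leaf (109, 1)) (.leaf (347, 0)))) (.node (.node (.leaf (64, 0)) (.leaf (262, 1))) (.node (.leaf (158, 1)) (.leaf (430, 1)))))) (.node (.node (.node (.node (.leaf (14, 1)) (.leaf (195, 0))) (.node (.leaf (96, 1)) (.leaf (324, 1)))) (.node (.node (.leaf (53, 0)) (.leaf (248, 0))) (.node (.leaf (144, 0)) (.leaf (407, 1))))) (.node (.node (.node (.leaf (33, 1)) (.leaf (223, 0))) (.node (.leaf (119,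 0)) (.leaf (366, 1)))) (.node (.node (.leaf (74, 0)) (.leaf (280, 1))) (.node (.leaf (171, 0)) (.leaf (472, 1)))))))) (.node (.node (.node (.node (.node (.node (.leaf (2, 1)) (.leaf (180, 1))) (.node (.leaf (83, 1)) (.leaf (298, 0)))) (.node (.node (.leaf (42, 1)) (.leaf (231, 1))) (.node (.leaf (129, 0)) (.leaf (385, 0))))) (.node (.node (.node (.leaf (22, 0)) (.leaf (204, 0))) (.node (.leaf (107, 0)) (.leaf (342, 0)))) (.node (.node (.leaf (61, 0)) (.leaf (258, 0))) (.node (.leaf (156, 0)) (.leaf (426, 1)))))) (.node (.node (.node (.node (.leaf (11, 1)) (.leaf (192, 0))) (.node (.leaf (93, 1)) (.leaf (317, 0)))) (.node (.node (.leaf (51, 0)) (.leaf (244, 1))) (.node (.leaf (140, 1)) (.leaf (402, 1))))) (.node (.node (.node (.leaf (31, 1)) (.leaf (219, 1))) (.node (.leaf (117, 0)) (.leaf (360, 0)))) (.node (.node (.leaf (72, 0)) (.leaf (277, 0))) (.node (.leaf (168, 0)) (.leaf (463, 1))))))) (.node (.node (.node (.node (.node (.leaf (7, 0)) (.leaf (187, 0)))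 (.node (.leaf (89, 1)) (.leaf (308, 1)))) (.node (.node (.leaf (46, 1)) (.leaf (237, 0))) (.node (.leaf (134, 0)) (.leaf (395, 0))))) (.node (.node (.node (.leaf (26, 1)) (.leaf (212, 1))) (.node (.leaf (111, 1)) (.leaf (350, 1)))) (.node (.node (.leaf (66, 1)) (.leaf (268, 1))) (.node (.leaf (162, 1)) (.leaf (446, 1)))))) (.node (.node (.node (.node (.leaf (17, 1)) (.leaf (198, 1))) (.node (.leaf (99, 0)) (.leaf (335, 0)))) (.node (.node (.leaf (56, 0)) (.leaf (251, 0))) (.node (.leaf (147, 1)) (.leaf (414, 0))))) (.node (.node (.node (.leaf (35, 1)) (.leaf (226, 0))) (.node (.leaf (123, 0)) (.leaf (373, 1)))) (.node (.node (.leaf (76, 1)) (.leaf (286, 0))) (.node (.leaf (173, 1)) (.leaf (491, 1))))))))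

/-- data -/
def tree0_10 : Trie (ℕ × ℕ) := .node (.node (.node (.node (.node (.node (.node (.leaf (0, 0)) (.leaf (176, 0))) (.node (.leaf (80, 0)) (.leaf (290, 1)))) (.node (.node (.leaf (38, 0)) (.leaf (227, 1))) (.node (.leaf (125, 1)) (.leaf (380, 1))))) (.node (.node (.node (.leaf (19, 0)) (.leaf (200, 0))) (.node (.leaf (101, 1)) (.leaf (337, 1)))) (.node (.node (.leaf (58, 0)) (.leaf (253, 1))) (.node (.leaf (150, 1)) (.leaf (417, 0)))))) (.node (.node (.node (.node (.leaf (8, 1)) (.leaf (189, 0))) (.node (.leaf (91, 0)) (.leaf (311, 0)))) (.node (.node (.leaf (48, 0)) (.leaf (239, 1))) (.node (.leaf (136, 0)) (.leaf (399, 0))))) (.node (.node (.node (.leaf (28, 1)) (.leaf (215, 1))) (.node (.leaf (113, 1)) (.leaf (355, 1)))) (.node (.node (.leaf (68, 1)) (.leaf (271, 0))) (.node (.leaf (165, 0)) (.leaf (456, 0))))))) (.node (.node (.node (.node (.node (.leaf (4, 1)) (.leaf (182, 1))) (.node (.leaf (86, 0)) (.leaf (299, 1)))) (.node (.node (.leaf (44,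 0)) (.leaf (234, 0))) (.node (.leaf (131, 0)) (.leaf (387, 0))))) (.node (.node (.node (.leaf (23, 1)) (.leaf (207, 1))) (.node (.leaf (109, 0)) (.leaf (346, 1)))) (.node (.node (.leaf (63, 1)) (.leaf (262, 0))) (.node (.leaf (158, 0)) (.leaf (429, 1)))))) (.node (.node (.node (.node (.leaf (14, 0)) (.leaf (194, 0))) (.node (.leaf (95, 0)) (.leaf (324, 0)))) (.node (.node (.leaf (52, 1)) (.leaf (246, 1))) (.node (.leaf (142, 1)) (.leaf (406, 1))))) (.node (.node (.node (.leaf (33, 0)) (.leaf (222, 1))) (.node (.leaf (118, 1)) (.leaf (365, 0)))) (.node (.node (.leaf (73, 1)) (.leaf (279, 1))) (.node (.leaf (170, 0)) (.leaf (471, 1)))))))) (.node (.node (.node (.node (.node (.node (.leaf (2, 0)) (.leaf (180, 0))) (.node (.leaf (83, 0)) (.leaf (297, 0)))) (.node (.node (.leaf (41, 1)) (.leaf (230, 0))) (.node (.leaf (128, 1)) (.leaf (384, 1))))) (.node (.node (.node (.leaf (21, 1)) (.leaf (203, 1))) (.node (.leaf (105, 0)) (.leaf (340, 1)))) (.node (.node (.leaf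 (60, 1)) (.leaf (256, 1))) (.node (.leaf (154, 1)) (.leaf (425, 0)))))) (.node (.node (.node (.node (.leaf (11, 0)) (.leaf (191, 1))) (.node (.leaf (93, 0)) (.leaf (315, 0)))) (.node (.node (.leaf (50, 1)) (.leaf (244, 0))) (.node (.leaf (139, 0)) (.leaf (402, 0))))) (.node (.node (.node (.leaf (30, 1)) (.leaf (218, 1))) (.node (.leaf (115, 1)) (.leaf (358, 1)))) (.node (.node (.leaf (71, 1)) (.leaf (274, 0))) (.node (.leaf (167, 0)) (.leaf (462, 1))))))) (.node (.node (.node (.node (.node (.leaf (6, 1)) (.leaf (186, 1))) (.node (.leaf (89, 0)) (.leaf (306, 1)))) (.node (.node (.leaf (46, 0)) (.leaf (236, 1))) (.node (.leaf (133, 1)) (.leaf (392, 1))))) (.node (.node (.node (.leaf (26, 0)) (.leaf (211, 0))) (.node (.leaf (111, 0)) (.leaf (349, 1)))) (.node (.node (.leaf (66, 0)) (.leaf (265, 0))) (.node (.leaf (161, 0)) (.leaf (438, 0)))))) (.node (.node (.node (.node (.leaf (17, 0)) (.leaf (197, 0))) (.node (.leaf (98, 0)) (.leaf (330, 1)))) (.node (.node (.leaf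 (55, 1)) (.leaf (250, 1))) (.node (.leaf (146, 1)) (.leaf (412, 1))))) (.node (.node (.node (.leaf (35, 0)) (.leaf (225, 0))) (.node (.leaf (122, 1)) (.leaf (372, 0)))) (.node (.node (.leaf (76, 0)) (.leaf (285, 0))) (.node (.leaf (173, 0)) (.leaf (490, 1))))))))

/-- data -/
def tree0_11 : Trie (ℕ × ℕ) := .node (.node (.node (.node (.node (.node (.node (.leaf (1, 0)) (.leaf (178, 1))) (.node (.leaf (81, 1)) (.leaf (294, 1)))) (.node (.node (.leaf (40, 0)) (.leaf (228, 1))) (.node (.leaf (127, 0)) (.leaf (383, 0))))) (.node (.node (.node (.leaf (20, 1)) (.leaf (201, 1))) (.node (.leaf (103, 1)) (.leaf (338, 1)))) (.node (.node (.leaf (59, 1)) (.leaf (254, 1))) (.node (.leaf (152, 0)) (.leaf (422, 0)))))) (.node (.node (.node (.node (.leaf (9, 1)) (.leaf (190, 0))) (.node (.leaf (92, 0)) (.leaf (312, 1)))) (.node (.node (.leaf (49, 0)) (.leaf (240, 1))) (.node (.leaf (138, 0)) (.leaf (400, 0))))) (.node (.node (.node (.leaf (29, 1)) (.leaf (216, 1))) (.node (.leaf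 (114, 1)) (.leaf (357, 1)))) (.node (.node (.leaf (70, 1)) (.leaf (272, 1))) (.node (.leaf (166, 0)) (.leaf (461, 1))))))) (.node (.node (.node (.node (.node (.leaf (5, 1)) (.leaf (183, 1))) (.node (.leaf (87, 1)) (.leaf (303, 1)))) (.node (.node (.leaf (45, 0)) (.leaf (235, 0))) (.node (.leaf (132, 0)) (.leaf (389, 1))))) (.node (.node (.node (.leaf (24, 1)) (.leaf (209, 1))) (.node (.leaf (110, 0)) (.leaf (347, 1)))) (.node (.node (.leaf (64, 1)) (.leaf (263, 0))) (.node (.leaf (159, 0)) (.leaf (432, 0)))))) (.node (.node (.node (.node (.leaf (15, 1)) (.leaf (195, 1))) (.node (.leaf (97, 0)) (.leaf (325, 1)))) (.node (.node (.leaf (54, 0)) (.leaf (248, 1))) (.node (.leaf (145, 1)) (.leaf (408, 1))))) (.node (.node (.node (.leaf (34, 0)) (.leaf (223, 1))) (.node (.leaf (121, 0)) (.leaf (369, 1)))) (.node (.node (.leaf (74, 1)) (.leaf (281, 1))) (.node (.leaf (171, 1)) (.leaf (473, 1)))))))) (.node (.node (.node (.node (.node (.node (.leaf (3, 1)) (.leaf (181,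 0))) (.node (.leaf (84, 0)) (.leaf (298, 1)))) (.node (.node (.leaf (43, 0)) (.leaf (232, 1))) (.node (.leaf (129, 1)) (.leaf (385, 1))))) (.node (.node (.node (.leaf (22, 1)) (.leaf (205, 0))) (.node (.leaf (108, 0)) (.leaf (345, 0)))) (.node (.node (.leaf (61, 1)) (.leaf (260, 0))) (.node (.leaf (156, 1)) (.leaf (427, 0)))))) (.node (.node (.node (.node (.leaf (12, 1)) (.leaf (193, 0))) (.node (.leaf (94, 0)) (.leaf (317, 1)))) (.node (.node (.leaf (51, 1)) (.leaf (245, 1))) (.node (.leaf (141, 0)) (.leaf (403, 0))))) (.node (.node (.node (.leaf (32, 0)) (.leaf (221, 0))) (.node (.leaf (117, 1)) (.leaf (363, 1)))) (.node (.node (.leaf (72, 1)) (.leaf (277, 1))) (.node (.leaf (168, 1)) (.leaf (466, 0))))))) (.node (.node (.node (.node (.node (.leaf (7, 1)) (.leaf (187, 1))) (.node (.leaf (90, 0)) (.leaf (309, 1)))) (.node (.node (.leaf (47, 0)) (.leaf (238, 1))) (.node (.leaf (134, 1)) (.leaf (395, 1))))) (.node (.node (.node (.leaf (27, 0)) (.leaf (213, 0)))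 (.node (.leaf (112, 1)) (.leaf (353, 0)))) (.node (.node (.leaf (67, 1)) (.leaf (269, 0))) (.node (.leaf (163, 0)) (.leaf (447, 1)))))) (.node (.node (.node (.node (.leaf (18, 0)) (.leaf (199, 0))) (.node (.leaf (100, 1)) (.leaf (335, 1)))) (.node (.node (.leaf (56, 1)) (.leaf (251, 1))) (.node (.leaf (148, 0)) (.leaf (415, 0))))) (.node (.node (.node (.leaf (36, 1)) (.leaf (226, 1))) (.node (.leaf (124, 0)) (.leaf (374, 1)))) (.node (.node (.leaf (77, 1)) (.leaf (287, 1))) (.node (.leaf (174, 1)) (.leaf (498, 0))))))))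

/-- data -/
def tree0 : Trie (ℕ × ℕ) := .node (.node (tree0_00) (tree0_01)) (.node (tree0_10) (tree0_11))

/-- data -/
def cert0_00 : Trie (ℕ × ℕ × ℕ) := .node (.node (.node (.node (.node (.node (.node (.node (.leaf (0, 0, 4)) (.leaf (21, 255, 50))) (.leaf (4, 261, 30))) (.node (.leaf (3, 162, 3)) (.leaf (14, 327, 26)))) (.node (.node (.leaf (2, 172, 2)) (.leaf (19, 377, 15))) (.node (.leaf (3, 223, 1)) (.leaf (20, 159, 78))))) (.node (.node (.node (.leaf (2, 72, 2)) (.leaf (37, 19, 7))) (.node (.leaf (25, 0, 10)) (.leaf (19, 85, 4)))) (.node (.node (.leaf (3, 16, 3)) (.leaf (4, 21, 6))) (.node (.leaf (19, 30, 15)) (.leaf (21, 91, 32)))))) (.node (.node (.node (.node (.leaf (2, 27, 2)) (.leaf (19, 241, 0))) (.node (.leaf (10, 0, 10)) (.leaf (19, 10, 9)))) (.node (.node (.leaf (2, 330, 2)) (.leaf (37, 1, 14))) (.node (.leaf (3, 374, 2)) (.leaf (20, 423, 33))))) (.node (.node (.node (.leaf (2, 124, 2)) (.leaf (4, 420, 7))) (.node (.leaf (2, 144, 2)) (.leaf (19,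 324, 1)))) (.node (.node (.leaf (3, 57, 3)) (.leaf (4, 412, 1))) (.node (.leaf (3, 314, 3)) (.leaf (21, 168, 42))))))) (.node (.node (.node (.node (.node (.leaf (2, 11, 2)) (.leaf (37, 24, 8))) (.node (.leaf (3, 303, 3)) (.leaf (17, 417, 15)))) (.node (.node (.leaf (2, 225, 2)) (.leaf (28, 468, 65))) (.node (.leaf (26, 1, 13)) (.leaf (20, 283, 38))))) (.node (.node (.node (.leaf (2, 108, 2)) (.leaf (19, 41, 14))) (.node (.leaf (34, 0, 11)) (.leaf (19, 138, 1)))) (.node (.node (.leaf (3, 36, 2)) (.leaf (4, 112, 5))) (.node (.leaf (2, 277, 1)) (.leaf (21, 132, 19)))))) (.node (.node (.node (.node (.leaf (2, 51, 2)) (.leaf (4, 165, 20))) (.node (.leaf (18, 0, 7)) (.leaf (19, 49, 12)))) (.node (.node (.leaf (3, 0, 3)) (.leaf (3, 61, 3))) (.node (.leaf (4, 388, 19)) (.leaf (21, 14, 14))))) (.node (.node (.node (.leaf (2, 152, 2)) (.leaf (5, 356, 23))) (.node (.leaf (2, 379, 2)) (.leaf (19, 489, 8)))) (.node (.node (.leaf (3, 88, 3)) (.leaf (9, 62, 33))) (.node (.leaf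 (37, 69, 0)) (.leaf (21, 220, 39)))))))) (.node (.node (.node (.node (.node (.node (.leaf (2, 4, 2)) (.leaf (19, 19, 8))) (.node (.leaf (3, 184, 3)) (.leaf (15, 409, 82)))) (.node (.node (.leaf (2, 197, 2)) (.leaf (26, 146, 14))) (.node (.leaf (19, 80, 16)) (.leaf (20, 220, 24))))) (.node (.node (.node (.leaf (2, 93, 2)) (.leaf (3, 118, 2))) (.node (.leaf (30, 0, 10)) (.leaf (19, 110, 16)))) (.node (.node (.leaf (3, 25, 3)) (.leaf (4, 85, 29))) (.node (.leaf (37, 41, 16)) (.leaf (21, 107, 79)))))) (.node (.node (.node (.node (.leaf (2, 41, 2)) (.leaf (2, 267, 2))) (.node (.leaf (14, 0, 9)) (.leaf (19, 29, 5)))) (.node (.node (.leaf (2, 360, 2)) (.leaf (2, 95, 1))) (.node (.leaf (36, 80, 3)) (.leaf (20, 476, 2))))) (.node (.node (.node (.leaf (2, 138, 2)) (.leaf (5, 256, 23))) (.node (.leaf (2, 244, 1)) (.leaf (19, 393, 17)))) (.node (.node (.leaf (3, 71, 3)) (.leaf (6, 18, 31))) (.node (.leaf (35, 38, 19)) (.leaf (21, 188, 78))))))) (.node (.node (.node (.node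 (.node (.leaf (2, 20, 2)) (.leaf (4, 125, 28))) (.node (.leaf (6, 0, 8)) (.leaf (18, 376, 69)))) (.node (.node (.leaf (2, 258, 2)) (.leaf (35, 2, 17))) (.node (.leaf (2, 60, 1)) (.leaf (20, 374, 30))))) (.node (.node (.node (.leaf (2, 115, 2)) (.leaf (3, 256, 3))) (.node (.leaf (2, 39, 2)) (.leaf (19, 210, 17)))) (.node (.node (.leaf (3, 47, 3)) (.leaf (4, 231, 29))) (.node (.leaf (19, 229, 16)) (.leaf (21, 146, 77)))))) (.node (.node (.node (.node (.leaf (2, 58, 2)) (.leaf (5, 152, 24))) (.node (.leaf (21, 0, 9)) (.leaf (19, 66, 3)))) (.node (.node (.leaf (3, 8, 3)) (.leaf (3, 273, 1))) (.node (.leaf (3, 263, 2)) (.leaf (21, 72, 68))))) (.node (.node (.node (.leaf (2, 161, 2)) (.leaf (19, 57, 1))) (.node (.leaf (3, 94, 1)) (.leaf (20, 71, 71)))) (.node (.node (.leaf (3, 125, 3)) (.leaf (10, 54, 67))) (.node (.leaf (19, 52, 2)) (.leaf (21, 240, 40))))))))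

/-- data -/
def cert0_01 : Trie (ℕ × ℕ × ℕ) := .node (.node (.node (.node (.node (.node (.node (.leaf (2, 0, 2)) (.leaf (5, 179, 2))) (.node (.leaf (3, 169, 3)) (.leaf (15, 91, 90)))) (.node (.node (.leaf (2, 181, 2)) (.leaf (26, 54, 13))) (.node (.leaf (5, 314, 26)) (.leaf (20, 207, 30))))) (.node (.node (.node (.leaf (2, 80, 2)) (.leaf (2, 32, 1))) (.node (.leaf (28, 0, 10)) (.leaf (19, 90, 6)))) (.node (.node (.leaf (3, 21, 3)) (.leaf (4, 40, 26))) (.node (.leaf (19, 184, 9)) (.leaf (21, 101, 53)))))) (.node (.node (.node (.node (.leaf (2, 30, 2)) (.leaf (36, 5, 6))) (.node (.leaf (12, 0, 10)) (.leaf (19, 23, 11)))) (.node (.node (.leaf (2, 342, 2)) (.leaf (37, 33, 14))) (.node (.leaf (4, 10, 23)) (.leaf (20, 434, 28))))) (.node (.node (.node (.leaf (2, 131, 2)) (.leaf (5, 122, 4))) (.node (.leaf (2, 194, 1)) (.leaf (19, 364, 8)))) (.node (.node (.leaf (3, 67, 3)) (.leaf (5, 77, 18))) (.node (.leaf (2, 255, 1)) (.leaf (21, 176, 8))))))) (.node (.node (.node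 (.node (.node (.leaf (2, 17, 2)) (.leaf (5, 402, 7))) (.node (.leaf (4, 0, 10)) (.leaf (18, 142, 3)))) (.node (.node (.leaf (2, 229, 2)) (.leaf (32, 9, 31))) (.node (.leaf (26, 9, 8)) (.leaf (20, 335, 9))))) (.node (.node (.node (.leaf (2, 111, 2)) (.leaf (19, 363, 6))) (.node (.leaf (39, 0, 11)) (.leaf (19, 185, 3)))) (.node (.node (.leaf (3, 42, 3)) (.leaf (4, 155, 24))) (.node (.leaf (19, 40, 6)) (.leaf (21, 139, 59)))))) (.node (.node (.node (.node (.leaf (2, 54, 2)) (.leaf (4, 404, 11))) (.node (.leaf (19, 50, 8)) (.leaf (19, 60, 8)))) (.node (.node (.leaf (3, 3, 3)) (.leaf (3, 122, 2))) (.node (.leaf (36, 24, 3)) (.leaf (21, 53, 92))))) (.node (.node (.node (.leaf (2, 156, 2)) (.leaf (5, 471, 9))) (.node (.leaf (2, 420, 1)) (.leaf (20, 45, 8)))) (.node (.node (.leaf (3, 100, 3)) (.leaf (9, 281, 87))) (.node (.leaf (4, 484, 32)) (.leaf (21, 234, 28)))))))) (.node (.node (.node (.node (.node (.node (.leaf (2, 7, 2)) (.leaf (26, 7, 14))) (.node (.leaf (3,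 218, 3)) (.leaf (16, 16, 89)))) (.node (.node (.leaf (2, 205, 2)) (.leaf (26, 159, 8))) (.node (.leaf (19, 269, 8)) (.leaf (20, 243, 40))))) (.node (.node (.node (.leaf (2, 105, 2)) (.leaf (19, 7, 12))) (.node (.leaf (32, 0, 11)) (.leaf (19, 115, 16)))) (.node (.node (.leaf (3, 31, 3)) (.leaf (4, 102, 4))) (.node (.leaf (2, 217, 1)) (.leaf (21, 125, 34)))))) (.node (.node (.node (.node (.leaf (2, 44, 2)) (.leaf (4, 92, 3))) (.node (.leaf (16, 0, 6)) (.leaf (19, 43, 3)))) (.node (.node (.leaf (2, 427, 2)) (.leaf (2, 316, 2))) (.node (.leaf (3, 388, 3)) (.leaf (20, 511, 68))))) (.node (.node (.node (.leaf (2, 142, 2)) (.leaf (5, 313, 11))) (.node (.leaf (2, 313, 1)) (.leaf (19, 467, 1)))) (.node (.node (.leaf (3, 83, 3)) (.leaf (8, 22, 19))) (.node (.leaf (4, 320, 24)) (.leaf (21, 203, 54))))))) (.node (.node (.node (.node (.node (.leaf (2, 23, 2)) (.leaf (5, 52, 7))) (.node (.leaf (8, 0, 5)) (.leaf (19, 5, 12)))) (.node (.node (.leaf (2, 286, 2)) (.leaf (35,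 74, 3))) (.node (.leaf (2, 402, 1)) (.leaf (20, 398, 92))))) (.node (.node (.node (.leaf (2, 121, 2)) (.leaf (4, 122, 3))) (.node (.leaf (2, 76, 1)) (.leaf (19, 296, 4)))) (.node (.node (.leaf (3, 52, 3)) (.leaf (4, 374, 23))) (.node (.leaf (3, 33, 3)) (.leaf (21, 158, 80)))))) (.node (.node (.node (.node (.leaf (2, 66, 2)) (.leaf (36, 43, 14))) (.node (.leaf (23, 0, 8)) (.leaf (19, 74, 5)))) (.node (.node (.leaf (3, 12, 3)) (.leaf (4, 6, 11))) (.node (.leaf (5, 83, 23)) (.leaf (21, 79, 82))))) (.node (.node (.node (.leaf (2, 168, 2)) (.leaf (19, 76, 13))) (.node (.leaf (3, 151, 2)) (.leaf (20, 105, 58)))) (.node (.node (.leaf (3, 145, 3)) (.leaf (13, 1, 36))) (.node (.leaf (2, 37, 0)) (.leaf (21, 249, 93))))))))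

/-- data -/
def cert0_10 : Trie (ℕ × ℕ × ℕ) := .node (.node (.node (.node (.node (.node (.node (.leaf (1, 0, 5)) (.leaf (4, 313, 10))) (.node (.leaf (3, 164, 3)) (.leaf (14, 422, 5)))) (.node (.node (.leaf (2, 175, 2)) (.leaf (20, 447, 100))) (.node (.leaf (4, 16, 7)) (.leaf (20, 174, 72))))) (.node (.node (.node (.leaf (2, 74, 2)) (.leaf (37, 21, 11))) (.node (.leaf (27, 0, 10)) (.leaf (19, 88, 7)))) (.node (.node (.leaf (3, 18, 3)) (.leaf (4, 26, 26))) (.node (.leaf (19, 75, 3)) (.leaf (21, 100, 79)))))) (.node (.node (.node (.node (.leaf (2, 28, 2)) (.leaf (19, 244, 8))) (.node (.leaf (11, 0, 10)) (.leaf (19, 11, 7)))) (.node (.node (.leaf (2, 335, 2)) (.leaf (37, 18, 18))) (.node (.leaf (4, 1, 13)) (.leaf (20, 428, 103))))) (.node (.node (.node (.leaf (2, 127, 2)) (.leaf (4, 441, 11))) (.node (.leaf (2, 179, 2)) (.leaf (19, 327, 8)))) (.node (.node (.leaf (3, 65, 3)) (.leaf (5, 63, 14))) (.node (.leaf (19, 112, 13)) (.leaf (21, 175, 92))))))) (.node (.node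 (.node (.node (.node (.leaf (2, 13, 2)) (.leaf (2, 183, 1))) (.node (.leaf (3, 350, 3)) (.leaf (18, 64, 76)))) (.node (.node (.leaf (2, 226, 2)) (.leaf (29, 35, 61))) (.node (.leaf (26, 6, 10)) (.leaf (20, 326, 80))))) (.node (.node (.node (.leaf (2, 110, 2)) (.leaf (19, 83, 12))) (.node (.leaf (38, 0, 12)) (.leaf (19, 163, 3)))) (.node (.node (.leaf (3, 38, 3)) (.leaf (4, 130, 9))) (.node (.leaf (19, 14, 6)) (.leaf (21, 135, 69)))))) (.node (.node (.node (.node (.leaf (2, 53, 2)) (.leaf (4, 235, 20))) (.node (.leaf (19, 1, 14)) (.leaf (19, 53, 7)))) (.node (.node (.leaf (3, 1, 3)) (.leaf (3, 120, 0))) (.node (.leaf (19, 207, 3)) (.leaf (21, 20, 47))))) (.node (.node (.node (.leaf (2, 154, 2)) (.leaf (5, 401, 31))) (.node (.leaf (2, 415, 1)) (.leaf (20, 42, 62)))) (.node (.node (.leaf (3, 97, 3)) (.leaf (9, 179, 84))) (.node (.leaf (2, 69, 1)) (.leaf (21, 225, 67)))))))) (.node (.node (.node (.node (.node (.node (.leaf (2, 6, 1)) (.leaf (19, 25, 4))) (.node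 (.leaf (3, 195, 3)) (.leaf (15, 484, 102)))) (.node (.node (.leaf (2, 200, 2)) (.leaf (26, 148, 7))) (.node (.leaf (19, 133, 14)) (.leaf (20, 232, 9))))) (.node (.node (.node (.leaf (2, 99, 2)) (.leaf (3, 182, 3))) (.node (.leaf (31, 0, 10)) (.leaf (19, 114, 4)))) (.node (.node (.leaf (3, 29, 3)) (.leaf (4, 94, 11))) (.node (.leaf (2, 98, 2)) (.leaf (21, 112, 77)))))) (.node (.node (.node (.node (.leaf (2, 43, 2)) (.leaf (3, 365, 3))) (.node (.leaf (15, 0, 10)) (.leaf (19, 34, 9)))) (.node (.node (.leaf (2, 395, 2)) (.leaf (2, 174, 2))) (.node (.leaf (2, 315, 1)) (.leaf (20, 494, 53))))) (.node (.node (.node (.leaf (2, 139, 2)) (.leaf (5, 261, 5))) (.node (.leaf (2, 293, 2)) (.leaf (19, 410, 14)))) (.node (.node (.leaf (3, 77, 3)) (.leaf (7, 148, 41))) (.node (.leaf (3, 246, 2)) (.leaf (21, 196, 59))))))) (.node (.node (.node (.node (.node (.leaf (2, 22, 2)) (.leaf (4, 304, 32))) (.node (.leaf (7, 0, 12)) (.leaf (19, 4, 14)))) (.node (.node (.leaf (2, 265, 2))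 (.leaf (35, 11, 15))) (.node (.leaf (2, 92, 2)) (.leaf (20, 384, 100))))) (.node (.node (.node (.leaf (2, 117, 2)) (.leaf (3, 317, 2))) (.node (.leaf (2, 62, 2)) (.leaf (19, 260, 13)))) (.node (.node (.leaf (3, 48, 3)) (.leaf (4, 371, 30))) (.node (.leaf (37, 45, 7)) (.leaf (21, 156, 66)))))) (.node (.node (.node (.node (.leaf (2, 63, 2)) (.leaf (35, 117, 9))) (.node (.leaf (22, 0, 13)) (.leaf (19, 73, 3)))) (.node (.node (.leaf (3, 10, 3)) (.leaf (3, 295, 2))) (.node (.leaf (3, 285, 3)) (.leaf (21, 78, 92))))) (.node (.node (.node (.leaf (2, 163, 2)) (.leaf (19, 65, 8))) (.node (.leaf (3, 147, 2)) (.leaf (20, 101, 13)))) (.node (.node (.leaf (3, 135, 3)) (.leaf (11, 18, 74))) (.node (.leaf (36, 6, 8)) (.leaf (21, 248, 96))))))))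

/-- data -/
def cert0_11 : Trie (ℕ × ℕ × ℕ) := .node (.node (.node (.node (.node (.node (.node (.leaf (2, 2, 2)) (.leaf (5, 315, 5))) (.node (.leaf (3, 173, 3)) (.leaf (15, 166, 22)))) (.node (.node (.leaf (2, 192, 2)) (.leaf (26, 96, 19))) (.node (.leaf (19, 27, 7)) (.leaf (20, 215, 59))))) (.node (.node (.node (.leaf (2, 89, 2)) (.leaf (2, 260, 1))) (.node (.leaf (29, 0, 10)) (.leaf (19, 108, 11)))) (.node (.node (.leaf (3, 24, 3)) (.leaf (4, 55, 13))) (.node (.leaf (26, 16, 15)) (.leaf (21, 103, 43)))))) (.node (.node (.node (.node (.leaf (2, 35, 2)) (.leaf (37, 13, 7))) (.node (.leaf (13, 0, 11)) (.leaf (19, 28, 12)))) (.node (.node (.leaf (2, 345, 2)) (.leaf (37, 94, 3))) (.node (.leaf (4, 244, 7)) (.leaf (20, 438, 16))))) (.node (.node (.node (.leaf (2, 132, 2)) (.leaf (5, 159, 5))) (.node (.leaf (2, 207, 0)) (.leaf (19, 378, 10)))) (.node (.node (.leaf (3, 68, 3)) (.leaf (5, 417, 1))) (.node (.leaf (19, 103, 6)) (.leaf (21, 186, 75))))))) (.node (.node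 (.node (.node (.node (.leaf (2, 19, 2)) (.leaf (26, 71, 14))) (.node (.leaf (5, 0, 11)) (.leaf (18, 292, 101)))) (.node (.node (.leaf (2, 240, 2)) (.leaf (32, 64, 37))) (.node (.leaf (35, 3, 10)) (.leaf (20, 370, 22))))) (.node (.node (.node (.leaf (2, 113, 2)) (.leaf (3, 91, 3))) (.node (.leaf (40, 0, 8)) (.leaf (19, 190, 3)))) (.node (.node (.leaf (3, 45, 3)) (.leaf (4, 190, 29))) (.node (.leaf (19, 104, 0)) (.leaf (21, 144, 88)))))) (.node (.node (.node (.node (.leaf (2, 56, 2)) (.leaf (5, 43, 4))) (.node (.leaf (20, 0, 8)) (.leaf (19, 63, 5)))) (.node (.node (.leaf (3, 5, 3)) (.leaf (3, 191, 2))) (.node (.leaf (2, 304, 2)) (.leaf (21, 57, 52))))) (.node (.node (.node (.leaf (2, 159, 2)) (.leaf (6, 62, 11))) (.node (.leaf (2, 434, 2)) (.leaf (20, 50, 42)))) (.node (.node (.leaf (3, 114, 3)) (.leaf (9, 330, 94))) (.node (.leaf (19, 13, 15)) (.leaf (21, 238, 58)))))))) (.node (.node (.node (.node (.node (.node (.leaf (2, 9, 2)) (.leaf (26, 27, 7))) (.node (.leaf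 (3, 250, 3)) (.leaf (16, 25, 18)))) (.node (.node (.leaf (2, 221, 2)) (.leaf (26, 173, 2))) (.node (.leaf (26, 0, 11)) (.leaf (20, 281, 63))))) (.node (.node (.node (.leaf (2, 107, 2)) (.leaf (19, 12, 12))) (.node (.leaf (33, 0, 11)) (.leaf (19, 119, 11)))) (.node (.node (.leaf (3, 34, 3)) (.leaf (4, 108, 24))) (.node (.leaf (2, 269, 2)) (.leaf (21, 127, 24)))))) (.node (.node (.node (.node (.leaf (2, 49, 2)) (.leaf (4, 98, 2))) (.node (.leaf (17, 0, 11)) (.leaf (19, 44, 13)))) (.node (.node (.leaf (2, 458, 2)) (.leaf (2, 353, 1))) (.node (.leaf (4, 319, 9)) (.leaf (21, 12, 77))))) (.node (.node (.node (.leaf (2, 148, 2)) (.leaf (5, 331, 10))) (.node (.leaf (2, 371, 2)) (.leaf (19, 468, 11)))) (.node (.node (.leaf (3, 86, 3)) (.leaf (8, 246, 31))) (.node (.leaf (19, 72, 7)) (.leaf (21, 209, 58))))))) (.node (.node (.node (.node (.node (.leaf (2, 26, 2)) (.leaf (5, 157, 6))) (.node (.leaf (9, 0, 8)) (.leaf (19, 9, 8)))) (.node (.node (.leaf (2, 299, 2)) (.leaf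 (36, 71, 11))) (.node (.leaf (3, 129, 2)) (.leaf (20, 414, 24))))) (.node (.node (.node (.leaf (2, 123, 2)) (.leaf (4, 381, 23))) (.node (.leaf (2, 103, 2)) (.leaf (19, 313, 6)))) (.node (.node (.leaf (3, 55, 3)) (.leaf (4, 379, 2))) (.node (.leaf (3, 167, 3)) (.leaf (21, 167, 77)))))) (.node (.node (.node (.node (.leaf (2, 70, 2)) (.leaf (37, 2, 6))) (.node (.leaf (24, 0, 12)) (.leaf (19, 78, 10)))) (.node (.node (.leaf (3, 14, 3)) (.leaf (4, 9, 13))) (.node (.leaf (19, 20, 13)) (.leaf (21, 85, 50))))) (.node (.node (.node (.leaf (2, 170, 2)) (.leaf (19, 106, 3))) (.node (.leaf (3, 178, 1)) (.leaf (20, 145, 98)))) (.node (.node (.leaf (3, 158, 3)) (.leaf (13, 403, 35))) (.node (.leaf (2, 119, 1)) (.leaf (21, 252, 99))))))))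

/-- data -/
def cert0 : Trie (ℕ × ℕ × ℕ) := .node (.node (cert0_00) (cert0_01)) (.node (cert0_10) (cert0_11))

/-- data -/
def pot0_00 : Trie (Vec) := .node (.node (.node (.node (.node (.node (.node (.leaf ([])) (.leaf ([4, 5]))) (.node (.leaf ([4, 4])) (.leaf ([5, 6])))) (.node (.node (.leaf ([2, 4])) (.leaf ([5, 5]))) (.node (.leaf ([5, 4])) (.leaf ([7, 5]))))) (.node (.node (.node (.leaf ([2, 3])) (.leaf ([4, 6]))) (.node (.leaf ([4, 4])) (.leaf ([5, 6])))) (.node (.node (.leaf ([3, 4])) (.leaf ([4, 6]))) (.node (.leaf ([5, 4])) (.leaf ([5, 7])))))) (.node (.node (.node (.node (.leaf ([3, 1])) (.leaf ([6, 4]))) (.node (.leaf ([3, 5])) (.leaf ([5, 6])))) (.node (.node (.leaf ([3, 4])) (.leaf ([5, 5]))) (.node (.leaf ([4, 5])) (.leaf ([6, 6]))))) (.node (.node (.node (.leaf ([4, 2])) (.leaf ([4, 6]))) (.node (.leaf ([3, 5])) (.leaf ([5, 6])))) (.node (.node (.leaf ([3, 4])) (.leaf ([2, 8]))) (.node (.leaf ([5, 4])) (.leaf ([8, 5]))))))) (.node (.node (.node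 (.node (.node (.leaf ([2, 1])) (.leaf ([4, 5]))) (.node (.leaf ([4, 4])) (.leaf ([6, 5])))) (.node (.node (.leaf ([1, 5])) (.leaf ([6, 4]))) (.node (.leaf ([3, 6])) (.leaf ([7, 5]))))) (.node (.node (.node (.leaf ([2, 3])) (.leaf ([5, 5]))) (.node (.leaf ([3, 5])) (.leaf ([4, 7])))) (.node (.node (.leaf ([4, 3])) (.leaf ([3, 7]))) (.node (.leaf ([3, 6])) (.leaf ([6, 6])))))) (.node (.node (.node (.node (.leaf ([1, 3])) (.leaf ([5, 5]))) (.node (.leaf ([3, 5])) (.leaf ([6, 5])))) (.node (.node (.leaf ([4, 3])) (.leaf ([5, 5]))) (.node (.leaf ([4, 5])) (.leaf ([5, 7]))))) (.node (.node (.node (.leaf ([2, 4])) (.leaf ([5, 5]))) (.node (.leaf ([3, 5])) (.leaf ([3, 8])))) (.node (.node (.leaf ([6, 2])) (.leaf ([7, 4]))) (.node (.leaf ([4, 5])) (.leaf ([6, 7])))))))) (.node (.node (.node (.node (.node (.node (.leaf ([1, 1])) (.leaf ([3, 6]))) (.node (.leaf ([4, 4])) (.leaf ([7, 4])))) (.node (.node (.leaf ([2, 4])) (.leaf ([4, 6]))) (.node (.leaf ([4, 5])) (.leaf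 ([5, 7]))))) (.node (.node (.node (.leaf ([3, 2])) (.leaf ([6, 4]))) (.node (.leaf ([5, 3])) (.leaf ([5, 6])))) (.node (.node (.leaf ([4, 3])) (.leaf ([5, 5]))) (.node (.leaf ([4, 5])) (.leaf ([6, 6])))))) (.node (.node (.node (.node (.leaf ([2, 2])) (.leaf ([7, 3]))) (.node (.leaf ([3, 5])) (.leaf ([5, 6])))) (.node (.node (.leaf ([3, 4])) (.leaf ([4, 6]))) (.node (.leaf ([4, 5])) (.leaf ([6, 6]))))) (.node (.node (.node (.leaf ([3, 3])) (.leaf ([4, 6]))) (.node (.leaf ([3, 5])) (.leaf ([4, 7])))) (.node (.node (.leaf ([3, 4])) (.leaf ([6, 5]))) (.node (.leaf ([3, 6])) (.leaf ([7, 6]))))))) (.node (.node (.node (.node (.node (.leaf ([1, 2])) (.leaf ([3, 6]))) (.node (.leaf ([4, 4])) (.leaf ([5, 6])))) (.node (.node (.leaf ([4, 3])) (.leaf ([5, 5]))) (.node (.leaf ([4, 5])) (.leaf ([7, 5]))))) (.node (.node (.node (.leaf ([4, 2])) (.leaf ([5, 5]))) (.node (.leaf ([2, 6])) (.leaf ([5, 6])))) (.node (.node (.leaf ([3, 4])) (.leaf ([3, 7]))) (.node (.leaf ([4,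 5])) (.leaf ([5, 7])))))) (.node (.node (.node (.node (.leaf ([3, 2])) (.leaf ([4, 6]))) (.node (.leaf ([3, 5])) (.leaf ([6, 5])))) (.node (.node (.leaf ([3, 4])) (.leaf ([5, 5]))) (.node (.leaf ([5, 4])) (.leaf ([7, 5]))))) (.node (.node (.node (.leaf ([3, 3])) (.leaf ([5, 5]))) (.node (.leaf ([6, 3])) (.leaf ([7, 5])))) (.node (.node (.leaf ([5, 3])) (.leaf ([5, 6]))) (.node (.leaf ([3, 6])) (.leaf ([6, 7]))))))))

/-- data -/
def pot0_01 : Trie (Vec) := .node (.node (.node (.node (.node (.node (.node (.leaf ([0, 1])) (.leaf ([2, 7]))) (.node (.leaf ([3, 5])) (.leaf ([7, 4])))) (.node (.node (.leaf ([2, 4])) (.leaf ([5, 5]))) (.node (.leaf ([4, 5])) (.leaf ([7, 5]))))) (.node (.node (.node (.leaf ([3, 2])) (.leaf ([7, 3]))) (.node (.leaf ([4, 4])) (.leaf ([7, 4])))) (.node (.node (.leaf ([2, 5])) (.leaf ([5, 5]))) (.node (.leaf ([4, 5])) (.leaf ([6, 6])))))) (.node (.node (.node (.node (.leaf ([2, 2])) (.leaf ([5, 5]))) (.node (.leaf ([4, 4])) (.leaf ([5,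 6])))) (.node (.node (.leaf ([4, 3])) (.leaf ([6, 4]))) (.node (.leaf ([5, 4])) (.leaf ([4, 8]))))) (.node (.node (.node (.leaf ([4, 2])) (.leaf ([5, 5]))) (.node (.leaf ([4, 4])) (.leaf ([5, 6])))) (.node (.node (.leaf ([3, 4])) (.leaf ([7, 4]))) (.node (.leaf ([4, 5])) (.leaf ([8, 5]))))))) (.node (.node (.node (.node (.node (.leaf ([2, 1])) (.leaf ([3, 6]))) (.node (.leaf ([4, 4])) (.leaf ([6, 5])))) (.node (.node (.leaf ([4, 3])) (.leaf ([5, 5]))) (.node (.leaf ([5, 4])) (.leaf ([7, 5]))))) (.node (.node (.node (.leaf ([2, 3])) (.leaf ([4, 6]))) (.node (.leaf ([3, 5])) (.leaf ([5, 6])))) (.node (.node (.leaf ([3, 4])) (.leaf ([3, 7]))) (.node (.leaf ([5, 4])) (.leaf ([4, 8])))))) (.node (.node (.node (.node (.leaf ([3, 2])) (.leaf ([6, 4]))) (.node (.leaf ([3, 5])) (.leaf ([4, 7])))) (.node (.node (.leaf ([3, 4])) (.leaf ([5, 5]))) (.node (.leaf ([4, 5])) (.leaf ([4, 8]))))) (.node (.node (.node (.leaf ([2, 4])) (.leaf ([5, 5]))) (.node (.leaf ([2, 6]))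 (.leaf ([3, 8])))) (.node (.node (.leaf ([5, 3])) (.leaf ([5, 6]))) (.node (.leaf ([4, 5])) (.leaf ([5, 8])))))))) (.node (.node (.node (.node (.node (.node (.leaf ([0, 2])) (.leaf ([3, 6]))) (.node (.leaf ([4, 4])) (.leaf ([5, 6])))) (.node (.node (.leaf ([2, 4])) (.leaf ([3, 7]))) (.node (.leaf ([5, 4])) (.leaf ([8, 4]))))) (.node (.node (.node (.leaf ([2, 3])) (.leaf ([5, 5]))) (.node (.leaf ([3, 5])) (.leaf ([4, 7])))) (.node (.node (.leaf ([4, 3])) (.leaf ([3, 7]))) (.node (.leaf ([4, 5])) (.leaf ([5, 7])))))) (.node (.node (.node (.node (.leaf ([1, 3])) (.leaf ([6, 4]))) (.node (.leaf ([3, 5])) (.leaf ([5, 6])))) (.node (.node (.leaf ([4, 3])) (.leaf ([3, 7]))) (.node (.leaf ([4, 5])) (.leaf ([5, 7]))))) (.node (.node (.node (.leaf ([3, 3])) (.leaf ([5, 5]))) (.node (.leaf ([3, 5])) (.leaf ([4, 7])))) (.node (.node (.leaf ([2, 5])) (.leaf ([7, 4]))) (.node (.leaf ([4, 5])) (.leaf ([5, 8]))))))) (.node (.node (.node (.node (.node (.leaf ([3, 1])) (.leaf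 ([7, 3]))) (.node (.leaf ([3, 5])) (.leaf ([4, 7])))) (.node (.node (.leaf ([3, 4])) (.leaf ([5, 5]))) (.node (.leaf ([5, 4])) (.leaf ([6, 6]))))) (.node (.node (.node (.leaf ([3, 3])) (.leaf ([4, 6]))) (.node (.leaf ([3, 5])) (.leaf ([4, 7])))) (.node (.node (.leaf ([2, 5])) (.leaf ([3, 7]))) (.node (.leaf ([4, 5])) (.leaf ([6, 7])))))) (.node (.node (.node (.node (.leaf ([2, 3])) (.leaf ([5, 5]))) (.node (.leaf ([5, 3])) (.leaf ([5, 6])))) (.node (.node (.leaf ([3, 4])) (.leaf ([4, 6]))) (.node (.leaf ([4, 5])) (.leaf ([6, 6]))))) (.node (.node (.node (.leaf ([2, 4])) (.leaf ([5, 5]))) (.node (.leaf ([5, 4])) (.leaf ([6, 6])))) (.node (.node (.leaf ([4, 4])) (.leaf ([6, 5]))) (.node (.leaf ([4, 5])) (.leaf ([6, 7]))))))))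

/-- data -/
def pot0_10 : Trie (Vec) := .node (.node (.node (.node (.node (.node (.node (.leaf ([1])) (.leaf ([4, 5]))) (.node (.leaf ([4, 4])) (.leaf ([7, 4])))) (.node (.node (.leaf ([3, 3])) (.leaf ([4, 6]))) (.node (.leaf ([5, 4])) (.leaf ([5, 7]))))) (.node (.node (.node (.leaf ([2, 3])) (.leaf ([4, 6]))) (.node (.leaf ([3, 5])) (.leaf ([4, 7])))) (.node (.node (.leaf ([3, 4])) (.leaf ([5, 5]))) (.node (.leaf ([3, 6])) (.leaf ([5, 7])))))) (.node (.node (.node (.node (.leaf ([2, 2])) (.leaf ([6, 4]))) (.node (.leaf ([5, 3])) (.leaf ([6, 5])))) (.node (.node (.leaf ([5, 2])) (.leaf ([4, 6]))) (.node (.leaf ([5, 4])) (.leaf ([5, 7]))))) (.node (.node (.node (.leaf ([3, 3])) (.leaf ([5, 5]))) (.node (.leaf ([2, 6])) (.leaf ([4, 7])))) (.node (.node (.leaf ([2, 5])) (.leaf ([7, 4]))) (.node (.leaf ([5, 4])) (.leaf ([8, 5]))))))) (.node (.node (.node (.node (.node (.leaf ([1, 2])) (.leaf ([3, 6]))) (.node (.leaf ([5, 3])) (.leaf ([5, 6])))) (.node (.node (.leaf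 ([5, 2])) (.leaf ([6, 4]))) (.node (.leaf ([6, 3])) (.leaf ([6, 6]))))) (.node (.node (.node (.leaf ([1, 4])) (.leaf ([4, 6]))) (.node (.leaf ([4, 4])) (.leaf ([5, 6])))) (.node (.node (.leaf ([3, 4])) (.leaf ([4, 6]))) (.node (.leaf ([6, 3])) (.leaf ([4, 8])))))) (.node (.node (.node (.node (.leaf ([4, 1])) (.leaf ([5, 5]))) (.node (.leaf ([3, 5])) (.leaf ([5, 6])))) (.node (.node (.leaf ([3, 4])) (.leaf ([4, 6]))) (.node (.leaf ([3, 6])) (.leaf ([5, 7]))))) (.node (.node (.node (.leaf ([3, 3])) (.leaf ([4, 6]))) (.node (.leaf ([2, 6])) (.leaf ([5, 6])))) (.node (.node (.leaf ([5, 3])) (.leaf ([6, 5]))) (.node (.leaf ([4, 5])) (.leaf ([6, 7])))))))) (.node (.node (.node (.node (.node (.node (.leaf ([1, 1])) (.leaf ([4, 5]))) (.node (.leaf ([5, 3])) (.leaf ([5, 6])))) (.node (.node (.leaf ([1, 5])) (.leaf ([5, 5]))) (.node (.leaf ([4, 5])) (.leaf ([5, 7]))))) (.node (.node (.node (.leaf ([2, 3])) (.leaf ([5, 5]))) (.node (.leaf ([4, 4])) (.leaf ([4, 7])))) (.node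 (.node (.leaf ([3, 4])) (.leaf ([4, 6]))) (.node (.leaf ([3, 6])) (.leaf ([6, 6])))))) (.node (.node (.node (.node (.leaf ([2, 2])) (.leaf ([6, 4]))) (.node (.leaf ([4, 4])) (.leaf ([5, 6])))) (.node (.node (.leaf ([4, 3])) (.leaf ([4, 6]))) (.node (.leaf ([4, 5])) (.leaf ([6, 6]))))) (.node (.node (.node (.leaf ([2, 4])) (.leaf ([4, 6]))) (.node (.leaf ([2, 6])) (.leaf ([3, 8])))) (.node (.node (.leaf ([2, 5])) (.leaf ([6, 5]))) (.node (.leaf ([5, 4])) (.leaf ([6, 7]))))))) (.node (.node (.node (.node (.node (.leaf ([0, 3])) (.leaf ([2, 7]))) (.node (.leaf ([4, 4])) (.leaf ([5, 6])))) (.node (.node (.leaf ([4, 3])) (.leaf ([4, 6]))) (.node (.leaf ([5, 4])) (.leaf ([6, 6]))))) (.node (.node (.node (.leaf ([4, 2])) (.leaf ([6, 4]))) (.node (.leaf ([4, 4])) (.leaf ([4, 7])))) (.node (.node (.leaf ([3, 4])) (.leaf ([4, 6]))) (.node (.leaf ([4, 5])) (.leaf ([5, 7])))))) (.node (.node (.node (.node (.leaf ([3, 2])) (.leaf ([5, 5]))) (.node (.leaf ([3, 5])) (.leaf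 ([5, 6])))) (.node (.node (.leaf ([3, 4])) (.leaf ([4, 6]))) (.node (.leaf ([4, 5])) (.leaf ([6, 6]))))) (.node (.node (.node (.leaf ([3, 3])) (.leaf ([4, 6]))) (.node (.leaf ([5, 4])) (.leaf ([7, 5])))) (.node (.node (.leaf ([5, 3])) (.leaf ([6, 5]))) (.node (.leaf ([5, 4])) (.leaf ([4, 9]))))))))

/-- data -/
def pot0_11 : Trie (Vec) := .node (.node (.node (.node (.node (.node (.node (.leaf ([2])) (.leaf ([4, 5]))) (.node (.leaf ([5, 3])) (.leaf ([5, 6])))) (.node (.node (.leaf ([3, 3])) (.leaf ([4, 6]))) (.node (.leaf ([5, 4])) (.leaf ([6, 6]))))) (.node (.node (.node (.leaf ([2, 3])) (.leaf ([6, 4]))) (.node (.leaf ([3, 5])) (.leaf ([6, 5])))) (.node (.node (.leaf ([4, 3])) (.leaf ([4, 6]))) (.node (.leaf ([4, 5])) (.leaf ([5, 7])))))) (.node (.node (.node (.node (.leaf ([1, 3])) (.leaf ([6, 4]))) (.node (.leaf ([4, 4])) (.leaf ([5, 6])))) (.node (.node (.leaf ([4, 3])) (.leaf ([5, 5]))) (.node (.leaf ([5, 4])) (.leaf ([6, 6]))))) (.node (.node (.node (.leaf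 ([3, 3])) (.leaf ([4, 6]))) (.node (.leaf ([3, 5])) (.leaf ([4, 7])))) (.node (.node (.leaf ([2, 5])) (.leaf ([6, 5]))) (.node (.leaf ([4, 5])) (.leaf ([6, 7]))))))) (.node (.node (.node (.node (.node (.leaf ([1, 2])) (.leaf ([2, 7]))) (.node (.leaf ([3, 5])) (.leaf ([5, 6])))) (.node (.node (.leaf ([5, 2])) (.leaf ([6, 4]))) (.node (.leaf ([5, 4])) (.leaf ([5, 7]))))) (.node (.node (.node (.leaf ([1, 4])) (.leaf ([5, 5]))) (.node (.leaf ([3, 5])) (.leaf ([4, 7])))) (.node (.node (.leaf ([2, 5])) (.leaf ([4, 6]))) (.node (.leaf ([5, 4])) (.leaf ([6, 6])))))) (.node (.node (.node (.node (.leaf ([2, 3])) (.leaf ([5, 5]))) (.node (.leaf ([4, 4])) (.leaf ([5, 6])))) (.node (.node (.leaf ([4, 3])) (.leaf ([4, 6]))) (.node (.leaf ([5, 4])) (.leaf ([6, 6]))))) (.node (.node (.node (.leaf ([4, 2])) (.leaf ([4, 6]))) (.node (.leaf ([6, 3])) (.leaf ([7, 5])))) (.node (.node (.leaf ([4, 4])) (.leaf ([5, 6]))) (.node (.leaf ([3, 6])) (.leaf ([5, 8])))))))) (.node (.node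 (.node (.node (.node (.node (.leaf ([2, 1])) (.leaf ([3, 6]))) (.node (.leaf ([4, 4])) (.leaf ([4, 7])))) (.node (.node (.leaf ([2, 4])) (.leaf ([3, 7]))) (.node (.leaf ([4, 5])) (.leaf ([7, 5]))))) (.node (.node (.node (.leaf ([1, 4])) (.leaf ([6, 4]))) (.node (.leaf ([4, 4])) (.leaf ([5, 6])))) (.node (.node (.leaf ([3, 4])) (.leaf ([4, 6]))) (.node (.leaf ([3, 6])) (.leaf ([5, 7])))))) (.node (.node (.node (.node (.leaf ([1, 3])) (.leaf ([6, 4]))) (.node (.leaf ([4, 4])) (.leaf ([4, 7])))) (.node (.node (.leaf ([3, 4])) (.leaf ([5, 5]))) (.node (.leaf ([5, 4])) (.leaf ([6, 6]))))) (.node (.node (.node (.leaf ([3, 3])) (.leaf ([5, 5]))) (.node (.leaf ([2, 6])) (.leaf ([4, 7])))) (.node (.node (.leaf ([1, 6])) (.leaf ([6, 5]))) (.node (.leaf ([3, 6])) (.leaf ([5, 8]))))))) (.node (.node (.node (.node (.node (.leaf ([2, 2])) (.leaf ([6, 4]))) (.node (.leaf ([4, 4])) (.leaf ([4, 7])))) (.node (.node (.leaf ([4, 3])) (.leaf ([4, 6]))) (.node (.leaf ([4, 5])) (.leaf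 ([5, 7]))))) (.node (.node (.node (.leaf ([3, 3])) (.leaf ([5, 5]))) (.node (.leaf ([3, 5])) (.leaf ([6, 5])))) (.node (.node (.leaf ([3, 4])) (.leaf ([3, 7]))) (.node (.leaf ([4, 5])) (.leaf ([7, 6])))))) (.node (.node (.node (.node (.leaf ([3, 2])) (.leaf ([5, 5]))) (.node (.leaf ([4, 4])) (.leaf ([4, 7])))) (.node (.node (.leaf ([2, 5])) (.leaf ([3, 7]))) (.node (.leaf ([4, 5])) (.leaf ([5, 7]))))) (.node (.node (.node (.leaf ([3, 3])) (.leaf ([4, 6]))) (.node (.leaf ([6, 3])) (.leaf ([7, 5])))) (.node (.node (.leaf ([4, 4])) (.leaf ([5, 6]))) (.node (.leaf ([3, 6])) (.leaf ([9, 5]))))))))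

/-- data -/
def pot0 : Trie (Vec) := .node (.node (pot0_00) (pot0_01)) (.node (pot0_10) (pot0_11))

/-- the table -/
def table0 : Table where
  size := 512
  ngen := 2
  next g x := next0.getK (2 * g + x)
  prev g x := prev0.getK (2 * g + x)
  lab g x := lab0.getK (2 * g + x)
  val g x := val0.getK (2 * g + x)
  rank g x := rank0.getK (2 * g + x)
  tree g := tree0.getK g
  cert j := cert0.getK j
  nded := 513
  rels := [⟨[(0, true), (0, true), (1, true), (1, true), (0, true), (1, false), (1, false)], [(0, true)], []⟩,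
    ⟨[(1, true), (1, true), (0, true), (1, true), (0, true), (1, true), (0, false), (0, false), (1, false), (0, false), (1, false)], [(1, true)], []⟩,
    ⟨[(0, true), (0, true), (0, true)], [], [0, 0, 0, 0, 0, 0, 0, 0, 0, 0, 0, 0, 0, 0, 0, 0, 0, 0, 0, 0, 0, 0, 0, 0, 0, 0, 0, 0, 0, 0, 0, 0, 0, 0, 0, 0, 0, 0, 0, 0, 0, 0, 1]⟩,
    ⟨[(1, true), (1, true), (1, true), (1, true)], [], [0, 0, 0, 0, 0, 0, 0, 0, 0, 0, 0, 0, 0, 0, 0, 0, 0, 0, 0, 0, 0, 0, 0, 0, 0, 0, 0, 0, 0, 0, 0, 0, 0, 0, 0, 0, 0, 0, 0, 0, 0, 0, 0, 1]⟩,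
    ⟨[(0, true), (1, true), (0, true), (0, true), (1, true), (1, true), (0, true), (0, true), (1, true), (1, true), (0, true), (1, false), (1, false), (0, false), (1, false), (1, false), (0, false), (1, false), (1, false), (1, false), (0, false), (1, true), (1, true), (0, false), (1, false), (1, false), (0, false), (0, false), (1, true), (1, true), (0, false), (1, false), (1, false), (0, false), (0, false)], [], [0, 0, 0, 0, 0, 0, 0, 0, 0, 0, 0, 0, 0, 0, 0, 0, 0, 0, 0, 0, 0, 0, 0, 0, 0, 0, 0, 0, 0, 0, 0, 0, 0, 0, 0, 0, 0, 0, 0, 0, 0, 0, 0, 0, 1]⟩,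
    ⟨[(0, true), (1, true), (0, true), (1, true), (1, true), (0, true), (1, true), (1, true), (0, true), (0, true), (1, true), (1, true), (0, false), (0, false), (1, false), (1, false), (0, false), (0, false), (1, false), (1, false), (1, false), (0, false), (1, true), (1, true), (0, false), (1, false), (1, false), (0, false), (0, false), (1, true), (1, true), (0, false), (1, false), (1, false), (0, false), (0, false)], [], [0, 0, 0, 0, 0, 0, 0, 0, 0, 0, 0, 0, 0, 0, 0, 0, 0, 0, 0, 0, 0, 0, 0, 0, 0, 0, 0, 0, 0, 0, 0, 0, 0, 0, 0, 0, 0, 0, 0, 0, 0, 0, 0, 0, 0, 1]⟩,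
    ⟨[(1, true), (0, true), (0, true), (1, true), (1, true), (0, true), (1, true), (0, true), (0, true), (1, false), (1, false), (0, false), (1, false), (0, false), (1, true), (0, true), (0, true), (1, true), (0, true), (1, true), (0, false), (0, false), (1, false), (0, false), (1, true), (0, true), (1, true), (0, true), (1, true), (0, false), (0, false), (1, false), (0, false), (1, true), (0, true), (1, true), (0, true), (1, true), (0, false), (0, false), (1, false), (0, false), (1, true), (0, true), (1, true), (0, true), (1, true), (0, false), (0, false), (1, false), (0, false), (1, true), (0, false), (1, false), (1, false), (0, false), (0, false), (1, true), (1, true), (0, false), (1, false), (1, false), (0, false), (0, false), (1, true), (0, true), (1, true), (0, true), (0, true), (1, false), (0, false), (1, false), (0, false), (1, false), (0, true), (1, true), (0, true), (0, true), (1, false), (0, false), (1, false), (0, false), (1, false), (0, true), (1,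 true), (0, true), (0, true), (1, false), (0, false), (1, false), (0, false), (1, false), (1, false)], [], [0, 0, 0, 0, 0, 0, 0, 0, 0, 0, 0, 0, 0, 0, 0, 0, 0, 0, 0, 0, 0, 0, 0, 0, 0, 0, 0, 0, 0, 0, 0, 0, 0, 0, 0, 0, 0, 0, 0, 0, 0, 0, 0, 0, 0, 0, 1]⟩,
    ⟨[(0, true), (1, true), (0, true), (0, true), (1, true), (1, true), (0, true), (0, true), (1, true), (0, true), (0, true), (1, true), (1, true), (0, false), (0, false), (1, false), (1, false), (0, false), (1, false), (1, false), (1, false), (0, false), (1, false), (0, false), (1, true), (0, true), (1, true), (0, true), (1, true), (0, false), (0, false), (1, false), (0, false), (1, true), (0, false), (1, false), (1, false), (0, false), (0, false), (1, true), (0, true), (1, true), (0, true), (0, true), (1, false), (0, false), (1, false), (0, false), (1, false), (1, false), (0, true), (0, true), (1, true), (1, true), (0, true), (1, false), (0, true), (1, true), (0, true), (0, true), (1, false), (0, false), (1, false),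 (0, false), (1, false), (1, false), (0, true), (0, true), (1, true), (1, true), (0, true), (0, true), (1, true), (0, true), (1, true), (0, false), (0, false), (1, false), (0, false), (1, true), (0, false), (1, false), (1, false), (0, false), (0, false), (1, true), (0, true), (1, true), (0, true), (0, true), (1, false), (0, false), (1, false), (0, false), (1, false), (1, false)], [], [0, 0, 0, 0, 0, 0, 0, 0, 0, 0, 0, 0, 0, 0, 0, 0, 0, 0, 0, 0, 0, 0, 0, 0, 0, 0, 0, 0, 0, 0, 0, 0, 0, 0, 0, 0, 0, 0, 0, 0, 0, 0, 0, 0, 0, 0, 0, 1]⟩,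
    ⟨[(1, true), (0, true), (1, true), (1, true), (1, true), (0, true), (1, false), (1, false), (0, false), (1, false), (0, false), (1, true), (0, true), (1, true), (0, true), (1, true), (0, false), (0, false), (1, false), (0, false), (1, true), (0, false), (1, false), (1, false), (0, false), (0, false), (1, true), (1, true), (0, false), (1, false), (1, false), (0, false), (0, false), (1, true), (0, true), (1, true), (0, true), (0, true), (1, false), (0, false), (1, false), (0, false), (1, false), (0, true), (1, true), (0, true), (0, true), (1, false), (0, false), (1, false), (0, false), (1, false), (0, true), (1, true), (0, true), (0, true), (1, false), (0, false), (1, false), (0, false), (1, false), (0, true), (1, true), (0, true), (0, true), (1, false), (0, false), (1, false), (0, false), (0, false), (1, false), (1, false), (0, false), (0, false), (1, true), (0, true), (1, true), (0, true), (0, true), (1, false), (0, false), (1, false), (0, false), (0, false),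 (1, false), (1, false), (0, false), (0, false), (1, true), (0, true), (1, true), (0, true), (0, true), (1, false), (0, false), (1, false), (0, false), (1, false), (1, false)], [], [0, 0, 0, 0, 0, 0, 0, 0, 0, 0, 0, 0, 0, 0, 0, 0, 0, 0, 0, 0, 0, 0, 0, 0, 0, 0, 0, 0, 0, 0, 0, 0, 0, 0, 0, 0, 0, 0, 0, 0, 0, 0, 0, 0, 0, 0, 0, 0, 1]⟩,
    ⟨[(1, true), (1, true), (0, true), (1, true), (1, true), (0, true), (0, true), (1, true), (1, true), (0, false), (1, false), (1, false), (0, false), (1, false), (1, false), (0, true), (1, true), (1, true), (0, true), (0, true), (1, true), (0, true), (1, true), (0, false), (0, false), (1, false), (0, false), (1, true), (0, false), (1, false), (1, false), (0, false), (0, false), (1, true), (0, true), (1, true), (0, true), (0, true), (1, false), (0, false), (1, false), (0, false), (1, false), (0, true), (1, true), (0, true), (0, true), (1, false), (0, false), (1, false), (0, false), (0, false), (1, false), (1, false), (0, false), (0,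 false), (1, true), (1, true), (0, false), (1, false), (1, false), (0, false), (0, false), (1, true), (1, true), (0, true), (1, true), (0, true), (1, true), (0, false), (0, false), (1, false), (0, false), (1, true), (0, true), (1, true), (0, true), (1, true), (0, false), (0, false), (1, false), (0, false), (1, false), (0, true), (0, true), (1, true), (1, true), (0, true), (1, false), (0, true), (1, true), (0, true), (0, true), (1, false), (0, false), (1, false), (0, false), (1, false), (1, false)], [], [0, 0, 0, 0, 0, 0, 0, 0, 0, 0, 0, 0, 0, 0, 0, 0, 0, 0, 0, 0, 0, 0, 0, 0, 0, 0, 0, 0, 0, 0, 0, 0, 0, 0, 0, 0, 0, 0, 0, 0, 0, 0, 0, 0, 0, 0, 0, 0, 0, 1]⟩,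
    ⟨[(0, true), (1, true), (0, true), (0, true), (1, true), (0, true), (1, true), (1, true), (0, true), (1, true), (0, true), (1, false), (1, false), (1, false), (0, false), (1, false), (1, false), (0, false), (0, false), (1, false), (0, true), (1, true), (1, true), (0, true), (0, true), (1, true), (0, true), (1, true), (0, false), (0, false), (1, false), (0, false), (1, false), (0, true), (0, true), (1, true), (1, true), (0, true), (0, true), (1, true), (0, true), (1, true), (0, false), (0, false), (1, false), (0, false), (1, true), (0, true), (1, true), (0, true), (1, true), (0, false), (0, false), (1, false), (0, false), (1, true), (0, false), (1, false), (1, false), (0, false), (0, false), (1, true), (1, true), (0, true), (1, true), (0, true), (1, true), (0, false), (0, false), (1, false), (0, false), (1, false), (0, true), (0, true), (1, true), (1, true), (0, true), (0, true), (1, true), (0, true), (1, true), (0, false), (0, false), (1, false), (0, false),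 (1, false), (0, true), (0, true), (1, true), (1, true), (0, true), (1, false), (0, true), (1, true), (0, true), (0, true), (1, false), (0, false), (1, false), (0, false), (1, false), (1, false)], [], [0, 0, 0, 0, 0, 0, 0, 0, 0, 0, 0, 0, 0, 0, 0, 0, 0, 0, 0, 0, 0, 0, 0, 0, 0, 0, 0, 0, 0, 0, 0, 0, 0, 0, 0, 0, 0, 0, 0, 0, 0, 0, 0, 0, 0, 0, 0, 0, 0, 0, 1]⟩,
    ⟨[(0, true), (1, true), (0, true), (0, true), (1, true), (1, true), (0, true), (0, true), (1, true), (0, true), (1, true), (0, false), (1, false), (0, false), (1, false), (1, false), (1, false), (0, false), (1, false), (0, false), (1, false), (1, false), (0, false), (0, false), (1, true), (0, true), (1, true), (0, true), (0, true), (1, false), (0, false), (1, false), (0, false), (0, false), (1, false), (1, false), (0, false), (0, false), (1, true), (0, true), (1, true), (0, true), (0, true), (1, false), (0, false), (1, false), (0, false), (0, false), (1, false), (1, false), (0, false), (0, false), (1, true),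 (0, true), (1, true), (0, true), (0, true), (1, false), (0, false), (1, false), (0, false), (0, false), (1, false), (1, false), (0, false), (0, false), (1, true), (0, true), (1, true), (0, true), (0, true), (1, false), (0, false), (1, false), (0, false), (1, false), (0, true), (1, true), (0, true), (0, true), (1, false), (0, false), (1, false), (0, false), (1, false), (1, false), (0, true), (0, true), (1, true), (1, true), (0, true), (1, false), (0, true), (1, true), (0, true), (0, true), (1, false), (0, false), (1, false), (0, false), (1, false), (1, false)], [], [0, 0, 0, 0, 0, 0, 0, 0, 0, 0, 0, 0, 0, 0, 0, 0, 0, 0, 0, 0, 0, 0, 0, 0, 0, 0, 0, 0, 0, 0, 0, 0, 0, 0, 0, 0, 0, 0, 0, 0, 0, 0, 0, 0, 0, 0, 0, 0, 0, 0, 0, 1]⟩,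
    ⟨[(0, true), (1, true), (1, true), (1, true), (0, true), (1, true), (1, true), (0, true), (1, true), (1, true), (0, true), (1, false), (1, false), (0, false), (1, false), (1, false), (0, false), (0, false), (1, false), (0, false), (1, true), (0, true), (1, true), (0, true), (0, true), (1, false), (0, false), (1, false), (0, false), (1, false), (0, true), (1, true), (0, true), (0, true), (1, false), (0, false), (1, false), (0, false), (1, false), (1, false), (0, true), (0, true), (1, true), (1, true), (0, true), (1, false), (0, true), (1, true), (0, true), (0, true), (1, false), (0, false), (1, false), (0, false), (0, false), (1, false), (1, false), (0, false), (0, false), (1, true), (1, true), (0, false), (1, false), (1, false), (0, false), (0, false), (1, true), (1, true), (0, true), (1, true), (0, true), (1, true), (0, false), (0, false), (1, false), (0, false), (1, true), (0, false), (1, false), (1, false), (0, false), (0, false), (1, true), (1, true),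 (0, true), (1, true), (0, true), (1, true), (0, false), (0, false), (1, false), (0, false), (1, true), (0, true), (1, true), (0, true), (1, true), (0, false), (0, false), (1, false), (0, false), (1, false)], [], [0, 0, 0, 0, 0, 0, 0, 0, 0, 0, 0, 0, 0, 0, 0, 0, 0, 0, 0, 0, 0, 0, 0, 0, 0, 0, 0, 0, 0, 0, 0, 0, 0, 0, 0, 0, 0, 0, 0, 0, 0, 0, 0, 0, 0, 0, 0, 0, 0, 0, 0, 0, 1]⟩,
    ⟨[(1, true), (1, true), (0, true), (1, true), (1, true), (0, true), (0, true), (1, true), (0, true), (0, true), (1, true), (0, true), (1, false), (0, false), (1, false), (0, false), (1, false), (0, false), (0, false), (1, false), (0, false), (1, false), (0, false), (0, false), (1, true), (1, true), (0, false), (1, false), (1, false), (0, false), (0, false), (1, true), (0, true), (1, true), (0, true), (0, true), (1, false), (0, false), (1, false), (0, false), (1, false), (1, false), (0, true), (0, true), (1, true), (1, true), (0, true), (1, false), (0, true), (1, true), (0, true), (0, true),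 (1, false), (0, false), (1, false), (0, false), (1, false), (0, true), (1, true), (0, true), (0, true), (1, false), (0, false), (1, false), (0, false), (0, false), (1, false), (1, false), (0, false), (0, false), (1, true), (1, true), (0, false), (1, false), (1, false), (0, false), (0, false), (1, true), (0, true), (1, true), (0, true), (0, true), (1, false), (0, false), (1, false), (0, false), (1, false), (1, false), (0, true), (0, true), (1, true), (1, true), (0, true), (0, true), (1, true), (0, true), (1, true), (0, false), (0, false), (1, false), (0, false), (1, false)], [], [0, 0, 0, 0, 0, 0, 0, 0, 0, 0, 0, 0, 0, 0, 0, 0, 0, 0, 0, 0, 0, 0, 0, 0, 0, 0, 0, 0, 0, 0, 0, 0, 0, 0, 0, 0, 0, 0, 0, 0, 0, 0, 0, 0, 0, 0, 0, 0, 0, 0, 0, 0, 0, 1]⟩,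
    ⟨[(0, true), (1, true), (0, true), (1, true), (1, true), (1, true), (0, true), (1, true), (0, true), (0, true), (1, false), (0, false), (1, false), (1, false), (0, false), (1, false), (1, false), (0, false), (1, false), (0, true), (1, true), (1, true), (0, true), (0, true), (1, true), (0, true), (1, true), (0, false), (0, false), (1, false), (0, false), (1, true), (0, true), (1, true), (0, true), (1, true), (0, false), (0, false), (1, false), (0, false), (1, false), (0, true), (0, true), (1, true), (1, true), (0, true), (0, true), (1, true), (0, true), (1, true), (0, false), (0, false), (1, false), (0, false), (1, false), (0, true), (0, true), (1, true), (1, true), (0, true), (1, false), (0, true), (1, true), (0, true), (0, true), (1, false), (0, false), (1, false), (0, false), (1, false), (0, true), (1, true), (0, true), (0, true), (1, false), (0, false), (1, false), (0, false), (1, false), (1, false), (0, true), (0, true), (1, true), (1, true), (0, true),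 (0, true), (1, true), (0, true), (1, true), (0, false), (0, false), (1, false), (0, false), (1, true), (0, true), (1, true), (0, true), (1, true), (0, false), (0, false), (1, false), (0, false), (1, false)], [], [0, 0, 0, 0, 0, 0, 0, 0, 0, 0, 0, 0, 0, 0, 0, 0, 0, 0, 0, 0, 0, 0, 0, 0, 0, 0, 0, 0, 0, 0, 0, 0, 0, 0, 0, 0, 0, 0, 0, 0, 0, 0, 0, 0, 0, 0, 0, 0, 0, 0, 0, 0, 0, 0, 1]⟩,
    ⟨[(0, true), (1, true), (1, true), (0, true), (1, true), (1, true), (0, true), (0, true), (1, true), (1, true), (0, true), (1, false), (0, false), (1, false), (1, false), (1, false), (0, true), (1, false), (0, false), (1, false), (0, false), (1, false), (1, false), (0, true), (0, true), (1, true), (1, true), (0, true), (1, false), (0, true), (1, true), (0, true), (0, true), (1, false), (0, false), (1, false), (0, false), (0, false), (1, false), (1, false), (0, false), (0, false), (1, true), (1, true), (0, false), (1, false), (1, false), (0, false), (0, false), (1, true), (1, true),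 (0, true), (1, true), (0, true), (1, true), (0, false), (0, false), (1, false), (0, false), (1, true), (0, true), (1, true), (0, true), (1, true), (0, false), (0, false), (1, false), (0, false), (1, true), (0, true), (1, true), (0, true), (1, true), (0, false), (0, false), (1, false), (0, false), (1, false), (0, true), (0, true), (1, true), (1, true), (0, true), (1, false), (0, true), (1, true), (0, true), (0, true), (1, false), (0, false), (1, false), (0, false), (1, false), (0, true), (1, true), (0, true), (0, true), (1, false), (0, false), (1, false), (0, false), (1, false), (1, false)], [], [0, 0, 0, 0, 0, 0, 0, 0, 0, 0, 0, 0, 0, 0, 0, 0, 0, 0, 0, 0, 0, 0, 0, 0, 0, 0, 0, 0, 0, 0, 0, 0, 0, 0, 0, 0, 0, 0, 0, 0, 0, 0, 0, 0, 0, 0, 0, 0, 0, 0, 0, 0, 0, 0, 0, 1]⟩,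
    ⟨[(1, true), (0, true), (0, true), (1, true), (1, true), (1, true), (0, true), (1, false), (1, false), (0, false), (1, false), (0, false), (0, false), (1, true), (0, true), (1, true), (0, true), (1, true), (0, false), (0, false), (1, false), (0, false), (1, false), (0, true), (0, true), (1, true), (1, true), (0, true), (1, false), (0, true), (1, true), (0, true), (0, true), (1, false), (0, false), (1, false), (0, false), (1, false), (0, true), (1, true), (0, true), (0, true), (1, false), (0, false), (1, false), (0, false), (0, false), (1, false), (1, false), (0, false), (0, false), (1, true), (1, true), (0, false), (1, false), (1, false), (0, false), (0, false), (1, true), (1, true), (0, true), (1, true), (0, true), (1, true), (0, false), (0, false), (1, false), (0, false), (1, true), (0, true), (1, true), (0, true), (1, true), (0, false), (0, false), (1, false), (0, false), (1, false), (0, true), (0, true), (1, true), (1, true), (0, true), (1, false), (0,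 true), (1, true), (0, true), (0, true), (1, false), (0, false), (1, false), (0, false), (0, false), (1, false), (1, false), (0, false), (0, false), (1, true), (1, true), (0, false), (1, false), (1, false), (0, false), (0, false)], [], [0, 0, 0, 0, 0, 0, 0, 0, 0, 0, 0, 0, 0, 0, 0, 0, 0, 0, 0, 0, 0, 0, 0, 0, 0, 0, 0, 0, 0, 0, 0, 0, 0, 0, 0, 0, 0, 0, 0, 0, 0, 0, 0, 0, 0, 0, 0, 0, 0, 0, 0, 0, 0, 0, 0, 0, 1]⟩,
    ⟨[(0, true), (1, true), (0, true), (1, true), (1, true), (0, true), (0, true), (1, true), (1, true), (1, true), (0, true), (1, true), (0, false), (1, false), (1, false), (0, false), (1, false), (1, false), (1, false), (0, true), (1, false), (0, false), (1, false), (0, false), (1, false), (1, false), (0, true), (0, true), (1, true), (1, true), (0, true), (0, true), (1, true), (0, true), (1, true), (0, false), (0, false), (1, false), (0, false), (1, true), (0, false), (1, false), (1, false), (0, false), (0, false), (1, true), (0, true), (1, true), (0, true),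 (0, true), (1, false), (0, false), (1, false), (0, false), (1, false), (0, true), (1, true), (0, true), (0, true), (1, false), (0, false), (1, false), (0, false), (0, false), (1, false), (1, false), (0, false), (0, false), (1, true), (1, true), (0, true), (1, true), (0, true), (1, true), (0, false), (0, false), (1, false), (0, false), (1, true), (0, false), (1, false), (1, false), (0, false), (0, false), (1, true), (0, true), (1, true), (0, true), (0, true), (1, false), (0, false), (1, false), (0, false), (1, false), (0, true), (1, true), (0, true), (0, true), (1, false), (0, false), (1, false), (0, false), (1, false), (1, false)], [], [0, 0, 0, 0, 0, 0, 0, 0, 0, 0, 0, 0, 0, 0, 0, 0, 0, 0, 0, 0, 0, 0, 0, 0, 0, 0, 0, 0, 0, 0, 0, 0, 0, 0, 0, 0, 0, 0, 0, 0, 0, 0, 0, 0, 0, 0, 0, 0, 0, 0, 0, 0, 0, 0, 0, 0, 0, 1]⟩,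
    ⟨[(0, true), (1, true), (0, true), (1, true), (0, true), (0, true), (1, true), (0, true), (1, false), (1, false), (0, true), (1, true), (0, false), (0, false), (1, false), (0, false), (1, true), (0, false), (1, false), (1, false), (0, false), (0, false), (1, true), (0, true), (1, true), (0, true), (0, true), (1, false), (0, false), (1, false), (0, false), (0, false), (1, false), (1, false), (0, false), (0, false), (1, true), (1, true), (0, false), (1, false), (1, false), (0, false), (0, false), (1, true), (0, true), (1, true), (0, true), (0, true), (1, false), (0, false), (1, false), (0, false), (1, false), (0, true), (1, true), (0, true), (0, true), (1, false), (0, false), (1, false), (0, false), (1, false), (0, true), (1, true), (0, true), (0, true), (1, false), (0, false), (1, false), (0, false), (0, false), (1, false), (1, false), (0, false), (0, false), (1, true), (0, true), (1, true), (0, true), (0, true), (1, false), (0, false), (1, false), (0, false),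 (1, false), (1, false), (0, true), (0, true), (1, true), (1, true), (0, true), (1, false), (0, true), (1, true), (0, true), (0, true), (1, false), (0, false), (1, false), (0, false), (0, false), (1, false), (1, false), (0, false), (0, false)], [], [0, 0, 0, 0, 0, 0, 0, 0, 0, 0, 0, 0, 0, 0, 0, 0, 0, 0, 0, 0, 0, 0, 0, 0, 0, 0, 0, 0, 0, 0, 0, 0, 0, 0, 0, 0, 0, 0, 0, 0, 0, 0, 0, 0, 0, 0, 0, 0, 0, 0, 0, 0, 0, 0, 0, 0, 0, 0, 1]⟩,
    ⟨[(1, true), (0, true), (1, true), (0, false), (1, true), (0, true), (1, true), (0, false), (1, false), (1, false), (1, false), (0, true), (1, true), (0, false), (1, true), (0, true), (1, true), (0, false)], [], [0, 0, 0, 0, 0, 0, 0, 0, 0, 0, 0, 0, 0, 0, 0, 0, 0, 0, 0, 0, 0, 0, 0, 0, 0, 0, 0, 0, 0, 0, 0, 0, 0, 0, 0, 0, 0, 0, 0, 0, 0, 0, 0, 0, 0, 0, 0, 0, 0, 0, 0, 0, 0, 0, 0, 0, 0, 0, 0, 1]⟩,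
    ⟨[(0, true), (1, true), (0, true), (1, true), (1, true), (0, true), (0, true), (1, true), (0, true), (1, false), (0, false), (1, false), (0, false), (1, true), (0, true), (0, true), (1, true), (0, true), (1, true), (0, false), (0, false), (1, false), (0, false), (1, false), (0, true), (0, true), (1, true), (1, true), (0, true), (1, false), (0, true), (1, true), (0, true), (0, true), (1, false), (0, false), (1, false), (0, false), (1, false), (1, false), (0, true), (0, true), (1, true), (1, true), (0, true), (0, true), (1, true), (0, true), (1, true), (0, false), (0, false), (1, false), (0, false), (1, false), (0, true), (0, true), (1, true), (1, true), (0, true), (0, true), (1, true), (0, true), (1, true), (0, false), (0, false), (1, false), (0, false), (1, true), (0, true), (1, true), (0, true), (1, true), (0, false), (0, false), (1, false), (0, false), (1, true), (0, true), (1, true), (0, true), (1, true), (0, false), (0, false), (1, false), (0, false),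 (1, false), (0, true), (0, true), (1, true), (1, true), (0, true), (0, true), (1, true), (0, true), (1, true), (0, false), (0, false), (1, false), (0, false), (1, true), (0, false), (1, false), (1, false), (0, false), (0, false)], [], [0, 0, 0, 0, 0, 0, 0, 0, 0, 0, 0, 0, 0, 0, 0, 0, 0, 0, 0, 0, 0, 0, 0, 0, 0, 0, 0, 0, 0, 0, 0, 0, 0, 0, 0, 0, 0, 0, 0, 0, 0, 0, 0, 0, 0, 0, 0, 0, 0, 0, 0, 0, 0, 0, 0, 0, 0, 0, 0, 0, 1]⟩,
    ⟨[(1, true), (0, true), (1, true), (1, true), (0, true), (0, true), (1, true), (1, true), (1, true), (0, true), (1, false), (0, false), (0, false), (1, false), (1, false), (1, false), (0, false), (1, false), (0, false), (1, true), (0, true), (1, true), (0, true), (1, true), (0, false), (0, false), (1, false), (0, false), (1, false), (0, true), (0, true), (1, true), (1, true), (0, true), (1, false), (0, true), (1, true), (0, true), (0, true), (1, false), (0, false), (1, false), (0, false), (0, false), (1, false), (1, false), (0, false), (0, false),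 (1, true), (0, true), (1, true), (0, true), (0, true), (1, false), (0, false), (1, false), (0, false), (0, false), (1, false), (1, false), (0, false), (0, false), (1, true), (1, true), (0, true), (1, true), (0, true), (1, true), (0, false), (0, false), (1, false), (0, false), (1, true), (0, true), (1, true), (0, true), (1, true), (0, false), (0, false), (1, false), (0, false), (1, true), (0, false), (1, false), (1, false), (0, false), (0, false), (1, true), (0, true), (1, true), (0, true), (0, true), (1, false), (0, false), (1, false), (0, false), (1, false), (1, false), (0, true), (0, true), (1, true), (1, true), (0, true), (1, false), (1, false)], [], [0, 0, 0, 0, 0, 0, 0, 0, 0, 0, 0, 0, 0, 0, 0, 0, 0, 0, 0, 0, 0, 0, 0, 0, 0, 0, 0, 0, 0, 0, 0, 0, 0, 0, 0, 0, 0, 0, 0, 0, 0, 0, 0, 0, 0, 0, 0, 0, 0, 0, 0, 0, 0, 0, 0, 0, 0, 0, 0, 0, 0, 1]⟩,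
    ⟨[(0, true), (1, true), (1, true), (0, true), (0, true), (1, true), (0, true), (1, true), (1, true), (0, true), (1, true), (0, true), (1, true), (0, true), (1, false), (1, false), (1, false), (0, false), (0, false), (1, false), (0, false), (0, false), (1, false), (0, false), (1, false), (0, true), (0, true), (1, true), (1, true), (0, true), (0, true), (1, true), (0, true), (1, true), (0, false), (0, false), (1, false), (0, false), (1, true), (0, true), (1, true), (0, true), (1, true), (0, false), (0, false), (1, false), (0, false), (1, true), (0, true), (1, true), (0, true), (1, true), (0, false), (0, false), (1, false), (0, false), (1, true), (0, true), (1, true), (0, true), (1, true), (0, false), (0, false), (1, false), (0, false), (1, false), (0, true), (0, true), (1, true), (1, true), (0, true), (0, true), (1, true), (0, true), (1, true), (0, false), (0, false), (1, false), (0, false), (1, true), (0, true), (1, true), (0, true), (1, true), (0, false),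 (0, false), (1, false), (0, false), (1, true), (0, false), (1, false), (1, false), (0, false), (0, false), (1, true), (0, true), (1, true), (0, true), (0, true), (1, false), (0, false), (1, false), (0, false), (1, false), (1, false)], [], [0, 0, 0, 0, 0, 0, 0, 0, 0, 0, 0, 0, 0, 0, 0, 0, 0, 0, 0, 0, 0, 0, 0, 0, 0, 0, 0, 0, 0, 0, 0, 0, 0, 0, 0, 0, 0, 0, 0, 0, 0, 0, 0, 0, 0, 0, 0, 0, 0, 0, 0, 0, 0, 0, 0, 0, 0, 0, 0, 0, 0, 0, 1]⟩,
    ⟨[(1, true), (1, true), (1, true), (0, true), (0, true), (1, true), (0, true), (1, true), (0, true), (1, false), (0, false), (1, false), (0, false), (1, false), (0, false), (1, true), (0, true), (0, true), (1, true), (0, true), (1, true), (0, false), (0, false), (1, false), (0, false), (1, true), (0, true), (1, true), (0, true), (1, true), (0, false), (0, false), (1, false), (0, false), (1, true), (0, true), (1, true), (0, true), (1, true), (0, false), (0, false), (1, false), (0, false), (1, false), (0, true), (0, true), (1, true),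 (1, true), (0, true), (0, true), (1, true), (0, true), (1, true), (0, false), (0, false), (1, false), (0, false), (1, true), (0, true), (1, true), (0, true), (1, true), (0, false), (0, false), (1, false), (0, false), (1, true), (0, true), (1, true), (0, true), (1, true), (0, false), (0, false), (1, false), (0, false), (1, false), (0, true), (0, true), (1, true), (1, true), (0, true), (1, false), (0, true), (1, true), (0, true), (0, true), (1, false), (0, false), (1, false), (0, false), (0, false), (1, false), (1, false), (0, false), (0, false), (1, true), (1, true), (0, true), (1, true), (0, true), (1, true), (0, false), (0, false), (1, false), (0, false), (1, false)], [], [0, 0, 0, 0, 0, 0, 0, 0, 0, 0, 0, 0, 0, 0, 0, 0, 0, 0, 0, 0, 0, 0, 0, 0, 0, 0, 0, 0, 0, 0, 0, 0, 0, 0, 0, 0, 0, 0, 0, 0, 0, 0, 0, 0, 0, 0, 0, 0, 0, 0, 0, 0, 0, 0, 0, 0, 0, 0, 0, 0, 0, 0, 0, 1]⟩,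
    ⟨[(0, true), (0, true), (1, true), (0, true), (1, true), (0, true), (0, true), (1, true), (0, true), (1, true), (0, true), (1, true), (0, true), (1, false), (0, false), (0, false), (1, false), (1, false), (0, false), (1, false), (0, false), (0, false), (1, false), (1, false), (0, false), (1, true), (1, true), (0, true), (1, true), (0, true), (1, true), (0, false), (0, false), (1, false), (0, false), (1, false), (0, true), (0, true), (1, true), (1, true), (0, true), (0, true), (1, true), (0, true), (1, true), (0, false), (0, false), (1, false), (0, false), (1, true), (0, false), (1, false), (1, false), (0, false), (0, false), (1, true), (1, true), (0, false), (1, false), (1, false), (0, false), (0, false), (1, true), (1, true), (0, true), (1, true), (0, true), (1, true), (0, false), (0, false), (1, false), (0, false), (1, true), (0, true), (1, true), (0, true), (1, true), (0, false), (0, false), (1, false), (0, false), (1, false), (0, true), (0, true), (1,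 true), (1, true), (0, true), (0, true), (1, true), (0, true), (1, true), (0, false), (0, false), (1, false), (0, false), (1, true), (0, false), (1, false), (1, false), (0, false), (0, false), (1, true), (1, true), (0, false), (1, false), (1, false), (0, false), (0, false)], [], [0, 0, 0, 0, 0, 0, 0, 0, 0, 0, 0, 0, 0, 0, 0, 0, 0, 0, 0, 0, 0, 0, 0, 0, 0, 0, 0, 0, 0, 0, 0, 0, 0, 0, 0, 0, 0, 0, 0, 0, 0, 0, 0, 0, 0, 0, 0, 0, 0, 0, 0, 0, 0, 0, 0, 0, 0, 0, 0, 0, 0, 0, 0, 0, 1]⟩,
    ⟨[(0, true), (0, true), (1, true), (0, true), (0, true), (1, true), (1, true), (1, true), (0, true), (0, true), (1, true), (0, false), (0, false), (1, false), (1, false), (0, false), (1, false), (1, false), (0, true), (1, true), (1, true), (0, true), (0, true), (1, true), (0, true), (1, true), (0, false), (0, false), (1, false), (0, false), (1, true), (0, true), (1, true), (0, true), (1, true), (0, false), (0, false), (1, false), (0, false), (1, false), (0, true), (0, true), (1, true),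 (1, true), (0, true), (0, true), (1, true), (0, true), (1, true), (0, false), (0, false), (1, false), (0, false), (1, true), (0, true), (1, true), (0, true), (1, true), (0, false), (0, false), (1, false), (0, false), (1, true), (0, true), (1, true), (0, true), (1, true), (0, false), (0, false), (1, false), (0, false), (1, true), (0, false), (1, false), (1, false), (0, false), (0, false), (1, true), (0, true), (1, true), (0, true), (0, true), (1, false), (0, false), (1, false), (0, false), (1, false), (1, false), (0, true), (0, true), (1, true), (1, true), (0, true), (0, true), (1, true), (0, true), (1, true), (0, false), (0, false), (1, false), (0, false), (1, false), (0, true), (0, true), (1, true), (1, true), (0, true), (1, false), (1, false)], [], [0, 0, 0, 0, 0, 0, 0, 0, 0, 0, 0, 0, 0, 0, 0, 0, 0, 0, 0, 0, 0, 0, 0, 0, 0, 0, 0, 0, 0, 0, 0, 0, 0, 0, 0, 0, 0, 0, 0, 0, 0, 0, 0, 0, 0, 0, 0, 0, 0, 0, 0, 0, 0, 0, 0, 0, 0, 0, 0, 0, 0, 0, 0, 0, 0, 1]⟩,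
    ⟨[(0, true), (1, true), (1, true), (0, false), (1, true), (1, true), (0, true), (1, true), (1, true), (0, false), (1, true), (1, true), (0, true), (1, true), (1, true), (0, false), (1, true), (1, true), (0, true), (1, true), (1, true), (0, false), (1, true), (1, true)], [], [0, 0, 0, 0, 0, 0, 0, 0, 0, 0, 0, 0, 0, 0, 0, 0, 0, 0, 0, 0, 0, 0, 0, 0, 0, 0, 0, 0, 0, 0, 0, 0, 0, 0, 0, 0, 0, 0, 0, 0, 0, 0, 0, 0, 0, 0, 0, 0, 0, 0, 0, 0, 0, 0, 0, 0, 0, 0, 0, 0, 0, 0, 0, 0, 0, 0, 1]⟩,
    ⟨[(0, true), (0, true), (1, true), (1, true), (1, true), (0, true), (1, true), (1, true), (1, true), (0, true), (1, true), (0, false), (0, false), (1, false), (1, false), (1, false), (0, false), (1, false), (1, false), (1, false), (0, false), (0, false), (1, true), (1, true), (0, false), (1, false), (1, false), (0, false), (0, false), (1, true), (0, true), (1, true), (0, true), (0, true), (1, false), (0, false), (1, false), (0, false), (1, false), (1, false), (0, true), (0, true),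 (1, true), (1, true), (0, true), (1, false), (0, true), (1, true), (0, true), (0, true), (1, false), (0, false), (1, false), (0, false), (1, false), (1, false), (0, true), (0, true), (1, true), (1, true), (0, true), (0, true), (1, true), (0, true), (1, true), (0, false), (0, false), (1, false), (0, false), (1, true), (0, false), (1, false), (1, false), (0, false), (0, false), (1, true), (1, true), (0, true), (1, true), (0, true), (1, true), (0, false), (0, false), (1, false), (0, false), (1, false), (0, true), (0, true), (1, true), (1, true), (0, true), (1, false), (0, true), (1, true), (0, true), (0, true), (1, false), (0, false), (1, false), (0, false), (1, false), (1, false), (0, true), (0, true), (1, true), (1, true), (0, true), (1, false), (1, false)], [], [0, 0, 0, 0, 0, 0, 0, 0, 0, 0, 0, 0, 0, 0, 0, 0, 0, 0, 0, 0, 0, 0, 0, 0, 0, 0, 0, 0, 0, 0, 0, 0, 0, 0, 0, 0, 0, 0, 0, 0, 0, 0, 0, 0, 0, 0, 0, 0, 0, 0, 0, 0, 0, 0, 0, 0, 0, 0, 0, 0, 0, 0, 0, 0, 0, 0, 0,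 1]⟩,
    ⟨[(1, true), (1, true), (1, true), (0, true), (1, true), (1, true), (1, true), (0, true), (1, true), (1, true), (0, true), (1, false), (1, false), (1, false), (0, false), (1, false), (0, false), (1, false), (0, false), (0, false), (1, true), (0, true), (1, true), (0, true), (0, true), (1, false), (0, false), (1, false), (0, false), (0, false), (1, false), (1, false), (0, false), (0, false), (1, true), (1, true), (0, false), (1, false), (1, false), (0, false), (0, false), (1, true), (0, true), (1, true), (0, true), (0, true), (1, false), (0, false), (1, false), (0, false), (0, false), (1, false), (1, false), (0, false), (0, false), (1, true), (1, true), (0, false), (1, false), (1, false), (0, false), (0, false), (1, true), (0, true), (1, true), (0, true), (0, true), (1, false), (0, false), (1, false), (0, false), (1, false), (0, true), (1, true), (0, true), (0, true), (1, false), (0, false), (1, false), (0, false), (1, false), (1, false), (0, true),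 (0, true), (1, true), (1, true), (0, true), (0, true), (1, true), (0, true), (1, true), (0, false), (0, false), (1, false), (0, false), (1, false), (0, true), (0, true), (1, true), (1, true), (0, true), (0, true), (1, true), (0, true), (1, true), (0, false), (0, false), (1, false), (0, false), (1, false)], [], [0, 0, 0, 0, 0, 0, 0, 0, 0, 0, 0, 0, 0, 0, 0, 0, 0, 0, 0, 0, 0, 0, 0, 0, 0, 0, 0, 0, 0, 0, 0, 0, 0, 0, 0, 0, 0, 0, 0, 0, 0, 0, 0, 0, 0, 0, 0, 0, 0, 0, 0, 0, 0, 0, 0, 0, 0, 0, 0, 0, 0, 0, 0, 0, 0, 0, 0, 0, 1]⟩,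
    ⟨[(0, true), (1, true), (1, true), (0, true), (0, true), (1, true), (1, true), (1, true), (0, true), (0, true), (1, true), (0, false), (0, false), (1, false), (1, false), (0, false), (1, false), (0, false), (0, false), (1, false), (1, false), (0, false), (1, true), (0, true), (1, true), (0, true), (0, true), (1, false), (0, false), (1, false), (0, false), (0, false), (1, false), (1, false), (0, false), (0, false), (1, true), (1, true), (0, true), (1, true), (0, true), (1, true), (0, false), (0, false), (1, false), (0, false), (1, true), (0, true), (1, true), (0, true), (1, true), (0, false), (0, false), (1, false), (0, false), (1, true), (0, false), (1, false), (1, false), (0, false), (0, false), (1, true), (0, true), (1, true), (0, true), (0, true), (1, false), (0, false), (1, false), (0, false), (1, false), (0, true), (1, true), (0, true), (0, true), (1, false), (0, false), (1, false), (0, false), (1, false), (0, true), (1, true), (0, true), (0, true),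 (1, false), (0, false), (1, false), (0, false), (0, false), (1, false), (1, false), (0, false), (0, false), (1, true), (1, true), (0, false), (1, false), (1, false), (0, false), (0, false), (1, true), (1, true), (0, true), (1, true), (0, true), (1, true), (0, false), (0, false), (1, false), (0, false), (1, false)], [], [0, 0, 0, 0, 0, 0, 0, 0, 0, 0, 0, 0, 0, 0, 0, 0, 0, 0, 0, 0, 0, 0, 0, 0, 0, 0, 0, 0, 0, 0, 0, 0, 0, 0, 0, 0, 0, 0, 0, 0, 0, 0, 0, 0, 0, 0, 0, 0, 0, 0, 0, 0, 0, 0, 0, 0, 0, 0, 0, 0, 0, 0, 0, 0, 0, 0, 0, 0, 0, 1]⟩,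
    ⟨[(0, true), (1, true), (1, true), (0, true), (1, true), (1, true), (0, true), (1, true), (0, true), (1, true), (1, true), (0, false), (0, false), (1, false), (0, false), (0, false), (1, false), (0, true), (1, true), (0, true), (1, true), (0, false), (0, false), (1, false), (0, false), (1, false), (0, true), (0, true), (1, true), (1, true), (0, true), (0, true), (1, true), (0, true), (1, true), (0, false), (0, false), (1, false), (0, false), (1, false), (0, true), (0, true), (1, true), (1, true), (0, true), (0, true), (1, true), (0, true), (1, true), (0, false), (0, false), (1, false), (0, false), (1, true), (0, false), (1, false), (1, false), (0, false), (0, false), (1, true), (0, true), (1, true), (0, true), (0, true), (1, false), (0, false), (1, false), (0, false), (1, false), (0, true), (1, true), (0, true), (0, true), (1, false), (0, false), (1, false), (0, false), (0, false), (1, false), (1, false), (0, false), (0, false), (1, true), (1, true), (0,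 true), (1, true), (0, true), (1, true), (0, false), (0, false), (1, false), (0, false), (1, true), (0, true), (1, true), (0, true), (1, true), (0, false), (0, false), (1, false), (0, false), (1, true), (0, true), (1, true), (0, true), (1, true), (0, false), (0, false), (1, false), (0, false), (1, false)], [], [0, 0, 0, 0, 0, 0, 0, 0, 0, 0, 0, 0, 0, 0, 0, 0, 0, 0, 0, 0, 0, 0, 0, 0, 0, 0, 0, 0, 0, 0, 0, 0, 0, 0, 0, 0, 0, 0, 0, 0, 0, 0, 0, 0, 0, 0, 0, 0, 0, 0, 0, 0, 0, 0, 0, 0, 0, 0, 0, 0, 0, 0, 0, 0, 0, 0, 0, 0, 0, 0, 1]⟩,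
    ⟨[(1, true), (0, true), (0, true), (1, true), (0, true), (1, true), (0, true), (1, true), (0, true), (0, true), (1, true), (0, false), (1, false), (1, false), (0, false), (0, false), (1, false), (1, false), (0, true), (1, true), (1, true), (0, true), (1, false), (0, true), (1, true), (0, true), (0, true), (1, false), (0, false), (1, false), (0, false), (1, false), (0, true), (1, true), (0, true), (0, true), (1, false), (0, false), (1, false), (0, false), (1, false), (0, true), (1, true), (0, true), (0, true), (1, false), (0, false), (1, false), (0, false), (0, false), (1, false), (1, false), (0, false), (0, false), (1, true), (1, true), (0, false), (1, false), (1, false), (0, false), (0, false), (1, true), (0, true), (1, true), (0, true), (0, true), (1, false), (0, false), (1, false), (0, false), (1, false), (0, true), (1, true), (0, true), (0, true), (1, false), (0, false), (1, false), (0, false), (1, false), (0, true), (1, true), (0, true), (0, true),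 (1, false), (0, false), (1, false), (0, false), (1, false), (0, true), (1, true), (0, true), (0, true), (1, false), (0, false), (1, false), (0, false), (1, false), (0, true), (1, true), (0, true), (0, true), (1, false), (0, false), (1, false), (0, false), (0, false), (1, false), (1, false), (0, false), (0, false)], [], [0, 0, 0, 0, 0, 0, 0, 0, 0, 0, 0, 0, 0, 0, 0, 0, 0, 0, 0, 0, 0, 0, 0, 0, 0, 0, 0, 0, 0, 0, 0, 0, 0, 0, 0, 0, 0, 0, 0, 0, 0, 0, 0, 0, 0, 0, 0, 0, 0, 0, 0, 0, 0, 0, 0, 0, 0, 0, 0, 0, 0, 0, 0, 0, 0, 0, 0, 0, 0, 0, 0, 1]⟩,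
    ⟨[(0, true), (0, true), (1, true), (0, true), (1, true), (0, true), (1, true), (0, true), (1, true), (0, true), (1, true), (1, true), (0, false), (1, false), (1, false), (1, false), (0, false), (0, false), (1, false), (1, false), (0, true), (1, true), (1, true), (0, true), (1, false), (0, true), (1, true), (0, true), (0, true), (1, false), (0, false), (1, false), (0, false), (1, false), (0, true), (1, true), (0, true), (0, true), (1, false), (0, false), (1, false), (0, false), (0, false), (1, false), (1, false), (0, false), (0, false), (1, true), (1, true), (0, false), (1, false), (1, false), (0, false), (0, false), (1, true), (1, true), (0, true), (1, true), (0, true), (1, true), (0, false), (0, false), (1, false), (0, false), (1, true), (0, false), (1, false), (1, false), (0, false), (0, false), (1, true), (1, true), (0, false), (1, false), (1, false), (0, false), (0, false), (1, true), (0, true), (1, true), (0, true), (0, true), (1, false), (0, false),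 (1, false), (0, false), (0, false), (1, false), (1, false), (0, false), (0, false), (1, true), (1, true), (0, true), (1, true), (0, true), (1, true), (0, false), (0, false), (1, false), (0, false), (1, true), (0, true), (1, true), (0, true), (1, true), (0, false), (0, false), (1, false), (0, false), (1, false)], [], [0, 0, 0, 0, 0, 0, 0, 0, 0, 0, 0, 0, 0, 0, 0, 0, 0, 0, 0, 0, 0, 0, 0, 0, 0, 0, 0, 0, 0, 0, 0, 0, 0, 0, 0, 0, 0, 0, 0, 0, 0, 0, 0, 0, 0, 0, 0, 0, 0, 0, 0, 0, 0, 0, 0, 0, 0, 0, 0, 0, 0, 0, 0, 0, 0, 0, 0, 0, 0, 0, 0, 0, 1]⟩,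
    ⟨[(0, true), (0, true), (1, true), (0, true), (1, true), (0, true), (1, true), (1, true), (1, true), (0, true), (1, true), (0, true), (1, false), (1, false), (0, false), (1, false), (0, false), (0, false), (1, false), (0, true), (1, true), (0, false), (0, false), (1, false), (0, false), (1, true), (0, false), (1, false), (1, false), (0, false), (0, false), (1, true), (0, true), (1, true), (0, true), (0, true), (1, false), (0, false), (1, false), (0, false), (1, false), (1, false), (0, true), (0, true), (1, true), (1, true), (0, true), (1, false), (0, true), (1, true), (0, true), (0, true), (1, false), (0, false), (1, false), (0, false), (0, false), (1, false), (1, false), (0, false), (0, false), (1, true), (1, true), (0, true), (1, true), (0, true), (1, true), (0, false), (0, false), (1, false), (0, false), (1, true), (0, true), (1, true), (0, true), (1, true), (0, false), (0, false), (1, false), (0, false), (1, true), (0, false), (1, false), (1, false),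 (0, false), (0, false), (1, true), (1, true), (0, false), (1, false), (1, false), (0, false), (0, false), (1, true), (1, true), (0, true), (1, true), (0, true), (1, true), (0, false), (0, false), (1, false), (0, false), (1, false), (0, true), (0, true), (1, true), (1, true), (0, true), (1, false), (1, false)], [], [0, 0, 0, 0, 0, 0, 0, 0, 0, 0, 0, 0, 0, 0, 0, 0, 0, 0, 0, 0, 0, 0, 0, 0, 0, 0, 0, 0, 0, 0, 0, 0, 0, 0, 0, 0, 0, 0, 0, 0, 0, 0, 0, 0, 0, 0, 0, 0, 0, 0, 0, 0, 0, 0, 0, 0, 0, 0, 0, 0, 0, 0, 0, 0, 0, 0, 0, 0, 0, 0, 0, 0, 0, 1]⟩,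
    ⟨[(1, true), (0, true), (0, true), (1, true), (1, true), (0, true), (1, true), (1, true), (0, true), (0, true), (1, true), (0, true), (1, false), (1, false), (0, false), (1, false), (1, false), (0, false), (0, false), (1, false), (1, false), (0, false), (1, true), (1, true), (0, true), (1, true), (0, true), (1, true), (0, false), (0, false), (1, false), (0, false), (1, true), (0, true), (1, true), (0, true), (1, true), (0, false), (0, false), (1, false), (0, false), (1, true), (0, true), (1, true), (0, true), (1, true), (0, false), (0, false), (1, false), (0, false), (1, false), (0, true), (0, true), (1, true), (1, true), (0, true), (0, true), (1, true), (0, true), (1, true), (0, false), (0, false), (1, false), (0, false), (1, true), (0, false), (1, false), (1, false), (0, false), (0, false), (1, true), (1, true), (0, true), (1, true), (0, true), (1, true), (0, false), (0, false), (1, false), (0, false), (1, true), (0, true), (1, true), (0, true), (1, true),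 (0, false), (0, false), (1, false), (0, false), (1, true), (0, true), (1, true), (0, true), (1, true), (0, false), (0, false), (1, false), (0, false), (1, true), (0, false), (1, false), (1, false), (0, false), (0, false), (1, true), (1, true), (0, false), (1, false), (1, false), (0, false), (0, false)], [], [0, 0, 0, 0, 0, 0, 0, 0, 0, 0, 0, 0, 0, 0, 0, 0, 0, 0, 0, 0, 0, 0, 0, 0, 0, 0, 0, 0, 0, 0, 0, 0, 0, 0, 0, 0, 0, 0, 0, 0, 0, 0, 0, 0, 0, 0, 0, 0, 0, 0, 0, 0, 0, 0, 0, 0, 0, 0, 0, 0, 0, 0, 0, 0, 0, 0, 0, 0, 0, 0, 0, 0, 0, 0, 1]⟩,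
    ⟨[(0, true), (1, true), (0, true), (1, false), (0, true), (1, true), (0, true), (1, false), (0, true), (1, true), (0, true), (1, false), (0, true), (1, true), (0, true), (1, false), (0, true), (1, true), (0, true), (1, false), (0, true), (1, true), (0, true), (1, false)], [], [0, 0, 0, 0, 0, 0, 0, 0, 0, 0, 0, 0, 0, 0, 0, 0, 0, 0, 0, 0, 0, 0, 0, 0, 0, 0, 0, 0, 0, 0, 0, 0, 0, 0, 0, 0, 0, 0, 0, 0, 0, 0, 0, 0, 0, 0, 0, 0, 0, 0, 0, 0, 0, 0, 0, 0, 0, 0, 0, 0, 0, 0, 0, 0, 0, 0, 0, 0, 0, 0, 0, 0, 0, 0, 0, 1]⟩,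
    ⟨[(0, true), (1, false), (0, true), (1, false), (0, true), (1, false), (0, true), (1, false), (0, true), (1, false), (0, true), (1, false), (0, true), (1, false), (0, true), (1, false), (0, true), (1, false), (0, true), (1, false)], [], [0, 0, 0, 0, 0, 0, 0, 0, 0, 0, 0, 0, 0, 0, 0, 0, 0, 0, 0, 0, 0, 0, 0, 0, 0, 0, 0, 0, 0, 0, 0, 0, 0, 0, 0, 0, 0, 0, 0, 0, 0, 0, 0, 0, 0, 0, 0, 0, 0, 0, 0, 0, 0, 0, 0, 0, 0, 0, 0, 0, 0, 0, 0, 0, 0, 0, 0, 0, 0, 0, 0, 0, 0, 0, 0, 0, 1]⟩,
    ⟨[(0, true), (1, true), (0, true), (1, true), (0, true), (1, true), (0, true), (1, true), (0, true), (1, true), (0, true), (1, true), (0, true), (1, true), (0, true), (1, true), (0, true), (1, true), (0, true), (1, true)], [], [0, 0, 0, 0, 0, 0, 0, 0, 0, 0, 0, 0, 0, 0, 0, 0, 0, 0, 0, 0, 0, 0, 0, 0, 0, 0, 0, 0, 0, 0, 0, 0, 0, 0, 0, 0, 0, 0, 0, 0, 0, 0, 0, 0, 0, 0, 0, 0, 0, 0, 0, 0, 0, 0, 0, 0, 0, 0, 0, 0, 0, 0, 0, 0, 0, 0, 0, 0, 0, 0, 0, 0, 0, 0, 0, 0, 0, 1]⟩,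
    ⟨[(0, true), (1, true), (1, true), (0, true), (0, true), (1, true), (1, true), (1, true), (0, true), (1, true), (0, true), (1, true), (0, true), (1, false), (1, false), (1, false), (0, false), (1, false), (0, false), (1, false), (1, false), (0, false), (1, true), (0, true), (0, true), (1, false), (0, false), (1, false), (0, false), (1, false), (1, false), (0, true), (0, true), (1, true), (1, true), (0, true), (0, true), (1, true), (0, true), (1, true), (0, false), (0, false), (1, false), (0, false), (1, true), (0, true), (1, true), (0, true), (1, true), (0, false), (0, false), (1, false), (0, false), (1, true), (0, true), (1, true), (0, true), (1, true), (0, false), (0, false), (1, false), (0, false), (1, false), (0, true), (0, true), (1, true), (1, true), (0, true), (1, false), (0, true), (1, true), (0, true), (0, true), (1, false), (0, false), (1, false), (0, false), (1, false), (1, false), (0, true), (0, true), (1, true), (1, true), (0, true), (1, false),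 (0, true), (1, true), (0, true), (0, true), (1, false), (0, false), (1, false), (0, false), (1, false), (0, true), (1, true), (0, true), (0, true), (1, false), (0, false), (1, false), (0, false), (1, false), (1, false), (0, true), (0, true), (1, true), (1, true), (0, true), (1, false), (1, false)], [], [0, 0, 0, 0, 0, 0, 0, 0, 0, 0, 0, 0, 0, 0, 0, 0, 0, 0, 0, 0, 0, 0, 0, 0, 0, 0, 0, 0, 0, 0, 0, 0, 0, 0, 0, 0, 0, 0, 0, 0, 0, 0, 0, 0, 0, 0, 0, 0, 0, 0, 0, 0, 0, 0, 0, 0, 0, 0, 0, 0, 0, 0, 0, 0, 0, 0, 0, 0, 0, 0, 0, 0, 0, 0, 0, 0, 0, 0, 1]⟩,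
    ⟨[(0, true), (0, true), (1, true), (0, true), (0, true), (1, true), (1, true), (0, true), (0, true), (1, true), (1, true), (0, true), (1, false), (0, false), (1, false), (0, false), (1, false), (0, false), (1, false), (0, false), (1, true), (0, true), (1, false), (0, true), (1, true), (0, true), (0, true), (1, false), (0, false), (1, false), (0, false), (1, false), (1, false), (0, true), (0, true), (1, true), (1, true), (0, true), (0, true), (1, true), (0, true), (1, true), (0, false), (0, false), (1, false), (0, false), (1, true), (0, false), (1, false), (1, false), (0, false), (0, false), (1, true), (0, true), (1, true), (0, true), (0, true), (1, false), (0, false), (1, false), (0, false), (0, false), (1, false), (1, false), (0, false), (0, false), (1, true), (0, true), (1, true), (0, true), (0, true), (1, false), (0, false), (1, false), (0, false), (1, false), (0, true), (1, true), (0, true), (0, true), (1, false), (0, false), (1, false), (0, false),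 (1, false), (1, false), (0, true), (0, true), (1, true), (1, true), (0, true), (1, false), (0, true), (1, true), (0, true), (0, true), (1, false), (0, false), (1, false), (0, false), (0, false), (1, false), (1, false), (0, false), (0, false), (1, true), (1, true), (0, false), (1, false), (1, false), (0, false), (0, false)], [], [0, 0, 0, 0, 0, 0, 0, 0, 0, 0, 0, 0, 0, 0, 0, 0, 0, 0, 0, 0, 0, 0, 0, 0, 0, 0, 0, 0, 0, 0, 0, 0, 0, 0, 0, 0, 0, 0, 0, 0, 0, 0, 0, 0, 0, 0, 0, 0, 0, 0, 0, 0, 0, 0, 0, 0, 0, 0, 0, 0, 0, 0, 0, 0, 0, 0, 0, 0, 0, 0, 0, 0, 0, 0, 0, 0, 0, 0, 0, 1]⟩,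
    ⟨[(1, true), (1, true), (0, true), (1, true), (1, true), (0, true), (1, true), (0, true), (1, true), (0, false), (1, false), (1, false), (0, false), (1, false), (1, false), (1, false), (0, true), (0, true), (1, true), (1, true), (0, true), (0, true), (1, true), (0, true), (1, true), (0, false), (0, false), (1, false), (0, false), (1, true), (0, true), (1, true), (0, true), (1, true), (0, false), (0, false), (1, false), (0, false), (1, true), (0, false), (1, false), (1, false), (0, false), (0, false), (1, true), (1, true), (0, false), (1, false), (1, false), (0, false), (0, false), (1, true), (0, true), (1, true), (0, true), (0, true), (1, false), (0, false), (1, false), (0, false), (1, false), (1, false), (0, true), (0, true), (1, true), (1, true), (0, true), (0, true), (1, true), (0, true), (1, true), (0, false), (0, false), (1, false), (0, false), (1, true), (0, false), (1, false), (1, false), (0, false), (0, false), (1, true), (1, true), (0, false), (1,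 false), (1, false), (0, false), (0, false), (1, true), (1, true), (0, true), (1, true), (0, true), (1, true), (0, false), (0, false), (1, false), (0, false), (1, true), (0, true), (1, true), (0, true), (1, true), (0, false), (0, false), (1, false), (0, false), (1, true), (0, false), (1, false), (1, false), (0, false), (0, false)], [], [0, 0, 0, 0, 0, 0, 0, 0, 0, 0, 0, 0, 0, 0, 0, 0, 0, 0, 0, 0, 0, 0, 0, 0, 0, 0, 0, 0, 0, 0, 0, 0, 0, 0, 0, 0, 0, 0, 0, 0, 0, 0, 0, 0, 0, 0, 0, 0, 0, 0, 0, 0, 0, 0, 0, 0, 0, 0, 0, 0, 0, 0, 0, 0, 0, 0, 0, 0, 0, 0, 0, 0, 0, 0, 0, 0, 0, 0, 0, 0, 1]⟩]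
  pot g := pot0.getK g
  innerSize := 1451520
  innerGen := 2

/-- data -/
def level0eqsPart0 : List (ℕ × ℕ × Vec) := [(2, 416, [0, 0, 0, 0, 0, 0, 0, 0, 0, 0, 0, 0, 0, 0, 0, 0, 1, 0, 0, 0, 0, 0, 0, (-1)]), (4, 314, [0, 0, 0, 0, 0, 0, 0, 0, 0, 0, 0, 0, 0, 0, 0, 0, 0, 0, 0, 0, 0, 0, 0, 0, 0, 0, 0, 0, 0, 0, 0, 0, 0, 0, 0, 0, 0, 0, 0, 0, 0, 0, 1, 3, (-1), 1, 0, 0, 0, 0, 0, 0, 0, 0, 0, 0, 0, 0, 0, 0, 0, 0, 0, 0, 0, 0, (-1)]), (3, 336, [0, 0, 0, 0, 0, 0, 0, 0, 0, 0, 0, 0, 0, 0, 0, 0, 0, 0, 0, 0, 0, 0, 0, 0, 0, 0, 0, 0, 0, 0, 0, 0, 0, 0, 0, 0, 0, 0, 0, 0, 0, 0, 0, (-8), 0, 0, 0, 0, 0, 0, 0, 0, 0, 0, 0, 0, 0, 0, 0, 0, 0, 0, 0, 0, 0, 0, 2]), (26, 3, [0, 0, 0, 0, 0, 0, 0, 0, 0, 0, 0, 0, 0, 0, 0, 0, (-1), 0, 0, 0, 0, 0, 0, 0, 0, 0, 0, 0, 0, 0, 0, 0, 0, 0, 0, 0, 0, 0, 0, 0, 0, 0, 4, 4, 0, 0, 0, 0, 0, 0, 0, 0, 0, 0, 0, 0, 0, 0, 0, 0, 0, 0, 0, 0, 0, 0, (-1)]), (26, 15, [0, 0, 0, 0, 0, 0, 0, 0, 0, 0, 0, 0, 0, 0, 0, 0, 1, 0, 0, 0, 0, 0, 0, 0, 0, 0, 0, 0, 0, 0, 0, 0, 0, 0, 0,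 0, 0, 0, 0, 0, 0, 0, (-4), 4, 0, 0, 0, 0, 0, 0, 0, 0, 0, 0, 0, 0, 0, 0, 0, 0, 0, 0, 0, 0, 0, 0, (-1)]), (5, 85, [(-16), 22, 40, (-10), 2, 22, 0, (-2), 0, 0, 0, 0, 0, 0, 0, 0, (-4), 0, 0, (-2), 0, 0, 0, 0, 0, (-2), 0, 0, 0, 0, 0, 0, 0, 0, 0, 0, 0, 0, 0, 0, 0, 0, 3, 1, 1, (-1)]), (26, 56, [9, (-247), (-397), (-99), (-110), (-292), 27, 107, (-42), 0, 0, 0, 0, 0, 0, 0, 41, 46, (-40), 40, (-12), (-3), (-36), 0, 0, 0, 0, 0, 0, 0, 0, 0, 0, 0, 0, 0, 0, 0, 0, 0, 0, 0, (-2), 4, (-2), (-2), 0, 0, 0, 0, 0, 0, 0, 0, 0, 0, 0, 0, 0, 0, 0, 0, 0, 0, 0, 0, (-1)]), (2, 368, [(-69), (-131), 86, (-252), 111, (-18), (-10), 152, (-25), 0, 0, 0, 0, 0, 0, 0, 254, 163, (-137), 192, (-74), (-60), (-98), 4, (-1), (-5), 8, (-10), 5, 5, 4, 3, (-9), 0, 7, 0, 3, (-7), 7, 9, 3]), (5, 6, [44, 344, 595, 307, 218, 442, (-44), (-132), 46, 0, 0, 0, 0, 0, 0, 0, (-57), (-41), 42, (-35), 25, (-8), 35, 0, 0, (-1), 0, 0, 0, 0, 0, 0, 0, 0, 0, 0, 0, 0, 0, 0, 0, 0, (-4)]), (26, 18, [(-18), 494, 794, 198,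 220, 584, (-54), (-214), 84, 0, 0, 0, 0, 0, 0, 0, (-83), (-92), 80, (-80), 24, 6, 72, 0, 0, 0, 0, 0, 0, 0, 0, 0, 0, 0, 0, 0, 0, 0, 0, 0, 0, 0, 2, 4, 2, 2, 0, 0, 0, 0, 0, 0, 0, 0, 0, 0, 0, 0, 0, 0, 0, 0, 0, 0, 0, 0, (-1)]), (2, 296, [(-269), 264, 816, (-369), 221, 409, (-73), 69, 16, 0, 0, 0, 0, 0, 0, 0, 254, 133, (-141), 194, (-85), (-51), (-86), 4, (-1), (-5), 8, (-10), 5, 5, 4, 3, (-9), 0, 7, 0, 3, (-7), 7, 7, 3]), (26, 20, [213, (-89), (-80), (-171), 294, (-204), (-556), 868, (-392), 0, 0, 0, 0, 0, 0, 0, (-704), (-74), 15, (-95), 201, 251, (-151), (-18), (-3), (-16), (-17), 22, (-19), 17, (-42), 27, 25, 40, 18, (-16), (-25), (-20), (-28), (-7), (-4), 1, 0, 4, 0, 0, 0, 0, 0, 0, 0, 0, 0, 0, 0, 0, (-4), 0, 0, 0, 0, 0, 0, 0, 0, 0, (-1)]), (26, 83, [504, 269, (-597), 1148, (-283), (-29), 93, (-530), 84, 0, 0, 0, 0, 0, 0, 0, (-771), (-490), 453, (-631), 252, 160, 318, (-10), 3, 15, (-24), 30, (-15), (-15), (-12), (-9), 27, 0, (-21), 0, (-9), 21, (-21), (-21), (-9),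 0, (-4), 4, 4, 0, 0, 0, 0, 0, 0, 0, 4, 0, 0, 0, 0, 0, 0, 0, 0, 0, 0, 0, 0, 0, (-1)]), (26, 11, [(-434), 640, 1238, (-711), 439, 152, (-1337), 1622, (-761), 0, 0, 0, 0, 0, 0, 0, (-1722), (-364), 134, (-399), 460, 585, (-223), (-58), (-2), (-48), (-33), 42, (-46), 45, (-93), 80, 46, 101, 45, (-49), (-55), (-66), (-67), (-2), (-6), 1, 0, 4, 0, 0, 0, 0, (-4), 0, 0, 0, 0, 0, 0, 0, 0, 0, 0, 0, 0, 0, 0, 0, 0, 0, (-1)]), (4, 64, [(-710), 2510, 3994, 306, 500, 2758, 131, (-1837), 749, 0, 0, 0, 0, 0, 0, 0, 335, (-299), 171, (-228), (-113), (-162), 352, 16, 3, 18, 12, (-23), 13, (-19), 31, (-30), (-26), (-42), (-12), 18, 21, 20, 24, 1, 4, 2, (-1), 0, (-1), 0, 0, 0, 2, 0, 0, 0, (-1)]), (26, 21, [2182, 364, (-1890), (-356), (-33), (-365), (-277), (-4154), 1338, 0, 0, 0, 0, 0, 0, 0, (-204), (-1561), 1201, (-1458), (-34), (-26), 1402, 81, (-9), 53, 35, (-68), 45, (-54), 20, (-95), (-22), (-188), (-57), 87, 98, 106, 75, (-29), (-13), 23, (-8), 12, (-4), (-3), 0, 0, 0, (-2),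 0, 0, 1, 0, 0, 0, 0, 0, 0, 0, 0, 0, 0, 0, 0, 0, (-3)]), (5, 34, [1708, (-2031), (-3436), 2130, (-329), (-532), 2641, (-556), 485, 0, 0, 0, 0, 0, 0, 0, 2400, 1183, (-445), 1034, (-513), (-839), (-151), 31, (-1), 75, (-8), (-26), 30, (-63), 141, (-91), (-39), (-74), (-52), 47, 48, 87, 57, (-13), 6, (-6), (-2), (-2), 4, (-1), 0, 0, 0, 0, 0, 0, 1, 0, 0, 0, (-2), 0, 0, 0, 0, 0, 0, 0, 0, 0, 1]), (26, 192, [(-1816), 4679, 8701, (-1504), 1896, 5167, (-1242), 323, (-120), 0, 0, 0, 0, 0, 0, 0, (-954), (-467), 10, (-159), 172, 396, (-10), (-15), (-3), (-22), (-18), 29, (-28), 24, (-47), 46, 24, 65, 33, (-30), (-46), (-29), (-40), (-38), (-4), (-2), 2, (-4), 2, 0, 0, 0, 0, 2, 0, 0, 0, 0, 0, 0, 0, 0, 0, 0, 0, 0, 0, 0, 0, 0, 1]), (26, 238, [4168, (-707), (-4642), 1893, 472, (-1488), (-1064), 466, (-705), 0, 0, 0, 0, 0, 0, 0, (-4077), (-1762), 1622, (-2169), 1228, 1092, 762, (-18), (-11), 30, (-122), 121, (-84), (-22), (-134), 11, 143, 56, (-26), (-3), (-63), 60, (-109), (-123),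 (-44), 14, (-4), 1, 4, (-2), 0, 0, 0, 0, 0, 0, 4]), (5, 56, [(-1866), 3868, 4638, (-1297), (-253), 1828, (-2493), 352, (-557), 0, 0, 0, 0, 0, 0, 0, (-4607), (-2147), 1298, (-2275), 1194, 1334, 561, (-92), 12, (-53), (-70), 91, (-97), 50, (-184), 111, 95, 145, 52, (-72), (-101), (-87), (-133), (-33), (-19), 1, (-1), 1, (-1), (-1), 0, 0, 0, (-2)])]

/-- data -/
def level0eqsPart1 : List (ℕ × ℕ × Vec) := [(4, 359, [(-908), 4619, 4336, 1646, (-927), 3184, (-116), (-4645), 1455, 0, 0, 0, 0, 0, 0, 0, (-1998), (-2286), 1740, (-2397), 516, 327, 1670, 34, 18, 65, (-23), 35, (-15), (-62), 1, (-45), 31, (-87), (-80), 39, 15, 87, (-14), (-64), (-22), 5, 1, 0, 0, 1, 0, 0, 0, (-1)]), (6, 69, [(-595), (-3255), (-7621), (-1460), (-4538), (-4399), 3486, (-5225), 2157, 0, 0, 0, 0, 0, 0, 0, 3368, (-440), 404, (-79), (-1110), (-1249), 1433, 195, 13, 168, 107, (-85), 136, (-158), 219, (-255), (-88), (-375), (-173), 159, 161, 240, 194, (-91), (-11), 2, 8, (-13), 1, 5, (-2), 0, 0,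 3, (-1), 1, (-2), 0, 0, 1, 0, 0, 0, (-1), 0, 0, 0, 0, 1, 0, 2, (-1), (-1), (-1), 2, 0, (-1), (-1), 0, 0, (-1), 1, 0, 0, (-1)]), (5, 364, [426, 1668, 2265, 5770, (-686), 4199, 5587, (-10351), 4732, 0, 0, 0, 0, 0, 0, 0, 8626, 1491, (-536), 1794, (-2277), (-3033), 1373, 273, 12, 195, 190, (-231), 235, (-200), 487, (-365), (-259), (-448), (-196), 210, 260, 269, 335, 66, 58, (-11), (-5), 7, (-3), (-3), (-1), (-2), 1, 4, 0, 2, 0, (-1), 0, 1, 1, 0, (-1), 5, 0, 0, 0, 0, (-1), (-1), (-2), (-2), 2, 2, 0, 1, 0, 0, 0, (-1), 2, (-1)]), (4, 241, [2819, (-9008), (-13682), (-3812), (-935), (-9291), (-787), 8982, (-3548), 0, 0, 0, 0, 0, 0, 0, (-2141), 1345, (-896), 1010, 602, 981, (-1842), (-142), (-13), (-79), (-89), 104, (-101), 86, (-174), 154, 114, 207, 97, (-92), (-116), (-106), (-136), (-31), (-24), (-1), 0, (-3), 0, (-1), 0, 0, 0, 0, 0, 0, (-1), 0, 0, 0, (-1), 0, 0, 0, 0, 0, 0, 0, 0, 0, 1]), (4, 19, [(-3128), 9335, 18342, 3746, 4185, 11584, (-436), (-6385), 2964, 0, 0,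 0, 0, 0, 0, 0, 4408, 874, (-890), 1346, (-1150), (-1372), 216, 74, (-7), (-37), 136, (-190), 114, 22, 165, (-59), (-184), (-66), 24, 30, 106, (-41), 148, 169, 68, (-8), (-6), 10, (-1), (-1), 1, 1, (-2), (-2), 0, 0, 1, 0, 1, (-2), 0, 0, 1, (-3), (-1), 1, 0, 0, 0, 0, (-2), 0, 0, 0, 0, 0, 0, 0, (-1), 0, 0, 1, 0, 0, (-1)]), (4, 71, [(-1872), (-7342), (-13998), (-6938), (-5476), (-11663), (-1915), 9754, (-4379), 0, 0, 0, 0, 0, 0, 0, (-7628), (-1472), 831, (-2353), 1964, 2398, (-940), (-293), 24, (-150), (-173), 180, (-215), 137, (-367), 244, 168, 389, 143, (-209), (-218), (-248), (-293), (-8), (-27), (-10), (-2), 7, (-5), (-4), 1, 1, 0, (-3), 1, (-1), (-2), 0, 0, (-1), 0, (-1), (-1), 2, 1, 0, 0, 1, (-1), 0, 0, 2, (-1), 1, (-2), 0, 1, 1, 0, 0, 1, (-2), 0, 0, 1]), (4, 220, [(-5660), (-4063), (-2420), 1837, (-5249), (-1319), 9147, (-8716), 5020, 0, 0, 0, 0, 0, 0, 0, 15693, 4568, (-3191), 5853, (-4550), (-5043), 185, 492, 27, 242, 402, (-314), 435, (-262), 819, (-589),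 (-426), (-656), (-297), 271, 354, 330, 546, 144, 115, (-53), (-12), (-25), (-8), 2, (-3), (-5), 2, 18, (-2), 4, (-4), (-2), 0, 4, 2, 0, (-3), 10, 0, 0, 0, (-2), (-1), (-3), 0, (-7), 3, 1, 4, 2, (-1), (-1), 1, (-2), 3, 3, 0, 0, (-2)]), (36, 289, [4531, (-16254), (-26100), (-1408), (-4529), (-16333), 3396, 4797, (-1618), 0, 0, 0, 0, 0, 0, 0, 3589, 2850, (-1584), 2430, (-902), (-1010), (-1416), 28, (-8), 5, 60, (-85), 72, (-10), 102, (-77), (-78), (-92), (-19), 34, 84, 21, 96, 65, 17, (-5), 0, 0, 0, 0, 0, 0, 0, 0, 0, 0, 0, 0, 0, 0, 0, 0, 0, 0, 0, 0, 0, 0, 0, 0, 0, (-10), 0, 0, 0, 0, 0, 0, 0, 0, (-1)]), (9, 345, [6464, 749, (-519), 13881, 1366, 6163, 9051, (-18462), 7959, 0, 0, 0, 0, 0, 0, 0, 14200, 2407, (-455), 2665, (-3585), (-4971), 2570, 555, (-7), 339, 304, (-388), 417, (-340), 753, (-631), (-388), (-826), (-394), 420, 508, 527, 571, 68, 56, (-4), (-7), 12, 4, 1, 0, 0, 0, 0, 0, 1, 2, 0, 1, (-1), 0, 0, 1, (-2), (-1), 1, 0, (-1), 1, 0, (-3), (-2), (-1), (-1),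 2, 0, 0, (-1), 0, 0, 0, 2, 1, 1, (-3)]), (5, 25, [(-2972), 423, (-3213), 3151, (-8666), 3205, 15602, (-24002), 10626, 0, 0, 0, 0, 0, 0, 0, 18670, 936, 210, 2260, (-5520), (-6624), 4952, 823, 45, 663, 414, (-463), 593, (-640), 1196, (-1084), (-551), (-1359), (-649), 613, 679, 911, 838, (-126), 66, (-13), (-6), (-31), 7, 8, (-3), (-3), 0, 9, (-3), 3, 0, 0, 0, 6, 0, 0, 0, (-3), 0, 0, 0, (-3), 3, 0, 2, (-6), 0, (-3), 6, 0, (-3), (-3), 0, 0, (-3), 6, 0, 0, (-3)]), (2, 236, [11553, 4188, 17007, 20397, 17966, 15202, (-2192), (-2992), 2171, 0, 0, 0, 0, 0, 0, 0, 11229, 7386, (-4611), 7487, (-2135), (-2896), (-3368), 103, (-111), (-215), 215, (-274), 205, 186, 185, 87, (-189), 73, 108, 41, 175, (-155), 218, 405, 89, 2, (-21), 29, 3, (-7), 2, 2, 0, (-3), 1, 0, 3, 0, 1, (-5), 1, 1, 0, 1, (-1), 1, 1, 1, (-1), 0, (-4), 2, (-1), 1, 1, 1, 3, 1, 0, 0, 3, (-1), 1, 2, (-2)]), (16, 320, [2720, (-11550), (-31846), (-11959), (-12039), (-21347), (-1557), 6277, (-4318), 0, 0, 0, 0,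 0, 0, 0, (-15740), (-7307), 5706, (-8889), 4083, 4262, 2648, (-243), 48, 22, (-351), 256, (-327), (-12), (-550), 184, 341, 200, 26, (-85), (-165), (-28), (-384), (-303), (-130), 36, 3, 39, 4, (-5), 2, 4, (-2), (-14), 2, (-4), 6, 2, (-1), (-1), (-3), (-1), 1, (-6), 2, (-1), 0, 1, 1, 2, (-5), 6, (-3), (-1), (-4), (-2), 1, 1, 1, 2, (-3), (-4), 0, 0, 3]), (12, 408, [(-7696), 29008, 52970, 6688, 13122, 32760, (-6782), (-7138), 3019, 0, 0, 0, 0, 0, 0, 0, (-956), (-1256), (-50), (-341), 342, 428, 319, (-76), (-18), (-174), 18, (-39), (-34), 166, (-89), 204, (-46), 301, 175, (-126), (-102), (-244), (-77), 170, 59, (-9), (-2), 6, (-1), 2, 1, 1, (-2), (-1), 0, 0, (-3), 0, 1, (-2), 0, 0, 1, (-3), (-1), 1, 0, 0, 0, 0, (-1), 0, 0, 0, 0, 0, 0, 0, (-1), 0, 0, 1, 0, 0, (-1)]), (26, 186, [407, 760, (-1124), (-11369), 3513, (-7432), (-17874), 27513, (-13178), 0, 0, 0, 0, 0, 0, 0, (-29463), (-6220), 3261, (-8101), 8135, 9770, (-3188), (-1052), (-15), (-636), (-674), 709, (-844),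 639, (-1562), 1219, 796, 1555, 672, (-741), (-871), (-938), (-1132), (-143), (-154), 37, (-7), 56, (-5), (-15), 3, 4, (-1), (-16), 3, (-4), 4, 1, (-1), (-2), (-2), (-2), (-1), 1, 3, (-1), 0, 1, (-2), 1, (-8), 9, (-1), 2, (-8), (-1), 2, 2, 1, 1, 0, (-6), (-1), (-1), 5]), (4, 310, [(-3987), 11751, (-5522), 6255, (-18219), (-818), 7614, (-36943), 11840, 0, 0, 0, 0, 0, 0, 0, (-6194), (-14144), 11345, (-15153), 1431, (-865), 12585, 713, 150, 569, 123, (-120), 227, (-621), 325, (-676), (-118), (-1157), (-775), 525, 529, 753, 313, (-419), (-117), 44, 5, 6, (-3), 0, (-3), (-6), 0, 0, (-2), 0, 7, (-2), (-3), 10, 2, (-2), (-5), 18, 4, (-3), 1, 2, (-1), 2, (-5), (-5), (-3), 2, (-1), 0, (-2), (-1), 4, (-1), 0, (-4), (-1), (-1), 5]), (9, 165, [9901, (-32682), (-56713), (-6322), (-10490), (-36526), 2794, 14626, (-6034), 0, 0, 0, 0, 0, 0, 0, (-1776), 2176, (-802), 1084, 485, 852, (-2165), (-122), (-11), (-13), (-83), 109, (-66), 12, (-149), 9, 134, 52, 20, (-41), (-51), 9,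 (-85), (-77), (-39), 6, (-6), (-4), (-1), (-2), 0, 0, (-1), (-1), 0, 0, 2, 0, 0, 0, 0, 0, 0, 0, 0, 0, 0, 0, 0, 0, 1]), (2, 196, [(-1762), 14995, 29398, (-2871), 14360, 11722, (-21722), 23998, (-11029), 0, 0, 0, 0, 0, 0, 0, (-25104), (-3597), 1042, (-4585), 7209, 8686, (-4644), (-961), (-43), (-798), (-510), 629, (-750), 774, (-1497), 1359, 720, 1690, 784, (-758), (-889), (-1112), (-1067), 91, (-89), 13, 5, 36, (-6), (-9), 3, 3, 0, (-9), 3, (-3), 0, 0, 0, (-6), 0, 0, 0, 3, 0, 0, 0, 3, (-3), 0, (-3), 6, 0, 3, (-6), 0, 3, 3, 0, 0, 3, (-6), 0, 0, 3]), (8, 211, [(-9403), 26755, 27654, (-11880), (-3195), 12649, (-13793), (-8344), (-116), 0, 0, 0, 0, 0, 0, 0, (-28282), (-16852), 10923, (-17712), 7035, 7851, 7075, (-487), 83, (-157), (-346), 356, (-542), 158, (-1057), 641, 488, 363, 187, (-227), (-328), (-316), (-635), (-328), (-191), 79, (-22), 19, (-7), (-5), 3, 3, (-5), (-29), 1, (-7), 5, 4, (-2), 1, 2, 1, 1, (-2), 2, (-2), 2, 3, 1, 6, (-3), 3, (-4), 1, (-6), (-2),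 2, 2, 1, 3, (-3), (-2), (-2), 0, 8]), (36, 2, [(-6123), 39244, 71332, 13780, 19279, 48310, (-3775), (-17367), 7524, 0, 0, 0, 0, 0, 0, 0, 6256, (-216), (-547), 1481, (-1536), (-1873), 1611, 250, (-45), 45, 132, (-156), 163, (-30), 291, (-102), (-171), (-120), (-38), 103, 113, 99, 195, 84, 60, 2, 9, (-7), 6, 7, 0, 1, 0, 0, 0, 1, (-2), 1, 1, (-1), (-1), 0, 2, (-9), (-1), 1, 0, (-2), 3, 1, 1, (-2), (-2), (-3), 3, (-1), (-1), (-1), 0, 1, (-4), 3, 1, 1, (-3)]), (3, 467, [14720, 20157, 23178, 34244, 9969, 27453, 8337, (-43309), 16249, 0, 0, 0, 0, 0, 0, 0, 14027, (-2717), 4346, (-3576), (-2837), (-5995), 8027, 923, (-59), 491, 288, (-649), 588, (-507), 836, (-922), (-512), (-1267), (-668), 715, 914, 849, 768, 99, 14, 64, (-13), 20, 24, 2, 5, 6, (-5), (-20), (-1), (-6), 12, 4, 2, (-5), (-3), 2, 3, (-22), (-1), 0, 3, (-2), 8, 8, (-3), 2, (-10), (-8), 5, (-4), 0, (-1), (-1), 6, (-8), 6, 1, 3, (-3)])]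

/-- data -/
def level0eqsPart2 : List (ℕ × ℕ × Vec) := [(36, 37, [(-7164), 40813, 73231, 14199, 18332, 50066, (-2075), (-21189), 9183, 0, 0, 0, 0, 0, 0, 0, 8410, (-387), (-345), 1491, (-2185), (-2679), 2406, 344, (-37), 120, 187, (-231), 235, (-103), 440, (-232), (-255), (-279), (-104), 176, 199, 194, 302, 90, 75, 0, 9, (-7), 6, 7, 0, 1, 0, 0, 0, 1, (-2), 1, 1, (-1), (-1), 0, 2, (-9), (-1), 1, 0, (-2), 3, 1, 1, (-2), (-2), (-3), 3, (-1), (-1), (-1), 0, 1, (-4), 3, 1, 1, (-3)]), (16, 194, [(-16371), 1745, 10228, (-44032), 1329, (-10461), (-26285), 51536, (-22109), 0, 0, 0, 0, 0, 0, 0, (-37730), (-6120), 276, (-6341), 9320, 13881, (-7575), (-1600), (-6), (-888), (-872), 987, (-1170), 949, (-2091), 1743, 1028, 2166, 1132, (-1129), (-1345), (-1377), (-1535), (-261), (-186), 41, 7, 16, (-22), (-2), 1, 5, (-2), (-12), 2, (-5), (-8), 4, (-2), 1, (-5), (-1), 2, (-12), 3, (-2), (-1), (-2), 0, (-3), (-2), 8, 4, 0, (-9), (-2), (-1), 2, 2, 2, (-5), (-4), (-2), (-2), 6]),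 (17, 492, [(-17896), 26667, 31896, 17472, (-15330), 22988, 17826, (-57488), 23195, 0, 0, 0, 0, 0, 0, 0, 21828, (-5899), 4574, (-3058), (-6549), (-9754), 12510, 1692, 178, 925, 946, (-466), 1032, (-1007), 1689, (-1710), (-753), (-2117), (-1249), 949, 899, 1259, 1269, (-248), 124, (-87), (-5), (-152), (-22), 7, (-13), (-21), 10, 62, (-9), 12, (-5), (-8), (-5), 16, 9, 3, (-16), 54, 3, (-4), 2, 0, (-9), (-10), 14, (-17), 12, 11, 8, 8, (-4), (-1), 4, (-9), 14, 4, (-4), (-3), 2]), (5, 114, [(-17533), 40928, 85019, 915, 18113, 55587, 3613, (-18835), 10600, 0, 0, 0, 0, 0, 0, 0, 23439, 6135, (-6292), 10315, (-6892), (-6476), (-377), 491, (-31), 297, 458, (-518), 521, (-242), 1091, (-575), (-637), (-712), (-105), 316, 386, 381, 735, 153, 175, (-25), 26, (-59), 3, 20, (-2), (-1), 1, 10, (-1), 2, (-10), 1, 0, 2, (-2), 1, 5, (-16), (-3), 0, (-2), (-5), 4, (-2), 11, (-5), 2, (-6), 5, (-2), (-4), (-2), 0, 0, (-6), 6, 1, 0, (-3)]), (9, 175, [4681, (-6021), (-4261), (-19435),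 14587, (-13617), (-34255), 66738, (-27751), 0, 0, 0, 0, 0, 0, 0, (-47096), (-3447), 1046, (-5949), 13335, 16856, (-11567), (-2056), (-100), (-1452), (-1189), 1221, (-1553), 1433, (-2700), 2446, 1446, 3501, 1720, (-1515), (-1837), (-2056), (-2103), 261, (-85), (-14), 5, 71, (-4), (-36), 6, 6, 3, (-21), 4, (-1), 10, (-2), 0, (-15), 4, 5, (-3), 10, (-3), 0, (-1), 10, (-9), 0, (-4), 15, 7, 10, (-8), 4, 9, 6, (-10), (-3), 8, (-16), (-1), 1, 8]), (5, 119, [25342, 10302, 4152, 59043, 7341, 26787, 25439, (-54632), 23282, 0, 0, 0, 0, 0, 0, 0, 32786, 3672, 2685, 3838, (-7528), (-12833), 9422, 1646, (-7), 1148, 614, (-541), 1048, (-1152), 2160, (-1944), (-668), (-2137), (-1360), 1192, 1136, 1766, 1341, (-43), 115, (-68), (-5), (-50), 22, 11, (-4), (-9), 4, 29, (-2), 8, 1, (-5), 3, 0, 4, 1, (-2), 14, (-6), 3, (-3), (-3), (-2), (-4), 5, (-14), 2, 2, 11, 3, (-3), (-2), (-5), (-5), 7, 10, 3, 1, (-10)]), (29, 214, [6707, (-23860), (-61313), 17173, (-28510), (-33904), 21251,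 (-45151), 16144, 0, 0, 0, 0, 0, 0, 0, 17544, (-5343), 6413, (-6385), (-5089), (-7944), 11675, 1314, 106, 731, 802, (-727), 912, (-842), 1229, (-1462), (-731), (-2146), (-1192), 920, 1250, 1104, 1177, (-48), 20, 9, (-80), (-7), 0, (-27), 0, (-4), 0, 6, (-4), (-1), 10, (-1), (-2), 5, 5, 0, (-13), 30, 5, (-3), 6, 4, (-4), 4, (-2), 1, (-6), 5, 3, 5, 3, 1, 5, 0, 9, 0, (-3), 0, 2]), (8, 27, [(-38357), 56812, 101833, (-7484), 3390, 59573, 2692, (-27194), 12943, 0, 0, 0, 0, 0, 0, 0, 11910, (-3162), (-385), 2001, (-4650), (-4280), 5044, 766, 114, 445, 536, (-23), 411, (-423), 985, (-575), (-323), (-789), (-376), 314, 64, 498, 525, (-243), 120, (-85), (-11), (-150), (-26), 18, (-10), (-20), 5, 49, (-7), 15, (-14), (-3), (-1), 17, 10, 3, (-6), 38, (-2), (-1), 1, (-1), (-3), (-8), 16, (-19), 16, 7, 5, 10, (-5), (-3), (-1), (-6), 8, 5, (-2), (-5), 1]), (27, 22, [(-32475), 29602, 40334, (-31088), (-7934), 4614, (-30531), 23010, (-12444), 0, 0, 0, 0, 0, 0, 0, (-47028), (-18058),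 8964, (-19758), 11559, 15066, 824, (-1612), 136, (-1250), (-598), 672, (-1236), 1171, (-2335), 1988, 696, 2669, 1262, (-1414), (-1329), (-2016), (-1633), 342, 48, (-32), (-92), 130, (-58), (-86), 6, 6, 9, (-24), 6, (-9), (-6), (-5), 1, (-6), 8, (-13), (-21), 56, 16, (-4), 1, 13, (-28), (-9), (-20), 23, 5, 31, (-35), 11, 12, 11, 0, (-6), 28, (-14), (-9), (-7), 15]), (8, 101, [17604, (-12108), (-43111), (-4044), (-3159), (-26352), (-19564), 47666, (-23025), 0, 0, 0, 0, 0, 0, 0, (-58507), (-15029), 12277, (-20603), 16548, 17846, (-1446), (-1709), 36, (-559), (-1675), 1746, (-1641), 622, (-2403), 1463, 1715, 2743, 743, (-1185), (-1718), (-939), (-2206), (-650), (-287), (-22), (-2), 104, 8, (-32), 6, 11, 2, (-14), 10, (-7), 0, 2, 3, (-12), (-7), (-9), 0, (-15), 4, 1, (-4), 1, (-8), (-4), (-10), 18, (-5), 9, (-13), (-3), 2, 6, (-4), 0, 5, (-4), 1, (-3), (-3)]), (17, 161, [(-33161), 54032, 100112, (-22090), 16017, 48134, (-27653), 9031, (-2968), 0, 0, 0, 0, 0, 0, 0,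 (-19807), (-7881), 1082, (-4666), 4068, 7502, (-1686), (-323), (-31), (-773), 28, 354, (-446), 787, (-1097), 1081, 414, 1356, 937, (-589), (-893), (-1067), (-719), 358, 89, (-67), (-81), (-133), (-27), (-15), (-3), (-14), 8, 3, (-8), 10, (-12), (-1), 7, 7, 19, 13, (-5), 31, (-11), (-3), 3, 4, (-6), (-1), 18, (-17), 29, 15, (-8), 17, (-1), (-5), (-11), 0, 12, 10, (-8), (-10), 11]), (8, 136, [10672, (-34464), (-43844), 34592, (-6066), (-15047), 32274, (-14822), 12886, 0, 0, 0, 0, 0, 0, 0, 54710, 23013, (-12352), 26068, (-14287), (-17376), (-3792), 1251, 47, 701, 1208, (-710), 1237, (-769), 2786, (-1603), (-1029), (-1548), (-746), 801, 826, 995, 1599, 697, 452, (-251), (-22), (-120), (-24), (-1), (-13), (-21), 12, 67, (-4), 22, (-11), (-19), 1, 3, 15, 5, (-11), 63, (-9), 3, (-6), 4, (-19), (-14), 14, (-23), 21, 15, 14, 13, (-2), 1, (-11), (-18), 27, 3, (-2), 0, (-6)]), (4, 24, [18995, (-66637), (-114216), (-487), (-24452), (-69243), 17947, 13876, (-4554), 0, 0,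 0, 0, 0, 0, 0, 13274, 8955, (-3778), 7281, (-3399), (-4349), (-3035), 297, 25, 285, 231, (-120), 316, (-312), 633, (-623), (-180), (-659), (-382), 274, 326, 430, 418, 13, 23, (-48), (-17), (-12), (-3), (-3), (-3), (-6), 3, 18, 0, 6, 0, (-3), 0, 3, 3, 0, (-3), 15, 0, 0, 0, 0, (-3), (-3), 0, (-6), 3, 3, 3, 3, 0, 0, 0, (-3), 6, 0, 0, 0, (-3)]), (34, 4, [(-50878), 39024, 39220, (-15211), (-41435), 1785, 334, (-94457), 32704, 0, 0, 0, 0, 0, 0, 0, 6184, (-23761), 15744, (-21280), (-3587), (-6302), 22555, 2510, 273, (-64), 1956, (-1895), 1295, (-310), 358, 1, (-1224), (-2573), (-644), 1258, 1870, (-58), 1559, 673, 9, 124, (-81), 28, 24, (-69), (-2), (-5), (-14), (-52), (-24), (-5), 98, (-11), (-17), 36, 21, 21, (-28), 93, 13, (-19), 20, 29, 10, 49, (-16), 0, (-17), (-9), 24, 8, 5, (-12), 3, 12, (-11), (-38), (-17), 2, 43]), (26, 59, [18044, (-76655), (-131739), (-16582), (-29774), (-83404), 15822, 23900, (-8957), 0, 0, 0, 0, 0, 0, 0, 7798, 7552, (-3442), 5751, (-2316),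 (-2194), (-3822), 143, 11, 252, 68, (-65), 174, (-245), 323, (-468), (-64), (-536), (-240), 200, 241, 370, 266, (-147), (-36), (-6), (-2), (-2), 3, 0, (-2), (-2), 0, 7, (-1), 1, 2, 0, (-1), 3, (-1), 0, (-1), 1, 1, 0, 0, (-1), 1, 0, (-2), 0, 0, (-1), 2, 0, (-1), (-1), 2, 0, (-1), 1]), (24, 246, [29087, (-59322), (-85380), 16650, (-5237), (-39104), 32767, (-5848), 6743, 0, 0, 0, 0, 0, 0, 0, 51155, 23271, (-13089), 23997, (-13102), (-15295), (-5286), 1206, (-116), 879, 746, (-951), 1177, (-818), 2204, (-1683), (-977), (-2138), (-865), 1075, 1276, 1432, 1601, 178, 118, (-24), 36, (-45), 27, 36, (-1), 0, (-3), 12, (-1), 4, (-1), 1, 1, (-2), (-2), 5, 12, (-33), (-7), 4, (-2), (-7), 11, 3, 10, (-11), (-3), (-15), 16, (-5), (-4), (-4), (-1), 2, (-12), 7, 7, 5, (-9)]), (21, 504, [13101, (-72674), (-100433), (-21115), (-10659), (-69588), 4791, 51531, (-17796), 0, 0, 0, 0, 0, 0, 0, 11248, 18743, (-13309), 18128, (-2965), (-1021), (-14597), (-552), (-83), (-450), 69, (-10),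 (-63), 460, (-148), 458, (-7), 630, 551, (-351), (-268), (-596), (-75), 386, 75, (-41), 0, (-28), (-6), 4, (-1), 0, 2, 8, 0, 1, (-7), (-1), 1, (-1), (-1), 1, 2, 1, (-1), (-1), (-1), (-1), (-1), (-2), 5, (-1), 4, (-1), 0, 0, 0, 1, (-1), (-1), 1, 2, 0, 0, (-1)]), (5, 293, [20745, (-68363), (-85746), (-15727), (-318), (-49030), 18805, 39893, (-10473), 0, 0, 0, 0, 0, 0, 0, 35910, 26997, (-18275), 27765, (-9425), (-8328), (-14959), 14, (-178), 169, 189, (-560), 458, (-64), 1165, (-610), (-574), (-454), 174, 207, 358, 345, 698, 373, 170, (-22), (-6), (-24), 9, 22, 0, 1, (-2), 7, 1, 5, (-10), 3, 4, (-2), (-5), 2, 13, (-40), (-6), 5, (-3), (-10), 9, (-3), 5, (-8), 6, (-11), 7, (-3), (-3), (-3), (-2), 2, (-10), 11, 6, 4, (-9)]), (15, 504, [6523, (-41557), (-58953), (-44497), 328, (-52812), (-27832), 80489, (-33846), 0, 0, 0, 0, 0, 0, 0, (-42066), 541, (-2955), (-2221), 11292, 16236, (-14330), (-2061), (-117), (-1262), (-1167), 1081, (-1447), 1314, (-2714), 2260, 1304,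 2872, 1543, (-1381), (-1557), (-1787), (-1897), (-102), (-232), 75, 13, 58, (-1), (-9), 7, 13, (-4), (-33), 5, (-10), 2, 5, 0, (-9), (-7), (-1), 8, (-27), 2, 0, (-1), 1, 3, 4, (-3), 15, (-5), (-5), (-10), (-6), 2, 3, (-1), 5, (-9), (-5), 0, 0, 4]), (35, 236, [(-5283), 71618, 126708, 3567, 44838, 75457, (-38076), 5913, (-5498), 0, 0, 0, 0, 0, 0, 0, (-33505), (-10693), 4466, (-11528), 9713, 11856, (-1595), (-1329), (-169), (-1131), (-762), 286, (-972), 1136, (-2101), 1889, 626, 2103, 1218, (-928), (-819), (-1493), (-1286), 311, (-102), 152, 2, 138, 14, (-16), 13, 21, (-10), (-63), 7, (-16), 10, 10, 2, (-15), (-9), (-1), 10, (-47), 2, 1, 2, 1, 7, 10, (-14), 22, (-13), (-6), (-11), (-9), 5, 3, 4, 9, (-14), (-6), 2, 3, 3])]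

/-- the table with its checks -/
def level0 : CfsgLib.Sporadic.ChainLevel where
  table := table0
  gexp := [[1], [0, 1]]
  perm := [0x1e0710146c7007200c000247001001468123f4e0320f08890435c0d39d123ecda874bd3f062561180dc1f2a452358350705d3f9b15f860294fa7d4c4598304b189778e56a4d44507c40044694c9664663e03d1a4284641e3917d144636805c261483282d841753d9ad6157c7b19a3385f4a8e9158506a0346602c691b4088396ac4c69c2e651808c4757247b8be2c8d479710767280a8c0747207a749055c0f22c47f284497dcbf3b8911f913371dd0fcf32f9915fce14441d7348921522742087fd4f1f4e236c2b77d0f41da37c5d67648d2b5d37320526d6b4d5ea84cd9424a27f5dc7a58d73cd350cc3398ff0d9a104110120552652d064885ddf62d96c2a1012800c59c310582a85d162c10e5d9b75c43e14cd504c4546db015d0c29212529652b0b5061723e4bc0a58841a206d9907c15485229211347a14d844f77d21c2d108810ec5659b899845a8545318c3d5ac88db53603c3c5a2269ed56920859fc5a22803ccf0ec2145cdd1299d255467ed5f2081422d422aceb78ccd2cc11270de52c334bd8306c43500263a84f40db30382338c4729c8105d312be0e5ed3e3161f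6098b348ed095934ade021d1c7ca24589e47e4c6200c14a5874842083621818d08ad974d98f32d81104c06be1e4299e789ef49e2725a014e1515d0f4590682a84e16c3a6552e57824135023319c0c86b1918a6a85e18446251304a0588315c555ba3a0380bc67455b26b86a86926558b829979511f81695b491b9699495e0407b9966e186514c74c8656f46f70c078b46d704736f80202c086f06e708062dca3824907ac8c7fa1520c9382c9f80c8f79de15390d761692744b2ecb222941308278296d3bd9f76c97751e62e9538651e83dce7e93f7449e5b8927cd376ed2358c8e548592b90b81cd15cc424f59275cb92193976a1b809617958e8620047cdf7553b5e81a5753c495508a9604cc1551d6f55d3a8951d8da3371e2e8de347147772e32719bf, 0x15c0710788c5c91b0036f4711d62f0fc5d399ac518646c44869431468620dc695d9a813423504d214c1e3e4db1684e0884f140571441f064355d0a81ac3b5e9aa2951445da70402c0c8612c54852db30584512c670f40d2b0e410c5f6b8ea4a1634a4cf5a9103591116c4c579401585259cf803c412b8e8514152cc4629c2f4641306c392a978728046f80b1c80970c011d80a71c021ec001bc074d0dc67d82414c866d7f5dda90d8680c060459a412466529b039dad0f85c551954b5bb3f1b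65c1a1311974d5834117e381a37de29539883b9857c22048991826267fe1d2f98c5b12c6e99d560fd6dd992b4e53adaf0303c1085e4ae0f09d2544e110a50d25cc5658c64dc834e5814187e4217c28ce1688e234de2080d1369df074d8735fd80e1f230bc3098e0514419547110b0129b22e89d4b96d4c16e6e19c588ce8320d09025580cc5094386de3164214f13d2089f4d8dd4e0de6019e471d447e252460464e0a0b4a40cda60491818d1b264b7564ff56901661b53e8fb859de1501c3d0f55acd784a130a82b5a4d526c7f32507329096697d215ed61df33c1d23ce232a5755edab060340e86a57e1a1615d59a171556455495559942ed2f6e5312d8fe6d1005c4a15c9a04aa0e0992444a100a10c765f57ee2b2214c5498a278804e8df2687d42ccb2ad79068380442e2991505c472c9492bce903840251572e5332d10228173258c72053b1f10a288e376df92295021ced745ee24d2175e0773e01238c02e09c5bd322d49856d038c1c88ddbc8d4708b5c18d8748b9c58b0798cc6d2fd8d7fa1c8911e821907c584888f253d897da284fcd0795e13dcd97addc4996149ccd5a10e3510f53489761f454d8b8a9fa741ec7ca21210ec3bd8675a0582e272412048d92234bd7f1cc63cc380a1e861e6781e77a2157a5dd5713e865e4594f6851ea23cc173a007551d818927bc8674cf122d51769f8021c27187a8d1cb1b8066fc731de32]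
  pinv := [0x1c0b714060280272dbf71c081ddc633c155011c30131034de4a625349463a8c687538098931142158d1f1914161d524ede710cee34c9f1844f1a59e0c4d16313517c252f8206746560d1e4444136c8c6cd6e825390ecdf64d4330883489e119d886053d1744808cdc424c3170e265e036b18212c27644590ad9207449639bb0fd9f5fc4268d8d00dc1725bd02401015c31e46d1d633000731ec6f0e49c22081579454a1d43e0968395631c957912a744a7805d973c877edd5651245e1ed130c4450ac4c9e07e5d7338822cdcd3902c6a144330226012c3a0a8811483588078d30400e9329cc69e0d7c1e23b41b238855bd5f798bb0bd4c575b90403d1396c6292f1611d59e07540b90dcdd09014440b10649e229214ce1903c9127542118352f0166705b4f12d40d51219ea045121fc8d5f50c148fd100ec0b4180700e0a0bd0e8cd6253e04c7d3c0a2404b25ca0538ddd35ca13049205c890e1a03552007c44030e055e2b7ce1845d6225dff6ba206957665960169540c8c561536655476ea243e4ae5a9fd5ea0f8a61b87e0a52df74e9e54acba6a9b849626135b139934428fb7709b8857b809f13d59a69a2807904459ad6661e6192788e1356a005f8e70c0d0469df420ad32de97ea271f8da3ae085f051360c86c9a98714a154470a8901ad6d5393741c546dd613bc3363d4f42cb78556b3cc8f82d531a9846d5691803e15d0562d235cdeb128bf44ca31883c6c06817836640664345368970384296853f18d0f3c8d96d9af66dfe721bc71237011c2729be1d2328da2e1e86e1da342a8947d4b8261f81f0a97ba1a2960c778a6841ec2d48b0d0a0555db5d12e56e147bdda3e8b62bdd0159156d1753d0a4561fc3f82e324846ad5c7d926464b47489a85d79849d8408ab59a06265ce7a1d666164525f4140fc394b03d9d3460d4859f2692113fc1a5c54d3c5650490e5662a4197746cf7889681c5c08bc701e06c8d62d8c4728b230,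 0x1e4731dc071b4008cc7b8b0711d46f300456485c0e188480673b0611018c5402c618684c4e20842b379090981d401015b8c65c8ca4e1390e51c62465220150e91e5442d2181861c6954831304442480c64c5d308483c04118d8d04c8c3c8421541c094270a02a164204c15a16029559080905424c0d30c492243b05d22044ee2344321c1954c30019cb8c87a704091c2357140a1d23600dc98bc78681813553d5f59e430d17e144895a85e1ed69a283a2046ca1c8011888dac6515d670cc6e5246013c6d4f55f10d66969688d847434628640bd4c1a984118bc179903c43c63862661b8591256d1963d1603a6052c9cc6ce1d3aa09270cd33d9d2053e5018340de73f44f774df07cdc7a93b1493538de1380231f50f4457f288d936da311cbd0389017d9112cbe7e5a92a1fa5222775d4a4c933865e016c224b12d260b95952759d29665bb280803513f35941685825cccb7a5eb144535c0c80d58b2283648466059234522174516805ad2b2025bcc7791e61304e5b0c42d4963d9613e1636dd971f09e438d0440d25f99f4290b855dc15c1e411053b460040ef0f58f2383e5e5ec299d869e295e9f02515c579952e1264a1ba8515715954409e53f04d56e185605a7a13a141342d0f73e5b6269685a99b0b94d068841ad850c94e35d4328483448d31fc9f754a97ed4629dd95edf12cdcd3ae0874cad80d1a57c953389d4a8bb508823ecb744c7e5ac9b368a322c1447c3706c850cd4f03c91128bf23c123cc3f5992b264ba3e9622d8976fc081ba34005c38b472009c78b8766f4051b23181ce4879b07d1aa52626456207f1ae7b9748a9a478e134bce1839df3750785dde8360f8421286de27d5456ae242a9d47d9477bd75768a48ada57cd76818e5738b087db1828e6465fd889af748ae46dfe3f8ff5b4c55c4c94d93786a114b959832165550673cb182ce72adf77594b741172bdff76ca57c977721c27180b6f0048ddca8c1c0711be]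
  defs := [[(0, true), (0, true), (1, true), (1, true), (0, true), (1, false), (1, false)], [(1, true), (1, true), (0, true), (1, true), (0, true), (1, true), (0, false), (0, false), (1, false), (0, false), (1, false)]]
  eqs := level0eqsPart0 ++ level0eqsPart1 ++ level0eqsPart2
  pts := [12]

end CfsgLib.Sporadic.MultTwoCent
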