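import Mathlib
import Cfsg.Agent.Lib.Sporadic.ChainCertificate
import Cfsg.Agent.Lib.Schur.TrieFast

/-!
# Coset table 1 of a chain
-/

set_option autoImplicit false
set_option maxRecDepth 100000
set_option maxHeartbeats 0
set_option Elab.async false

noncomputable section

namespace CfsgLib.Sporadic.MultTwoCent

open CfsgLib.Schur.Cert

/-- data -/
def next1 : Trie (ℕ) := .node (.node (.node (.node (.node (.node (.node (.leaf 1) (.leaf 37)) (.node (.leaf 27) (.leaf 32))) (.node (.node (.leaf 15) (.leaf 49)) (.leaf 38))) (.node (.node (.node (.leaf 2) (.leaf 7)) (.node (.leaf 25) (.leaf 54))) (.node (.node (.leaf 3) (.leaf 39)) (.leaf 42)))) (.node (.node (.node (.node (.leaf 4) (.leaf 46)) (.node (.leaf 8) (.leaf 24))) (.node (.node (.leaf 19) (.leaf 14)) (.leaf 18))) (.node (.node (.node (.leaf 11) (.leaf 47)) (.node (.leaf 34) (.leaf 55))) (.node (.node (.leaf 21) (.leaf 33)) (.leaf 45))))) (.node (.node (.node (.node (.node (.leaf 0) (.leaf 22)) (.node (.leaf 29) (.leaf 44)))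 (.node (.node (.leaf 17) (.leaf 51)) (.leaf 20))) (.node (.node (.node (.leaf 9) (.leaf 43)) (.node (.leaf 28) (.leaf 52))) (.node (.node (.leaf 23) (.leaf 31)) (.leaf 5)))) (.node (.node (.node (.node (.leaf 6) (.leaf 30)) (.node (.leaf 10) (.leaf 16))) (.node (.node (.leaf 12) (.leaf 48)) (.leaf 41))) (.node (.node (.node (.leaf 13) (.leaf 40)) (.node (.leaf 36) (.leaf 53))) (.node (.node (.leaf 26) (.leaf 50)) (.leaf 35)))))) (.node (.node (.node (.node (.node (.node (.leaf 2) (.leaf 0)) (.node (.leaf 28) (.leaf 47))) (.node (.node (.leaf 16) (.leaf 50)) (.leaf 39))) (.node (.node (.node (.leaf 8) (.leaf 42)) (.node (.leaf 32) (.leaf 1))) (.node (.node (.leaf 22) (.leaf 53)) (.leaf 43)))) (.node (.node (.node (.node (.leaf 5) (.leaf 13)) (.node (.leaf 9) (.leaf 55))) (.node (.node (.leaf 20) (.leaf 51)) (.leaf 40))) (.node (.node (.node (.leaf 12) (.leaf 48)) (.node (.leaf 35) (.leaf 6))) (.node (.node (.leaf 25) (.leaf 38)) (.leaf 41))))) (.node (.node (.node (.node (.node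 (.leaf 3) (.leaf 19)) (.node (.leaf 30) (.leaf 29))) (.node (.node (.leaf 18) (.leaf 52)) (.leaf 36))) (.node (.node (.node (.leaf 10) (.leaf 23)) (.node (.leaf 33) (.leaf 49))) (.node (.node (.leaf 24) (.leaf 54)) (.leaf 44)))) (.node (.node (.node (.node (.leaf 7) (.leaf 45)) (.node (.leaf 31) (.leaf 17))) (.node (.node (.leaf 21) (.leaf 11)) (.leaf 4))) (.node (.node (.node (.leaf 14) (.leaf 34)) (.node (.leaf 37) (.leaf 26))) (.node (.node (.leaf 27) (.leaf 46)) (.leaf 15))))))

/-- data -/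
def prev1 : Trie (ℕ) := .node (.node (.node (.node (.node (.node (.node (.leaf 1) (.leaf 48)) (.node (.leaf 51) (.leaf 43))) (.node (.node (.leaf 18) (.leaf 39)) (.leaf 50))) (.node (.node (.node (.leaf 2) (.leaf 23)) (.node (.leaf 25) (.leaf 53))) (.node (.node (.leaf 11) (.leaf 49)) (.leaf 21)))) (.node (.node (.node (.node (.leaf 4) (.leaf 22)) (.node (.leaf 26) (.leaf 47))) (.node (.node (.leaf 19) (.leaf 28)) (.leaf 15))) (.node (.node (.node (.leaf 3) (.leaf 24)) (.node (.leaf 33) (.leaf 52))) (.node (.node (.leaf 42) (.leaf 34)) (.leaf 35))))) (.node (.node (.node (.node (.node (.leaf 0) (.leaf 46)) (.node (.leaf 9) (.leaf 40))) (.node (.node (.leaf 5) (.leaf 27)) (.leaf 20))) (.node (.node (.node (.leaf 29) (.leaf 32)) (.node (.leaf 14) (.leaf 55))) (.node (.node (.leaf 7) (.leaf 30)) (.leaf 17)))) (.node (.node (.node (.node (.leaf 12) (.leaf 31)) (.node (.leaf 10) (.leaf 41))) (.node (.node (.leaf 6) (.leaf 37)) (.leaf 16))) (.node (.node (.node (.leaf 36) (.leaf 44))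 (.node (.leaf 13) (.leaf 54))) (.node (.node (.leaf 8) (.leaf 38)) (.leaf 45)))))) (.node (.node (.node (.node (.node (.node (.leaf 32) (.leaf 20)) (.node (.leaf 8) (.leaf 38))) (.node (.node (.leaf 4) (.leaf 26)) (.leaf 13))) (.node (.node (.node (.leaf 27) (.leaf 25)) (.node (.leaf 10) (.leaf 41))) (.node (.node (.leaf 6) (.leaf 29)) (.leaf 16)))) (.node (.node (.node (.node (.leaf 0) (.leaf 39)) (.node (.leaf 9) (.leaf 40))) (.node (.node (.leaf 5) (.leaf 36)) (.leaf 55))) (.node (.node (.node (.leaf 54) (.leaf 46)) (.node (.leaf 12) (.leaf 45))) (.node (.node (.leaf 7) (.leaf 47)) (.leaf 17))))) (.node (.node (.node (.node (.node (.leaf 52) (.leaf 21)) (.node (.leaf 51) (.leaf 53))) (.node (.node (.leaf 18) (.leaf 30)) (.leaf 14))) (.node (.node (.node (.leaf 2) (.leaf 23)) (.node (.leaf 11) (.leaf 44))) (.node (.node (.leaf 34) (.leaf 35)) (.leaf 49)))) (.node (.node (.node (.node (.leaf 1) (.leaf 22)) (.node (.leaf 33) (.leaf 42))) (.node (.node (.leaf 43) (.leaf 28)) (.leaf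 15))) (.node (.node (.node (.leaf 3) (.leaf 24)) (.node (.leaf 37) (.leaf 50))) (.node (.node (.leaf 31) (.leaf 48)) (.leaf 19))))))

/-- data -/
def lab1_00 : Trie (Word) := .node (.node (.node (.node (.node (.leaf ([])) (.leaf ([(1, true), (0, true), (1, true), (1, true), (1, true), (0, true), (1, false), (1, false), (1, false), (0, true), (1, true), (0, true), (1, true), (1, true)]))) (.node (.leaf ([(1, true), (0, true), (1, false), (0, true), (1, false), (1, false), (1, false), (1, false), (0, true), (1, false), (1, false), (1, false), (0, true), (1, true), (1, true), (0, true)])) (.leaf ([(1, false), (1, false), (1, false), (0, true), (1, false), (1, false), (1, false), (0, true), (1, true), (1, true), (1, true), (1, true), (1, true), (0, true), (1, false), (1, false), (1, false), (0, true)])))) (.node (.node (.leaf ([])) (.leaf ([]))) (.leaf ([])))) (.node (.node (.node (.leaf ([(0, true), (1, false), (0, true), (1, false), (1, false), (0, true), (1, true), (1, true),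 (0, true), (1, true), (0, true)])) (.leaf ([]))) (.node (.leaf ([(1, false), (1, false), (1, false), (1, false), (0, true), (1, false), (1, false), (0, true), (1, false), (0, true), (1, false), (1, false), (0, true), (1, true), (1, true), (1, true)])) (.leaf ([(0, true), (1, true), (1, true), (0, true), (1, true), (0, true), (1, true), (0, true), (1, true), (1, true), (1, true), (1, true), (0, true), (1, true), (0, true), (1, true), (0, true)])))) (.node (.node (.leaf ([(1, true)])) (.leaf ([(1, true), (1, true), (1, true), (1, true), (0, true), (1, false), (1, false), (1, false), (0, true), (1, false), (1, false), (0, true), (1, true), (0, true), (1, true), (0, true)]))) (.leaf ([]))))) (.node (.node (.node (.node (.leaf ([])) (.leaf ([]))) (.node (.leaf ([(1, false), (0, true), (1, true), (0, true), (1, true), (0, true), (1, true), (0, true), (1, true), (1, true), (1, true), (1, true), (0, true), (1, true), (1, true), (0, true), (1, true)])) (.leaf ([(1, true), (1, true), (1,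 true), (1, true), (0, true), (1, true), (1, true), (1, true), (0, true), (1, true), (0, true), (1, true), (0, true), (1, true), (1, true)])))) (.node (.node (.leaf ([])) (.leaf ([(1, false), (1, false), (1, false), (0, true), (1, false), (1, false), (1, false), (0, true), (1, false), (0, true), (1, false), (0, true), (1, false)]))) (.leaf ([(1, false), (0, true), (1, false), (1, false), (0, true), (1, false), (1, false), (1, false), (1, false), (0, true), (1, false), (0, true), (1, false), (1, false), (0, true), (1, true), (0, true)])))) (.node (.node (.node (.leaf ([])) (.leaf ([]))) (.node (.leaf ([])) (.leaf ([(0, true), (1, false), (1, false), (0, true), (1, true), (0, true), (1, true), (1, true), (1, true), (0, true), (1, false), (1, false)])))) (.node (.node (.leaf ([(1, true), (0, true), (1, false), (1, false), (0, true), (1, false), (0, true), (1, false), (1, false), (1, false), (0, true), (1, false), (1, false), (1, false), (0, true), (1, true), (0, true)])) (.leaf ([(1,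 true), (0, true), (1, true), (1, true), (0, true), (1, true), (0, true), (1, true), (0, true), (1, true), (1, true), (1, true), (1, true), (0, true), (1, true)]))) (.leaf ([])))))

/-- data -/
def lab1_01 : Trie (Word) := .node (.node (.node (.node (.node (.leaf ([(0, true)])) (.leaf ([(1, false), (0, true), (1, false), (1, false), (1, false), (1, false), (0, true), (1, false), (0, true), (1, false), (0, true), (1, false), (1, false), (0, true), (1, false)]))) (.node (.leaf ([])) (.leaf ([(1, false), (1, false), (1, false), (0, true), (1, true), (1, true), (0, true), (1, false), (1, false), (0, true), (1, false), (0, true), (1, false), (1, false), (1, false), (1, false)])))) (.node (.node (.leaf ([])) (.leaf ([]))) (.leaf ([(1, false), (0, true), (1, false), (0, true), (1, false), (0, true), (1, false), (1, false), (1, false), (0, true), (1, false), (1, false), (1, false), (0, true), (1, true), (1, true), (0, true)])))) (.node (.node (.node (.leaf ([])) (.leaf ([(1, false), (0,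 true), (1, true), (1, true), (1, true), (0, true), (1, false), (1, false), (1, false), (0, true), (1, true), (1, true), (0, true), (1, false), (0, true), (1, false)]))) (.node (.leaf ([(1, false), (0, true), (1, true), (1, true), (0, true), (1, true), (0, true), (1, true)])) (.leaf ([(1, false), (1, false), (0, true), (1, true), (0, true), (1, true), (1, true), (1, true), (1, true), (0, true), (1, true), (1, true), (1, true)])))) (.node (.node (.leaf ([])) (.leaf ([(1, false), (1, false), (0, true), (1, true), (0, true), (1, true), (0, true), (1, true), (1, true), (0, true), (1, false), (0, true)]))) (.leaf ([]))))) (.node (.node (.node (.node (.leaf ([])) (.leaf ([(1, false), (0, true), (1, true), (1, true), (0, true), (1, false), (0, true), (1, false), (1, false)]))) (.node (.leaf ([(1, true), (0, true), (1, true), (0, true), (1, true), (1, true), (1, true), (0, true), (1, false), (1, false), (1, false), (0, true), (1, false), (0, true), (1, false)])) (.leaf ([(0, true), (1,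 false), (1, false), (0, true), (1, true), (1, true), (1, true), (0, true), (1, true), (1, true), (1, true), (1, true), (1, true), (0, true), (1, false), (0, true)])))) (.node (.node (.leaf ([(1, false)])) (.leaf ([(0, true), (1, false), (0, true), (1, false), (1, false), (1, false), (0, true), (1, false), (0, true), (1, false), (1, false), (0, true), (1, true), (1, true), (1, true), (1, true)]))) (.leaf ([])))) (.node (.node (.node (.leaf ([])) (.leaf ([(1, false), (0, true), (1, true), (0, true), (1, true), (1, true), (0, true), (1, false), (1, false), (0, true), (1, true)]))) (.node (.leaf ([])) (.leaf ([(1, true), (1, true), (1, true), (0, true), (1, false), (1, false), (1, false), (0, true), (1, true), (0, true), (1, true), (1, true), (0, true), (1, false), (0, true), (1, false)])))) (.node (.node (.leaf ([])) (.leaf ([(1, false), (1, false), (0, true), (1, false), (1, false), (0, true), (1, false), (1, false), (1, false), (0, true), (1, false), (1, false), (1, false), (1,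 false), (0, true)]))) (.leaf ([(1, true), (1, true), (0, true), (1, true), (1, true), (0, true), (1, true), (1, true), (1, true), (0, true), (1, false), (1, false), (1, false), (0, true)])))))

/-- data -/
def lab1_10 : Trie (Word) := .node (.node (.node (.node (.node (.leaf ([])) (.leaf ([(1, false), (1, false), (1, false), (0, true), (1, true), (1, true), (0, true), (1, false), (1, false), (1, false), (0, true), (1, true), (0, true), (1, true), (0, true)]))) (.node (.leaf ([])) (.leaf ([(1, false), (1, false), (0, true), (1, true), (1, true), (0, true), (1, false), (0, true), (1, false), (0, true), (1, false), (0, true), (1, false), (1, false), (0, true)])))) (.node (.node (.leaf ([])) (.leaf ([]))) (.leaf ([])))) (.node (.node (.node (.leaf ([])) (.leaf ([(1, false), (0, true), (1, true), (1, true), (0, true), (1, false), (0, true), (1, false), (1, false), (0, true), (1, false), (1, false), (1, false), (0, true), (1, true), (1, true)]))) (.node (.leaf ([])) (.leaf ([(1, false),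 (1, false), (0, true), (1, false), (0, true), (1, false), (1, false), (1, false), (1, false)])))) (.node (.node (.leaf ([])) (.leaf ([]))) (.leaf ([]))))) (.node (.node (.node (.node (.leaf ([])) (.leaf ([(1, true), (1, true), (1, true), (0, true), (1, true), (1, true), (0, true), (1, false), (1, false), (1, false), (0, true), (1, false), (1, false), (1, false), (1, false), (0, true), (1, true), (0, true)]))) (.node (.leaf ([(1, false), (1, false), (1, false), (1, false), (1, false), (0, true), (1, false), (1, false), (0, true), (1, true), (0, true), (1, true), (0, true)])) (.leaf ([])))) (.node (.node (.leaf ([])) (.leaf ([(1, false), (0, true), (1, true), (1, true), (1, true), (0, true), (1, true), (0, true), (1, true), (1, true), (1, true), (1, true), (0, true), (1, false), (0, true)]))) (.leaf ([])))) (.node (.node (.node (.leaf ([])) (.leaf ([]))) (.node (.leaf ([])) (.leaf ([(1, true), (0, true), (1, false), (0, true), (1, false), (1, false), (0, true), (1, true), (0, true),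 (1, true), (1, true), (0, true), (1, false), (1, false), (1, false), (0, true), (1, false), (1, false)])))) (.node (.node (.leaf ([])) (.leaf ([(1, true), (0, true), (1, false), (1, false), (1, false), (1, false), (0, true), (1, false), (0, true), (1, false), (1, false), (1, false), (0, true), (1, true)]))) (.leaf ([(0, true), (1, true), (0, true), (1, true), (1, true), (0, true), (1, true), (1, true), (1, true), (0, true), (1, true), (0, true), (1, true), (1, true), (0, true), (1, false), (1, false), (1, false)])))))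

/-- data -/
def lab1_11 : Trie (Word) := .node (.node (.node (.node (.node (.leaf ([])) (.leaf ([(1, false), (0, true), (1, false), (1, false), (1, false), (1, false), (1, false), (0, true), (1, false), (1, false), (1, false), (0, true), (1, true)]))) (.node (.leaf ([])) (.leaf ([(0, true), (1, true), (1, true), (0, true), (1, true), (0, true), (1, true), (1, true), (0, true), (1, false), (1, false), (1, false), (1, false), (1, false)])))) (.node (.node (.leaf ([])) (.leaf ([]))) (.leaf ([(0, true), (1, true), (1, true), (0, true), (1, false), (0, true), (1, false), (1, false), (0, true), (1, false), (1, false), (1, false), (0, true), (1, true), (1, true), (1, true)])))) (.node (.node (.node (.leaf ([])) (.leaf ([(1, false), (1, false), (1, false), (1, false), (0, true), (1, true), (1, true), (1, true), (0, true), (1, true), (0, true), (1, true), (1, true), (0, true), (1, false), (1, false), (0, true), (1, true)]))) (.node (.leaf ([])) (.leaf ([(1, false), (1, false), (0, true),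 (1, true), (0, true), (1, true), (1, true), (0, true), (1, false), (0, true), (1, false), (1, false), (0, true), (1, true), (1, true), (1, true), (1, true)])))) (.node (.node (.leaf ([])) (.leaf ([]))) (.leaf ([]))))) (.node (.node (.node (.node (.leaf ([])) (.leaf ([(1, false), (0, true), (1, true), (1, true), (1, true), (0, true), (1, false), (1, false), (1, false), (0, true), (1, true), (1, true), (0, true), (1, false), (0, true), (1, false)]))) (.node (.leaf ([])) (.leaf ([(1, true), (1, true), (1, true), (0, true), (1, true), (1, true), (1, true), (1, true), (1, true), (0, true), (1, false), (1, false), (1, false), (0, true), (1, false), (1, false), (0, true)])))) (.node (.node (.leaf ([])) (.leaf ([(1, false), (1, false), (1, false), (0, true), (1, true), (1, true), (0, true), (1, false), (0, true), (1, false), (1, false), (0, true), (1, true), (0, true), (1, true), (0, true)]))) (.leaf ([(1, true), (1, true), (1, true), (0, true), (1, true), (0, true), (1, true), (1, true),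 (0, true), (1, false), (1, false), (1, false), (1, false), (0, true), (1, true), (0, true)])))) (.node (.node (.node (.leaf ([])) (.leaf ([(1, false), (0, true), (1, true), (1, true), (0, true), (1, false), (0, true), (1, false), (1, false), (0, true), (1, true), (1, true), (1, true), (0, true), (1, true), (1, true), (1, true)]))) (.node (.leaf ([])) (.leaf ([(1, false), (1, false), (0, true), (1, false), (1, false), (1, false), (1, false), (0, true), (1, false), (1, false)])))) (.node (.node (.leaf ([])) (.leaf ([(1, false), (1, false), (0, true), (1, true), (0, true), (1, true), (1, true), (0, true), (1, true), (1, true), (1, true), (0, true), (1, true), (0, true), (1, true), (0, true), (1, true)]))) (.leaf ([(1, true), (1, true), (1, true), (1, true), (1, true), (0, true), (1, false), (1, false), (1, false), (0, true), (1, false), (0, true), (1, false), (1, false), (0, true), (1, true), (1, true), (0, true), (1, false)])))))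

/-- data -/
def lab1 : Trie (Word) := .node (.node (lab1_00) (lab1_01)) (.node (lab1_10) (lab1_11))

/-- data -/
def val1_00 : Trie (Vec) := .node (.node (.node (.node (.node (.leaf ([])) (.leaf ([0, 0, 0, 0, 0, 0, 0, 0, 0, 0, 0, 0, 0, 0, 0, 0, 0, 0, 0, 0, 0, 0, 0, 0, 0, 0, 0, 0, 0, 0, 0, 0, 0, 0, 0, 1]))) (.node (.leaf ([1850, (-6950), (-11612), (-1013), (-2323), (-7247), 1504, 2005, (-703), 0, 0, 0, 0, 0, 0, 0, 1211, 961, (-494), 781, (-319), (-337), (-458), 6, (-1), 17, 13, (-24), 23, (-17), 42, (-42), (-21), (-52), (-17), 19, 33, 27, 35, 9, 1])) (.leaf ([(-821), 2871, 4706, 531, 813, 2999, (-433), (-1105), 419, 0, 0, 0, 0, 0, 0, 0, (-291), (-389), 216, (-312), 72, 66, 248, (-2), 1, 1, (-3), 5, (-5), (-1), (-2), 4, 3, 7, 1, (-3), (-6), (-1), (-6), (-2), 1])))) (.node (.node (.leaf ([])) (.leaf ([]))) (.leaf ([])))) (.node (.node (.node (.leaf ([0, 0, 0, 0, 0, 0, 0, 0, 0, 0, 0, 0, 0, 0, 0, 0, 0, 0, 0, 0, 0, 0, 0, 0, 0, 1])) (.leaf ([0, 0, 0, 0, 0, 0, 0, 0, 0, 0, 0, 0, 0, 0,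 0, 0, 0, 0, 0, 0, 0, 0, 0, 1]))) (.node (.leaf ([(-41), 110, 205, (-13), 41, 133, (-5), (-24), 11, 0, 0, 0, 0, 0, 0, 0, 12, (-6), 0, 3, (-5), 0, 6, 0, 0, 0, 0, 0, 0, 0, 2, 1])) (.leaf ([(-645), 2275, 3680, 385, 597, 2359, (-303), (-940), 346, 0, 0, 0, 0, 0, 0, 0, (-270), (-340), 196, (-281), 66, 54, 220, 5, 2, 1, 0, 4, (-2), (-1), (-3), 4, 2, 4, (-2), 0, (-5), (-1), (-5), (-3), 0, (-1)])))) (.node (.node (.leaf ([])) (.leaf ([(-149), (-947), (-1067), (-879), (-222), (-855), 187, 575, (-158), 0, 0, 0, 0, 0, 0, 0, 511, 328, (-275), 377, (-165), (-111), (-200), 6, (-2), (-4), 11, (-18), 10, 4, 13, (-3), (-16), (-8), 7, 2, 10, (-4), 14, 9, 4]))) (.leaf ([]))))) (.node (.node (.node (.node (.leaf ([])) (.leaf ([]))) (.node (.leaf ([275, (-1716), (-2866), (-341), (-683), (-1926), 259, 644, (-248), 0, 0, 0, 0, 0, 0, 0, 127, 182, (-104), 147, (-45), (-23), (-123), 2, 1, 1, 4, 3, 3, (-1), 2, (-4), 1, (-6), (-4), 1, 1, 2, 3, 0, (-1), (-1)])) (.leaf ([2133, (-10569), (-17489), (-3034),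 (-3719), (-11436), 1645, 4665, (-1758), 0, 0, 0, 0, 0, 0, 0, 673, 1232, (-698), 986, (-218), (-87), (-884), (-28), 0, 4, (-3), 0, 1, (-2), 6, (-13), 2, (-16), 3, (-3), 7, 6, 7, (-5), (-5), (-1)])))) (.node (.node (.leaf ([])) (.leaf ([0, 0, 0, 0, 0, 0, 0, 0, 0, 0, 0, 0, 0, 0, 0, 0, 0, 0, 0, 0, 0, 0, 0, 0, 0, 0, 0, 0, 0, 0, 0, 0, 1]))) (.leaf ([312, (-1301), (-2228), (-310), (-528), (-1353), 406, 233, (-79), 0, 0, 0, 0, 0, 0, 0, 321, 151, (-81), 130, (-94), (-93), (-35), 4, 0, 9, 4, (-8), 8, (-9), 15, (-17), (-8), (-20), (-8), 7, 12, 13, 12, (-5)])))) (.node (.node (.node (.leaf ([])) (.leaf ([]))) (.node (.leaf ([])) (.leaf ([(-762), 3906, 6991, 1477, 1727, 4617, (-438), (-1873), 786, 0, 0, 0, 0, 0, 0, 0, 476, (-74), (-9), 45, (-101), (-172), 176, 19, (-2), (-5), 16, (-20), 13, 3, 21, 1, (-21), (-3), 2, 6, 10, (-6), 16, 21, 8])))) (.node (.node (.leaf ([(-52), 180, 314, 6, 63, 199, (-23), (-59), 20, 0, 0, 0, 0, 0, 0, 0, (-13), (-19), 7, (-14), 1, 3, 12, 1, 0, 0, 0, (-1), 0, 0,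 0, 0, (-1)])) (.leaf ([0, 0, 0, 0, 0, 0, 0, 0, 0, 0, 0, 0, 0, 0, 0, 0, (-5), 0, 0, 0, 0, 0, 0, 1, 0, 0, 0, 0, 0, 0, 0, 0, 0, 0, 0, 0, (-1)]))) (.leaf ([])))))

/-- data -/
def val1_01 : Trie (Vec) := .node (.node (.node (.node (.node (.leaf ([])) (.leaf ([0, 0, 0, 0, 0, 0, 0, 0, 0, 0, 0, 0, 0, 0, 0, 0, 0, 0, 0, 0, 0, 0, 0, 0, 0, 0, 0, 0, 0, 0, 0, 0, 0, 0, 0, 0, 1]))) (.node (.leaf ([])) (.leaf ([(-232), 1359, 2170, 411, 458, 1420, (-249), (-601), 204, 0, 0, 0, 0, 0, 0, 0, (-200), (-224), 128, (-194), 54, 48, 140, (-2), 1, (-1), (-1), 2, (-2), 0, (-3), 3, 1, 3, (-1), (-2), (-2), (-2), (-4), (-2)])))) (.node (.node (.leaf ([])) (.leaf ([]))) (.leaf ([(-117), 456, 800, 60, 183, 503, (-92), (-145), 58, 0, 0, 0, 0, 0, 0, 0, (-19), (-37), 14, (-20), 3, 4, 23, 0, 0, (-1), 1, (-1), 0, 1, 0, 2, (-1), 2, 2, (-1), (-1), (-2), 0, 1, 1])))) (.node (.node (.node (.leaf ([])) (.leaf ([28, 115, 114, 132, 17, 100, (-9), (-94), 21, 0, 0, 0, 0, 0, 0, 0, (-80), (-52), 43, (-64), 25, 16, 33, 1, 0,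 1, (-2), 3, (-1), (-1), (-2), (-1), 2, 0, (-2), 0, (-1), 2, (-2), (-2), (-1)]))) (.node (.leaf ([0, 0, 0, 0, 0, 0, 0, 0, 0, 0, 0, 0, 0, 0, 0, 0, 0, 0, 0, 0, 0, 0, 0, 0, 0, 0, 0, 1])) (.leaf ([0, 0, 0, 0, 0, 0, 0, 0, 0, 0, 0, 0, 0, 0, 0, 0, 0, 0, 0, 0, 0, 0, 0, 0, 0, 0, 0, 0, 0, 0, 0, 0, 0, 0, 0, 0, 0, 0, 1])))) (.node (.node (.leaf ([])) (.leaf ([(-73), (-52), (-73), (-117), (-76), (-65), 49, (-10), 15, 0, 0, 0, 0, 0, 0, 0, 62, 12, (-13), 19, (-24), (-20), 0, 2, 0, 1, 2, (-3), 1, (-1), 4, (-2), (-3), (-3), 1, 1, 2, 1, 3, 1, 1]))) (.leaf ([0, 0, 0, 0, 0, 0, 0, 0, 0, 0, 0, 0, 0, 0, 0, 0, 0, 0, 0, 0, 0, 0, 0, 1]))))) (.node (.node (.node (.node (.leaf ([])) (.leaf ([0, 0, 0, 0, 0, 0, 0, 0, 0, 0, 0, 0, 0, 0, 0, 0, 0, 0, 0, 0, 0, 0, 0, 0, 0, 0, 0, 0, 1]))) (.node (.leaf ([0, 0, 0, 0, 0, 0, 0, 0, 0, 0, 0, 0, 0, 0, 0, 0, 0, 0, 0, 0, 0, 0, 0, 0, 0, 0, 0, 0, 0, 0, 0, 0, 0, 0, 0, 0, 0, 0, 0, 1])) (.leaf ([(-603), 2525, 4098, 516, 767, 2652, (-394), (-1014), 370, 0, 0, 0, 0, 0, 0, 0, (-331),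 (-362), 208, (-310), 87, 72, 223, 2, 1, 0, (-2), 6, (-5), 0, (-7), 7, 4, 6, (-1), (-1), (-6), (-1), (-7), (-4), (-1)])))) (.node (.node (.leaf ([0, 0, 0, 0, 0, 0, 0, 0, 0, 0, 0, 0, 0, 0, 0, 0, 0, 0, 0, 0, 0, 0, 0, 1])) (.leaf ([957, (-3055), (-5275), (-370), (-999), (-3307), 473, 1096, (-442), 0, 0, 0, 0, 0, 0, 0, 102, 288, (-117), 178, (-15), (-24), (-187), (-3), 0, 3, (-3), 2, 1, (-3), 0, (-6), 4, (-7), (-6), 2, 4, 6, 1, (-3), (-3)]))) (.leaf ([])))) (.node (.node (.node (.leaf ([])) (.leaf ([(-1842), 7508, 12341, 2169, 2181, 8200, (-497), (-4376), 1734, 0, 0, 0, 0, 0, 0, 0, 431, (-788), 462, (-557), (-121), (-241), 813, 50, 3, 21, 26, (-26), 25, (-22), 49, (-29), (-31), (-47), (-25), 27, 26, 28, 33, 8, 8]))) (.node (.leaf ([])) (.leaf ([1217, (-6311), (-10995), (-1733), (-2747), (-7052), 1336, 2011, (-779), 0, 0, 0, 0, 0, 0, 0, 477, 491, (-207), 322, (-163), (-123), (-253), (-6), 3, 21, 0, (-5), 8, (-20), 22, (-35), (-5), (-43), (-20), 11, 21, 29, 16, (-13), (-5)])))) (.node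 (.node (.leaf ([])) (.leaf ([1095, (-802), (-1022), 1048, 707, (-434), (-270), 800, (-319), 0, 0, 0, 0, 0, 0, 0, (-67), 343, (-165), 253, 87, 49, (-282), (-14), (-7), (-18), (-10), 12, (-9), 17, (-22), 25, 16, 35, 13, (-11), (-12), (-17), (-16), 11, (-1), 1]))) (.leaf ([50, 49, 46, 99, 43, 33, (-56), 4, (-15), 0, 0, 0, 0, 0, 0, 0, (-88), (-30), 22, (-37), 29, 25, 7, (-1), 0, (-1), (-2), 3, (-2), 1, (-4), 2, 3, 3, (-1), (-1), (-2), (-1), (-3), (-1), (-1)])))))

/-- data -/
def val1_10 : Trie (Vec) := .node (.node (.node (.node (.node (.leaf ([])) (.leaf ([0, 0, 0, 0, 0, 0, 0, 0, 0, 0, 0, 0, 0, 0, 0, 0, 0, 0, 0, 0, 0, 0, 0, 0, 0, 0, 0, 0, 0, 0, 0, 0, 0, 1]))) (.node (.leaf ([])) (.leaf ([(-1934), 5240, 8798, 705, 1165, 5647, (-182), (-2858), 1193, 0, 0, 0, 0, 0, 0, 0, 487, (-502), 237, (-279), (-170), (-219), 531, 32, 5, 16, 22, (-29), 21, (-17), 50, (-28), (-36), (-31), (-10), 15, 19, 13, 30, 11, 12, (-2)])))) (.node (.node (.leaf ([])) (.leaf ([]))) (.leaf ([])))) (.node (.node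 (.node (.leaf ([])) (.leaf ([(-389), 1947, 2972, 589, 513, 1943, (-337), (-877), 301, 0, 0, 0, 0, 0, 0, 0, (-393), (-372), 232, (-351), 114, 85, 225, 2, 1, 2, (-6), 8, (-5), (-2), (-8), 1, 6, 6, (-3), (-1), (-6), 2, (-8), (-6), (-1)]))) (.node (.leaf ([])) (.leaf ([0, 0, 0, 0, 0, 0, 0, 0, 0, 0, 0, 0, 0, 0, 0, 0, 0, 0, 0, 0, 0, 0, 0, 0, 0, 0, 1])))) (.node (.node (.leaf ([])) (.leaf ([]))) (.leaf ([]))))) (.node (.node (.node (.node (.leaf ([])) (.leaf ([227, (-1243), (-2020), (-380), (-430), (-1334), 200, 500, (-181), 0, 0, 0, 0, 0, 0, 0, 155, 166, (-96), 150, (-51), (-30), (-104), (-3), 0, 0, 3, (-3), 2, 0, 4, (-1), (-2), (-5), 1, 1, 3, 0, 4, 2]))) (.node (.leaf ([0, 0, 0, 0, 0, 0, 0, 0, 0, 0, 0, 0, 0, 0, 0, 0, 0, 0, 0, 0, 0, 0, 0, 0, 0, 0, 0, 0, 0, 0, 1])) (.leaf ([])))) (.node (.node (.leaf ([])) (.leaf ([417, (-2142), (-3367), (-597), (-640), (-2219), 345, 931, (-330), 0, 0, 0, 0, 0, 0, 0, 353, 358, (-223), 322, (-99), (-75), (-224), (-1), (-1), (-1), 3, (-7), 5, 1, 7, (-4),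 (-5), (-5), 2, 1, 6, 0, 7, 5, 1]))) (.leaf ([])))) (.node (.node (.node (.leaf ([])) (.leaf ([]))) (.node (.leaf ([])) (.leaf ([(-553), 1817, 2835, 295, 364, 1813, (-211), (-866), 315, 0, 0, 0, 0, 0, 0, 0, (-242), (-328), 200, (-284), 58, 39, 224, 6, 2, 4, (-1), 2, (-2), (-4), 1, (-2), 0, (-2), (-4), 2, (-1), 3, (-2), (-4)])))) (.node (.node (.leaf ([])) (.leaf ([(-271), 1009, 2076, 146, 613, 1313, (-177), (-208), 128, 0, 0, 0, 0, 0, 0, 0, 237, 105, (-116), 165, (-64), (-54), (-57), (-1), (-2), (-6), 5, (-8), 3, 6, 6, 6, (-8), 7, 9, (-3), (-1), (-8), 4, 9, 4]))) (.leaf ([(-16), 39, 25, (-22), (-19), 9, (-14), (-35), 6, 0, 0, 0, 0, 0, 0, 0, (-40), (-37), 23, (-36), 8, 9, 23, 0, 0, 1, (-2), 0, (-1), (-1), 0, (-1), 0, (-1), 0, 0, 0, 1, 0, (-1), 0, 1])))))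

/-- data -/
def val1_11 : Trie (Vec) := .node (.node (.node (.node (.node (.leaf ([])) (.leaf ([0, 0, 0, 0, 0, 0, 0, 0, 0, 0, 0, 0, 0, 0, 0, 0, 0, 0, 0, 0, 0, 0, 0, 0, 0, 0, 0, 0, 0, 0, 0, 0, 0, 0, 1]))) (.node (.leaf ([])) (.leaf ([(-1686), 8424, 14190, 2001, 3160, 9323, (-1269), (-3466), 1341, 0, 0, 0, 0, 0, 0, 0, (-309), (-867), 438, (-583), 87, 50, 636, 24, (-1), 5, 4, 1, 2, (-3), 6, 7, (-2), 4, (-2), 6, (-6), 6, 0, (-9), 3, 1])))) (.node (.node (.leaf ([])) (.leaf ([]))) (.leaf ([(-115), 392, 708, 40, 156, 448, (-57), (-116), 48, 0, 0, 0, 0, 0, 0, 0, (-2), (-19), 3, (-5), (-2), 1, 11, 0, 0, (-1), 1, (-1), 0, 1, 0, 2, (-1), 1, 1, 0, 0, (-2), 0, 1])))) (.node (.node (.node (.leaf ([])) (.leaf ([(-78), (-31), (-96), (-116), (-106), (-100), 6, 1, (-3), 0, 0, 0, 0, 0, 0, 0, (-39), (-33), 16, (-30), 6, 7, 15, 0, 1, 1, 0, 0, 0, (-1), 0, 0, 0, (-1), 0, 0, 0, 0, 0, (-1)]))) (.node (.leaf ([])) (.leaf ([702, (-3680), (-6331), (-591), (-1667), (-3902), 1214, 547, (-157), 0, 0, 0,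 0, 0, 0, 0, 912, 473, (-209), 369, (-252), (-304), (-113), 21, 2, 22, 14, (-21), 22, (-22), 44, (-43), (-23), (-52), (-23), 22, 30, 30, 33, 4, 2, (-1)])))) (.node (.node (.leaf ([])) (.leaf ([]))) (.leaf ([]))))) (.node (.node (.node (.node (.leaf ([])) (.leaf ([(-55), 413, 708, 105, 196, 455, (-114), (-96), 31, 0, 0, 0, 0, 0, 0, 0, (-81), (-46), 22, (-36), 23, 25, 16, (-2), 0, (-2), (-1), 2, (-1), 2, (-4), 4, 2, 5, 2, (-2), (-3), (-3), (-3)]))) (.node (.leaf ([])) (.leaf ([91, (-240), (-364), 16, (-34), (-213), 53, 91, (-26), 0, 0, 0, 0, 0, 0, 0, 59, 65, (-38), 55, (-14), (-17), (-40), (-1), 0, (-1), 3, 0, 1, 1, 0, 0, 0, 0, 0, 0, 0, (-1), 1, 1, 0, (-1)])))) (.node (.node (.leaf ([])) (.leaf ([(-71), 29, 9, (-82), (-66), (-28), (-11), (-25), 4, 0, 0, 0, 0, 0, 0, 0, (-44), (-40), 17, (-35), 6, 11, 18, 0, 1, 1, 0, 0, 0, (-1), 0, (-1), 0, (-1), (-1), 0, 0, 0, 0, (-1)]))) (.leaf ([0, 0, 0, 0, 0, 0, 0, 0, 0, 0, 0, 0, 0, 0, 0, 0, 0, 0, 0, 0, 0, 0, 0, 0, 0, 0, 0, 0, 0, 0, 0, 0, 0, 0,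 0, 0, 0, 1])))) (.node (.node (.node (.leaf ([])) (.leaf ([(-378), 1692, 2811, 391, 585, 1819, (-284), (-637), 237, 0, 0, 0, 0, 0, 0, 0, (-174), (-207), 107, (-170), 51, 35, 127, 3, 0, (-1), (-2), 2, (-2), 1, (-4), 2, 1, 7, 1, (-2), (-4), (-2), (-4), (-1), 1]))) (.node (.leaf ([])) (.leaf ([0, 0, 0, 0, 0, 0, 0, 0, 0, 0, 0, 0, 0, 0, 0, 0, 0, 0, 0, 0, 0, 0, 0, 0, 0, 0, 0, 0, 0, 1])))) (.node (.node (.leaf ([])) (.leaf ([1404, (-5705), (-9884), (-1190), (-2177), (-6342), 943, 1943, (-778), 0, 0, 0, 0, 0, 0, 0, 232, 459, (-197), 282, (-72), (-52), (-295), (-6), 1, 8, 0, (-1), 4, (-8), 2, (-20), 1, (-23), (-10), 5, 12, 13, 8, (-6), (-4)]))) (.leaf ([(-1), 66, 144, 30, 58, 101, (-8), (-5), 6, 0, 0, 0, 0, 0, 0, 0, 17, 18, (-12), 18, (-4), (-4), (-11), 0, 0, (-1), 0, 0, 0, 1, 0, 1, 0, 1, 0, 0, 0, (-1), 0, 1])))))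

/-- data -/
def val1 : Trie (Vec) := .node (.node (val1_00) (val1_01)) (.node (val1_10) (val1_11))

/-- data -/
def rank1 : Trie (ℕ) := .node (.node (.node (.node (.node (.node (.node (.leaf 0) (.leaf 16)) (.node (.leaf 41) (.leaf 47))) (.node (.node (.leaf 0) (.leaf 0)) (.leaf 0))) (.node (.node (.node (.leaf 6) (.leaf 5)) (.node (.leaf 12) (.leaf 39))) (.node (.node (.leaf 2) (.leaf 49)) (.leaf 0)))) (.node (.node (.node (.node (.leaf 0) (.leaf 0)) (.node (.leaf 54) (.leaf 55))) (.node (.node (.leaf 0) (.leaf 13)) (.leaf 44))) (.node (.node (.node (.leaf 0) (.leaf 0)) (.node (.leaf 0) (.leaf 53))) (.node (.node (.leaf 21) (.leaf 22)) (.leaf 0))))) (.node (.node (.node (.node (.node (.leaf 1) (.leaf 17)) (.node (.leaf 0) (.leaf 46))) (.node (.node (.leaf 0) (.leaf 0)) (.leaf 25))) (.node (.node (.node (.leaf 0) (.leaf 29)) (.node (.leaf 8) (.leaf 19))) (.node (.node (.leaf 0) (.leaf 32)) (.leaf 4)))) (.node (.node (.node (.node (.leaf 0) (.leaf 9)) (.node (.leaf 20) (.leaf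 40))) (.node (.node (.leaf 3) (.leaf 43)) (.leaf 0))) (.node (.node (.node (.leaf 0) (.leaf 56)) (.node (.leaf 0) (.leaf 51))) (.node (.node (.leaf 0) (.leaf 52)) (.leaf 31)))))) (.node (.node (.node (.node (.node (.node (.leaf 0) (.leaf 14)) (.node (.leaf 0) (.leaf 50))) (.node (.node (.leaf 0) (.leaf 0)) (.leaf 0))) (.node (.node (.node (.leaf 0) (.leaf 34)) (.node (.leaf 0) (.leaf 7))) (.node (.node (.leaf 0) (.leaf 0)) (.leaf 0)))) (.node (.node (.node (.node (.leaf 0) (.leaf 33)) (.node (.leaf 11) (.leaf 0))) (.node (.node (.leaf 0) (.leaf 37)) (.leaf 0))) (.node (.node (.node (.leaf 0) (.leaf 0)) (.node (.leaf 0) (.leaf 38))) (.node (.node (.leaf 0) (.leaf 45)) (.leaf 26))))) (.node (.node (.node (.node (.node (.leaf 0) (.leaf 15)) (.node (.leaf 0) (.leaf 57))) (.node (.node (.leaf 0) (.leaf 0)) (.leaf 24))) (.node (.node (.node (.leaf 0) (.leaf 30)) (.node (.leaf 0) (.leaf 42))) (.node (.node (.leaf 0) (.leaf 0)) (.leaf 0)))) (.node (.node (.node (.node (.leaf 0) (.leaf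 36)) (.node (.leaf 0) (.leaf 28))) (.node (.node (.leaf 0) (.leaf 27)) (.leaf 18))) (.node (.node (.node (.leaf 0) (.leaf 35)) (.node (.leaf 0) (.leaf 10))) (.node (.node (.leaf 0) (.leaf 48)) (.leaf 23))))))

/-- data -/
def tree1 : Trie (ℕ × ℕ) := .node (.node (.node (.node (.node (.node (.leaf (0, 0)) (.leaf (20, 1))) (.node (.leaf (8, 1)) (.leaf (38, 1)))) (.node (.node (.leaf (4, 1)) (.leaf (26, 1))) (.leaf (13, 1)))) (.node (.node (.node (.leaf (2, 0)) (.leaf (23, 0))) (.node (.leaf (10, 1)) (.leaf (41, 1)))) (.node (.node (.leaf (6, 1)) (.leaf (29, 1))) (.leaf (16, 1))))) (.node (.node (.node (.node (.leaf (0, 1)) (.leaf (22, 0))) (.node (.leaf (9, 1)) (.leaf (40, 1)))) (.node (.node (.leaf (5, 1)) (.leaf (28, 0))) (.leaf (15, 0)))) (.node (.node (.node (.leaf (3, 0)) (.leaf (24, 0))) (.node (.leaf (12, 1)) (.leaf (45, 1)))) (.node (.node (.leaf (7, 1)) (.leaf (34, 0))) (.leaf (17, 1)))))) (.node (.node (.node (.node (.node (.leaf (0, 0)) (.leaf (21, 1))) (.node (.leaf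 (9, 0)) (.leaf (40, 0)))) (.node (.node (.leaf (5, 0)) (.leaf (27, 0))) (.leaf (14, 1)))) (.node (.node (.node (.leaf (2, 1)) (.leaf (23, 1))) (.node (.leaf (11, 1)) (.leaf (44, 1)))) (.node (.node (.leaf (7, 0)) (.leaf (30, 0))) (.leaf (17, 0))))) (.node (.node (.node (.node (.leaf (1, 1)) (.leaf (22, 1))) (.node (.leaf (10, 0)) (.leaf (41, 0)))) (.node (.node (.leaf (6, 0)) (.leaf (28, 1))) (.leaf (15, 1)))) (.node (.node (.node (.leaf (3, 1)) (.leaf (24, 1))) (.node (.leaf (13, 0)) (.leaf (50, 1)))) (.node (.node (.leaf (8, 0)) (.leaf (38, 0))) (.leaf (19, 1))))))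

/-- data -/
def cert1 : Trie (ℕ × ℕ × ℕ) := .node (.node (.node (.node (.node (.node (.leaf (0, 0, 1)) (.leaf (5, 32, 36))) (.node (.leaf (15, 0, 6)) (.leaf (14, 41, 53)))) (.node (.node (.leaf (7, 0, 6)) (.leaf (11, 10, 6))) (.node (.leaf (19, 1, 6)) (.leaf (16, 26, 2))))) (.node (.node (.node (.leaf (2, 7, 3)) (.leaf (10, 9, 4))) (.node (.leaf (2, 14, 0)) (.leaf (15, 51, 51)))) (.node (.node (.leaf (11, 0, 6)) (.leaf (14, 13, 6))) (.leaf (5, 21, 37))))) (.node (.node (.node (.node (.leaf (2, 3, 2)) (.leaf (10, 1, 4))) (.node (.leaf (17, 0, 7)) (.leaf (15, 41, 51)))) (.node (.node (.leaf (9, 0, 4)) (.leaf (12, 24, 53))) (.leaf (3, 4, 4)))) (.node (.node (.node (.leaf (5, 0, 7)) (.leaf (10, 30, 2))) (.node (.leaf (10, 15, 9)) (.leaf (16, 23, 31)))) (.node (.node (.leaf (13, 0, 6)) (.leaf (14, 28, 46))) (.leaf (14, 1, 51)))))) (.node (.node (.node (.node (.node (.leaf (1, 0, 4)) (.leaf (7, 22, 32))) (.node (.leaf (16, 0, 5)) (.leaf (15, 36, 49)))) (.node (.node (.leaf (8, 0,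 8)) (.leaf (12, 11, 14))) (.leaf (20, 1, 17)))) (.node (.node (.node (.leaf (4, 0, 2)) (.leaf (10, 28, 4))) (.node (.leaf (2, 22, 2)) (.leaf (16, 2, 3)))) (.node (.node (.leaf (12, 0, 5)) (.leaf (14, 22, 12))) (.leaf (10, 2, 8))))) (.node (.node (.node (.node (.leaf (2, 5, 3)) (.leaf (10, 6, 9))) (.node (.leaf (18, 0, 4)) (.leaf (15, 49, 53)))) (.node (.node (.leaf (10, 0, 10)) (.leaf (14, 10, 7))) (.leaf (10, 29, 6)))) (.node (.node (.node (.leaf (6, 0, 5)) (.leaf (10, 36, 2))) (.node (.leaf (10, 27, 9)) (.leaf (16, 24, 1)))) (.node (.node (.leaf (14, 0, 5)) (.leaf (14, 34, 54))) (.leaf (2, 30, 1))))))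

/-- data -/
def pot1 : Trie (Vec) := .node (.node (.node (.node (.node (.node (.leaf ([])) (.leaf ([(-5), 10]))) (.node (.leaf ([0, 6])) (.leaf ([5, 8])))) (.node (.node (.leaf ([1, 4])) (.leaf ([6, 6]))) (.leaf ([3, 6])))) (.node (.node (.node (.leaf ([2, 2])) (.leaf ([10, 4]))) (.node (.leaf ([(-4), 8])) (.leaf ([5, 8])))) (.node (.node (.leaf ([4, 4])) (.leaf ([6, 6]))) (.leaf ([(-1), 8]))))) (.node (.node (.node (.node (.leaf ([(-1), 2])) (.leaf ([6, 6]))) (.node (.leaf ([0, 6])) (.leaf ([5, 8])))) (.node (.node (.leaf ([(-3), 6])) (.leaf ([2, 8]))) (.leaf ([7, 4])))) (.node (.node (.node (.leaf ([5, 2])) (.leaf ([6, 6]))) (.node (.leaf ([3, 6])) (.leaf ([5, 8])))) (.node (.node (.leaf ([0, 6])) (.leaf ([9, 6]))) (.leaf ([3, 6])))))) (.node (.node (.node (.node (.node (.leaf ([3])) (.leaf ([6, 6]))) (.node (.leaf ([4, 4])) (.leaf ([9, 6])))) (.node (.node (.leaf ([1, 4])) (.leaf ([6, 6]))) (.leaf ([(-1), 8])))) (.node (.node (.node (.leaf ([(-2), 4])) (.leaf ([6, 6]))) (.node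 (.leaf ([7, 4])) (.leaf ([5, 8])))) (.node (.node (.leaf ([4, 4])) (.leaf ([6, 6]))) (.leaf ([7, 4]))))) (.node (.node (.node (.node (.leaf ([2, 2])) (.leaf ([2, 8]))) (.node (.leaf ([0, 6])) (.leaf ([9, 6])))) (.node (.node (.leaf ([8, 2])) (.leaf ([(-2), 10]))) (.leaf ([3, 6])))) (.node (.node (.node (.leaf ([1, 4])) (.leaf ([2, 8]))) (.node (.leaf ([7, 4])) (.leaf ([4, 10])))) (.node (.node (.leaf ([4, 4])) (.leaf ([9, 6]))) (.leaf ([(-1), 8]))))))

/-- the table -/
def table1 : Table where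
  size := 56
  ngen := 2
  next g x := next1.getK (2 * g + x)
  prev g x := prev1.getK (2 * g + x)
  lab g x := lab1.getK (2 * g + x)
  val g x := val1.getK (2 * g + x)
  rank g x := rank1.getK (2 * g + x)
  tree g := tree1.getK g
  cert j := cert1.getK j
  nded := 57
  rels := [⟨[(0, true), (0, true)], [(0, true)], []⟩,
    ⟨[(0, true), (1, true), (0, true), (1, true), (0, true), (1, false), (0, false)], [(1, true)], []⟩,
    ⟨[(0, true), (0, true), (0, true), (0, true)], [], [0, 0, 0, 0, 0, 0, 0, 0, 0, 0, 0, 0, 0, 0, 0, 0, 0, 0, 0, 0, 0, 0, 0, 1]⟩,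
    ⟨[(1, true), (1, true), (1, true), (1, true), (1, true), (1, true), (1, true), (1, true), (1, true), (1, true), (1, true), (1, true)], [], [0, 0, 0, 0, 0, 0, 0, 0, 0, 0, 0, 0, 0, 0, 0, 0, 0, 0, 0, 0, 0, 0, 0, 0, 1]⟩,
    ⟨[(1, true), (0, true), (0, true), (1, false), (0, false), (1, true), (0, false), (1, false), (0, false), (1, false), (0, false), (0, false), (1, true), (0, false), (1, false), (0, false), (0, false), (1, false), (0, false), (1, false), (0, false), (0, false), (1, true), (0, true), (1, true), (0, true), (0, true), (1, true), (0, true), (1, false), (0, false), (0, false), (1, true), (0, true), (1, true), (0, true), (1, false), (0, false), (0, false), (0, false)], [], [0, 0, 0, 0, 0, 0, 0, 0, 0, 0, 0, 0, 0, 0, 0, 0, 0, 0, 0, 0, 0, 0, 0, 0, 0, 1]⟩,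
    ⟨[(1, true), (0, true), (1, true), (0, true), (1, true), (0, true), (1, true), (1, true), (1, true), (0, true), (1, true), (0, true), (0, true), (1, true), (0, true), (0, true), (1, true), (0, true), (0, true), (1, true), (0, true), (1, false), (0, false), (0, false), (1, true), (0, true), (1, true), (0, true), (1, false), (0, false), (0, false), (1, true), (0, true), (1, true), (0, true), (0, true), (1, true), (0, true), (1, false), (0, false)], [], [0, 0, 0, 0, 0, 0, 0, 0, 0, 0, 0, 0, 0, 0, 0, 0, 0, 0, 0, 0, 0, 0, 0, 0, 0, 0, 1]⟩,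
    ⟨[(0, true), (1, true), (0, true), (0, true), (1, true), (0, true), (1, false), (1, false), (1, false), (0, false), (1, false), (0, true), (1, true), (0, false), (1, false), (0, false), (1, false), (0, false), (0, false), (1, true), (0, false), (1, false), (0, false), (1, false), (0, false), (0, false), (1, true), (0, false), (1, false), (0, false), (0, false), (1, false), (0, false), (1, false), (0, false), (0, false), (1, true), (0, true), (1, true), (0, true), (1, false), (0, false)], [], [0, 0, 0, 0, 0, 0, 0, 0, 0, 0, 0, 0, 0, 0, 0, 0, 0, 0, 0, 0, 0, 0, 0, 0, 0, 0, 0, 1]⟩,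
    ⟨[(0, true), (1, true), (0, true), (1, true), (1, true), (1, true), (0, true), (1, false), (0, false), (0, false), (1, false), (1, false), (0, true), (1, true), (0, true), (1, true), (0, true), (0, true), (1, true), (0, true), (1, false), (0, false), (0, false), (1, true), (0, true), (1, true), (0, true), (1, false), (0, false), (0, false), (1, true), (0, false), (1, false), (0, false), (0, false), (1, false), (0, false), (1, false), (0, false), (0, false), (1, true), (0, true), (1, true), (0, true), (1, false), (0, false)], [], [0, 0, 0, 0, 0, 0, 0, 0, 0, 0, 0, 0, 0, 0, 0, 0, 0, 0, 0, 0, 0, 0, 0, 0, 0, 0, 0, 0, 1]⟩,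
    ⟨[(1, true), (0, true), (1, true), (0, true), (0, true), (1, true), (1, true), (1, true), (1, true), (0, false), (0, false), (1, false), (0, false), (1, false), (0, true), (1, true), (0, true), (1, true), (0, true), (0, true), (1, true), (0, true), (1, false), (0, false), (0, false), (1, true), (0, true), (1, true), (0, true), (0, true), (1, true), (0, true), (0, true), (1, true), (0, true), (0, true), (1, true), (0, true), (1, false), (0, false), (0, false), (1, true), (0, true), (1, true), (0, true), (0, true), (1, true), (0, true), (1, false), (0, false)], [], [0, 0, 0, 0, 0, 0, 0, 0, 0, 0, 0, 0, 0, 0, 0, 0, 0, 0, 0, 0, 0, 0, 0, 0, 0, 0, 0, 0, 0, 1]⟩,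
    ⟨[(1, true), (1, true), (0, true), (1, true), (1, true), (0, false), (1, false), (1, false), (0, false), (1, true), (0, false), (1, false), (0, false), (1, false), (0, false), (0, false), (1, true), (0, false), (1, false), (0, false), (1, false), (0, false), (0, false), (1, true), (0, true), (1, true), (0, true), (0, true), (1, true), (0, true), (1, false), (0, false), (0, false), (1, true), (0, true), (1, true), (0, true), (0, true), (1, true), (0, true), (0, true), (1, true), (0, true), (0, true), (1, true), (0, true), (0, true), (1, true), (0, true), (1, false), (0, false)], [], [0, 0, 0, 0, 0, 0, 0, 0, 0, 0, 0, 0, 0, 0, 0, 0, 0, 0, 0, 0, 0, 0, 0, 0, 0, 0, 0, 0, 0, 0, 1]⟩,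
    ⟨[(1, true), (1, true), (0, true), (1, false), (1, false), (1, false), (1, false), (0, false), (1, true), (1, true), (0, true), (1, false), (1, false), (1, false), (1, false), (0, false)], [], [0, 0, 0, 0, 0, 0, 0, 0, 0, 0, 0, 0, 0, 0, 0, 0, 0, 0, 0, 0, 0, 0, 0, 0, 0, 0, 0, 0, 0, 0, 0, 1]⟩,
    ⟨[(1, true), (0, true), (1, true), (1, true), (1, true), (0, true), (0, true), (1, false), (1, false), (0, true), (1, true), (0, true), (1, false), (0, false), (0, false), (1, true), (0, true), (1, true), (0, true), (1, false), (0, false), (0, false), (1, true), (0, true), (1, true), (0, true), (1, false), (0, false), (0, false), (1, true), (0, true), (1, true), (0, true), (0, true), (1, true), (0, true), (0, true), (1, true), (0, true), (1, false), (0, false), (0, false), (1, true), (0, true), (1, true), (0, true), (0, true), (1, true), (0, true), (0, true), (1, true), (0, true), (1, false), (0, false)], [], [0, 0, 0, 0, 0, 0, 0, 0, 0, 0, 0, 0, 0, 0, 0, 0, 0, 0, 0, 0, 0, 0, 0, 0,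 0, 0, 0, 0, 0, 0, 0, 0, 1]⟩,
    ⟨[(1, true), (1, true), (1, true), (1, true), (1, true), (1, true), (0, false), (1, true), (0, false), (1, false), (0, false), (1, false), (0, false), (0, false), (1, true), (0, false), (1, false), (0, false), (1, false), (0, false), (0, false), (1, true), (0, true), (1, true), (0, true), (0, true), (1, true), (0, true), (0, true), (1, true), (0, true), (1, false), (0, false), (0, false), (1, true), (0, false), (1, false), (0, false), (0, false), (1, false), (0, false), (1, false), (0, false), (0, false), (1, true), (0, true), (1, true), (0, true), (0, true), (1, true), (0, true), (0, true), (1, true), (0, true), (1, false), (0, false)], [], [0, 0, 0, 0, 0, 0, 0, 0, 0, 0, 0, 0, 0, 0, 0, 0, 0, 0, 0, 0, 0, 0, 0, 0, 0, 0, 0, 0, 0, 0, 0, 0, 0, 1]⟩,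
    ⟨[(0, true), (1, true), (0, true), (0, true), (1, true), (1, true), (1, true), (0, false), (1, false), (1, false), (1, false), (0, true), (1, true), (0, false), (1, false), (0, false), (1, false), (0, false), (0, false), (1, true), (0, true), (1, true), (0, true), (0, true), (1, true), (0, true), (0, true), (1, true), (0, true), (1, false), (0, false), (0, false), (1, true), (0, true), (1, true), (0, true), (0, true), (1, true), (0, true), (0, true), (1, true), (0, true), (0, true), (1, true), (0, true), (0, true), (1, true), (0, true), (1, false), (0, false), (0, false), (1, true), (0, true), (1, true), (0, true), (1, false), (0, false)], [], [0, 0, 0, 0, 0, 0, 0, 0, 0, 0, 0, 0, 0, 0, 0, 0, 0, 0, 0, 0, 0, 0, 0, 0, 0, 0, 0, 0, 0, 0, 0, 0, 0, 0, 1]⟩,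
    ⟨[(1, true), (1, true), (1, true), (1, true), (1, true), (0, true), (1, false), (0, false), (0, false), (1, false), (0, false), (1, false), (0, false), (0, false), (1, false), (0, false), (1, false), (0, false), (0, false), (1, true), (0, false), (1, false), (0, false), (1, false), (0, false), (0, false), (1, true), (0, true), (1, true), (0, true), (0, true), (1, true), (0, true), (0, true), (1, true), (0, true), (1, false), (0, false), (0, false), (1, true), (0, false), (1, false), (0, false), (0, false), (1, false), (0, false), (0, false), (1, false), (0, false), (1, false), (0, false), (0, false), (1, true), (0, false), (1, false), (0, false), (1, false), (0, false)], [], [0, 0, 0, 0, 0, 0, 0, 0, 0, 0, 0, 0, 0, 0, 0, 0, 0, 0, 0, 0, 0, 0, 0, 0, 0, 0, 0, 0, 0, 0, 0, 0, 0, 0, 0, 1]⟩,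
    ⟨[(0, true), (1, true), (0, true), (0, true), (1, true), (1, true), (0, true), (1, false), (0, true), (1, false), (0, false), (0, false), (1, true), (0, true), (1, true), (0, true), (0, true), (1, true), (0, true), (1, false), (0, false), (0, false), (1, true), (0, true), (1, true), (0, true), (1, false), (0, false), (0, false), (1, true), (0, true), (1, true), (0, true), (1, false), (0, false), (0, false), (1, true), (0, true), (1, true), (0, true), (0, true), (1, true), (0, true), (0, true), (1, true), (0, true), (0, true), (1, true), (0, true), (1, false), (0, false), (0, false), (1, true), (0, true), (1, true), (0, true), (1, false), (0, false)], [], [0, 0, 0, 0, 0, 0, 0, 0, 0, 0, 0, 0, 0, 0, 0, 0, 0, 0, 0, 0, 0, 0, 0, 0, 0, 0, 0, 0, 0, 0, 0, 0, 0, 0, 0, 0, 1]⟩,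
    ⟨[(1, true), (0, true), (1, true), (0, true), (1, true), (1, true), (0, false), (1, false), (0, false), (1, true), (0, false), (1, false), (0, false), (1, false), (0, false), (0, false), (1, true), (0, true), (1, true), (0, true), (0, true), (1, true), (0, true), (0, true), (1, true), (0, true), (0, true), (1, true), (0, true), (1, false), (0, false), (0, false), (1, true), (0, false), (1, false), (0, false), (0, false), (1, false), (0, false), (1, false), (0, false), (0, false), (1, true), (0, false), (1, false), (0, false), (1, false), (0, false), (0, false), (1, true), (0, false), (1, false), (0, false), (0, false), (1, false), (0, false), (0, false), (1, false), (0, false), (1, false), (0, false)], [], [0, 0, 0, 0, 0, 0, 0, 0, 0, 0, 0, 0, 0, 0, 0, 0, 0, 0, 0, 0, 0, 0, 0, 0, 0, 0, 0, 0, 0, 0, 0, 0, 0, 0, 0, 0, 0, 1]⟩,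
    ⟨[(1, true), (1, true), (0, true), (0, true), (0, true), (1, true), (1, true), (0, true), (1, false), (0, false), (1, false), (0, false), (1, false), (0, false), (1, false), (0, true), (1, true), (0, false), (1, false), (0, false), (0, false), (1, false), (0, false), (0, false), (1, false), (0, false), (1, false), (0, false), (0, false), (1, true), (0, false), (1, false), (0, false), (0, false), (1, false), (0, false), (0, false), (1, false), (0, false), (0, false), (1, false), (0, false), (1, false), (0, false), (0, false), (1, true), (0, false), (1, false), (0, false), (1, false), (0, false), (0, false), (1, true), (0, true), (1, true), (0, true), (0, true), (1, true), (0, true), (1, false), (0, false)], [], [0, 0, 0, 0, 0, 0, 0, 0, 0, 0, 0, 0, 0, 0, 0, 0, 0, 0, 0, 0, 0, 0, 0, 0, 0, 0, 0, 0, 0, 0, 0, 0, 0, 0, 0, 0, 0, 0, 1]⟩,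
    ⟨[(1, true), (1, true), (1, true), (0, true), (0, true), (1, false), (1, false), (1, false), (0, true), (1, true), (0, true), (1, true), (0, true), (1, false), (0, false), (0, false), (1, true), (0, true), (1, true), (0, true), (1, false), (0, false), (0, false), (1, true), (0, true), (1, true), (0, true), (0, true), (1, true), (0, true), (0, true), (1, true), (0, true), (1, false), (0, false), (0, false), (1, true), (0, false), (1, false), (0, false), (0, false), (1, false), (0, false), (0, false), (1, false), (0, false), (1, false), (0, false), (0, false), (1, true), (0, false), (1, false), (0, false), (1, false), (0, false), (0, false), (1, true), (0, false), (1, false), (0, false), (1, false), (0, false)], [], [0, 0, 0, 0, 0, 0, 0, 0, 0, 0, 0, 0, 0, 0, 0, 0, 0, 0, 0, 0, 0, 0, 0, 0, 0, 0, 0, 0, 0, 0, 0, 0, 0, 0, 0, 0, 0, 0, 0, 1]⟩,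
    ⟨[(0, true), (1, false), (0, true), (1, false), (0, true), (1, false), (0, true), (1, false), (0, true), (1, false), (0, true), (1, false), (0, true), (1, false)], [], [0, 0, 0, 0, 0, 0, 0, 0, 0, 0, 0, 0, 0, 0, 0, 0, 0, 0, 0, 0, 0, 0, 0, 0, 0, 0, 0, 0, 0, 0, 0, 0, 0, 0, 0, 0, 0, 0, 0, 0, 1]⟩,
    ⟨[(0, true), (1, true), (1, true), (1, true), (0, true), (1, true), (1, true), (1, true), (0, true), (1, true), (1, true), (1, true), (0, true), (1, true), (1, true), (1, true), (0, true), (1, true), (1, true), (1, true)], [], [0, 0, 0, 0, 0, 0, 0, 0, 0, 0, 0, 0, 0, 0, 0, 0, 0, 0, 0, 0, 0, 0, 0, 0, 0, 0, 0, 0, 0, 0, 0, 0, 0, 0, 0, 0, 0, 0, 0, 0, 0, 1]⟩]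
  pot g := pot1.getK g
  innerSize := 25920
  innerGen := 2

/-- data -/
def level1eqsPart0 : List (ℕ × ℕ × Vec) := [(2, 33, [(-1), 0, 0, 0, 0, 0, (-1), 2]), (10, 47, [50, (-15), (-37), 70, 23, (-6), (-6), (-17), 8, 0, 0, 0, 0, 0, 0, 0, 2, 11, 3, 5, (-1), (-2), (-3), 0, 0, 0, 0, 0, 0, (-1), 0, (-1)]), (2, 10, [11, (-34), (-26), (-3), 12, (-10), 14, 38, (-10), 0, 0, 0, 0, 0, 0, 0, 26, 26, (-14), 26, (-6), (-6), (-14), (-1), 0, 0, 0, 0, 0, 0, 0, 0, 0, 0, 0, 0, 0, 0, 0, 2]), (3, 36, [27, (-42), (-85), 44, (-10), (-56), (-10), 17, (-7), 0, 0, 0, 0, 0, 0, 0, (-9), 6, (-6), (-2), 6, 5, (-12), 0, (-1), 0, 0, 0, 0, 0, (-1), (-2), 0, 1]), (3, 9, [(-72), (-6), 16, (-115), (-36), (-9), 16, 39, (-6), 0, 0, 0, 0, 0, 0, 0, 30, 3, (-5), 17, (-9), (-5), 1, 0, (-1), 0, 0, 0, 0, 0, 6]), (3, 0, [40, (-76), (-128), 22, (-9), (-71), 11, 32, (-11), 0, 0, 0, 0, 0, 0, 0, 12, 13, (-2), 11, (-1), (-2), (-5), 0, (-1), 0, 0, 0, 0, 0, 0, 0, 0, 2]), (20, 8, [33, (-67), (-109), (-31), (-6), (-47), 22, 38,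 (-4), 0, 0, 0, 0, 0, 0, 0, 32, 21, (-8), 19, (-5), (-6), (-8), 0, 0, 0, 0, 0, 0, 0, 0, 0, 0, 0, 0, 0, 0, 5, 0, 0, 0, (-1)]), (3, 26, [39, (-84), (-58), (-2), 38, (-16), 46, 80, (-24), 0, 0, 0, 0, 0, 0, 0, 60, 66, (-36), 60, (-12), (-18), (-36), 0, (-1), 0, 0, 0, 0, 3]), (10, 10, [167, (-74), (-92), 164, 109, 2, 3, 20, (-12), 0, 0, 0, 0, 0, 0, 0, 38, 33, (-13), 23, (-2), (-7), (-13), 0, (-2), (-1), 0, 0, 0, 1, 0, (-2), 0, 2, 0, 0, 0, 0, 0, 1]), (10, 12, [(-113), 75, 66, (-137), (-90), 8, 2, (-59), 15, 0, 0, 0, 0, 0, 0, 0, (-63), (-74), 43, (-62), 8, 13, 46, 0, 1, 2, (-1), 0, 0, (-2), 1, 0, 0, (-3), 0, 0, 0, 1, 0, (-2), 0, 1]), (4, 14, [(-23), 168, 330, 51, 113, 222, (-33), (-18), 16, 0, 0, 0, 0, 0, 0, 0, 37, 21, (-17), 29, (-12), (-8), (-10), (-2), 0, (-2), 1, (-1), 0, 1, 2, 3, (-1), 2, 2, (-1), (-1), (-2), 0, 0, 1]), (20, 2, [(-167), 97, 262, (-149), (-10), 137, 54, (-50), 46, 0, 0, 0, 0, 0, 0, 0, 154, 46, (-39), 70, (-51), (-47), (-9), 4, 1, 1, 6, (-6), 4, (-1), 8, (-4), (-6),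 (-4), 0, 2, 4, 0, 6, 3, 2, (-2)]), (18, 20, [(-145), 255, 382, 31, (-5), 211, (-39), (-103), 37, 0, 0, 0, 0, 0, 0, 0, (-37), (-70), 36, (-54), 11, 6, 47, (-2), 0, 1, 0, 0, 0, 0, 0, 0, 0, 0, 0, 0, 0, 0, 0, (-2)]), (5, 3, [(-363), 38, (-79), (-15), (-355), (-221), (-9), (-105), 22, 0, 0, 0, 0, 0, 0, 0, (-151), (-129), 93, (-123), 22, 36, 73, (-2), 3, 3, 3, 10, (-1), (-3), 0, (-2), 6, (-2), (-6), (-1), (-4), 2, (-2), (-3), (-1), (-2)]), (2, 48, [104, 59, (-193), 289, (-111), (-39), 28, (-108), 8, 0, 0, 0, 0, 0, 0, 0, (-237), (-142), 135, (-180), 73, 52, 92, (-5), 1, 5, (-8), 10, (-5), (-5), (-4), (-3), 9, 0, (-7), 0, (-3), 7, (-7), (-7), (-3)]), (20, 21, [(-284), (-72), (-329), (-449), (-402), (-366), (-15), (-70), 8, 0, 0, 0, 0, 0, 0, 0, (-187), (-167), 73, (-150), 30, 47, 71, 0, 5, 5, 0, 5, 0, (-5), 0, (-5), 0, (-5), (-5), 0, 0, 0, 0, (-5), 0, (-1)]), (19, 18, [(-434), 421, 612, (-60), (-195), 279, 27, (-285), 105, 0, 0, 0, 0, 0, 0, 0, (-57), (-121), 71, (-97), (-3), 6, 87, 9,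 3, 4, 5, 4, 2, (-3), 2, (-2), 0, (-5), (-5), 2, (-2), 2, 1, (-1), (-1), (-2)]), (14, 15, [468, (-379), (-842), 327, (-30), (-319), 167, 35, (-53), 0, 0, 0, 0, 0, 0, 0, (-142), (-19), 91, (-103), 71, 9, 37, (-6), (-1), 2, (-11), 4, (-6), (-3), (-3), 2, 6, 4, (-2), (-1), (-1), 5, (-5), (-3), (-2), 2]), (14, 46, [(-140), (-222), 155, (-352), 178, 7, 30, 240, (-9), 0, 0, 0, 0, 0, 0, 0, 506, 304, (-265), 354, (-158), (-117), (-181), (-7), (-3), (-8), 11, (-17), 8, 7, 10, (-3), (-17), 1, 12, (-5), 5, (-9), 13, 13, 7]), (19, 19, [(-455), 538, 848, (-125), (-118), 451, 25, (-277), 110, 0, 0, 0, 0, 0, 0, 0, (-42), (-115), 65, (-81), (-13), 3, 85, 9, 3, 4, 5, 4, 2, (-3), 2, (-2), 0, (-5), (-5), 2, (-2), 2, 1, (-1), (-1), (-2)])]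

/-- data -/
def level1eqsPart1 : List (ℕ × ℕ × Vec) := [(12, 10, [(-225), 577, 951, (-11), 150, 524, (-212), (-109), 36, 0, 0, 0, 0, 0, 0, 0, (-201), (-107), 51, (-88), 48, 56, 31, (-2), 0, (-4), (-2), 4, (-4), 4, (-8), 8, 4, 10, 4, (-4), (-6), (-6), (-6), (-5)]), (18, 32, [80, (-166), 310, (-228), 397, 250, 105, 364, (-88), 0, 0, 0, 0, 0, 0, 0, 463, 324, (-231), 364, (-130), (-103), (-171), 1, (-3), (-6), 7, (-12), 5, 6, 11, 6, (-12), 1, 8, (-1), 4, (-7), 8, 10, 3, 1]), (15, 45, [(-93), (-247), (-425), (-622), (-121), (-460), (-280), 611, (-261), 0, 0, 0, 0, 0, 0, 0, (-421), (-110), 40, (-68), 94, 165, (-47), (-7), 1, (-3), (-6), 17, (-9), 6, (-19), 12, 16, 17, 7, (-8), (-16), (-7), (-15), (-11), (-3), (-1)]), (13, 24, [(-142), 134, (-420), (-73), (-507), (-306), (-18), (-362), 66, 0, 0, 0, 0, 0, 0, 0, (-545), (-407), 303, (-449), 132, 124, 235, (-6), 5, 10, (-8), 12, (-7), (-10), (-9), (-4), 11, (-9), (-11), 1, (-2), 9, (-8), (-15), (-5), 1]), (14, 19, [392, (-754), (-1008),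 (-184), 101, (-608), 30, 384, (-131), 0, 0, 0, 0, 0, 0, 0, 252, 212, (-149), 211, (-53), (-59), (-122), (-3), (-4), (-3), (-3), (-13), 3, 3, 2, (-3), (-8), (-2), 7, 0, 7, 1, 6, 4, 2, 3])]

/-- the table with its checks -/
def level1 : CfsgLib.Sporadic.ChainLevel where
  table := table1
  gexp := [[3, 0], [(-1), 2]]
  perm := [0x1c7300471704091b4000187900c708ae2684d9959df36a92f88dea6821e81d8a40cd5695297dd598759a889e961cdb7b4f86045f650e4646205fcfd87df535dde6d4624659841d847bcc9445887e4d679cbe73de06394c0acf5485ee32c987acf3851d262ce17d0fe33c2f3fc8a5f4c0774f17f5853ecc83e4850d4c53c1dc5f0bd3b4bc1f41c70c6f6fc088cc7b72c776f40502c02724757140a6ed7652e1a68e2889e106cda8839836e5ae149a6502254c4ea5e0674ed246de12825fb6c1ab675e35a55b549d71a9494f53285da182df65c62a5951b8660a285fa5cd647692312d5d4ccaa6490c38df81a5ac521a74d5974a9e28a51a7fdf16c5a9890e75ae1666d5880dd9489f06bd75199a450e0d6092c5a95a8609b6e0514d9275c1b659a1153dfe759f258c314a0a71904f5142257cb183d174b437654e61ad7414c564dd550cca45055e0eca8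47dd420c952e41b55cae1601649432538b776c995b4364b8ab63109804ca6785c600e981512885df624e08717e689b418d1863dfc364f664e0438900785e430dcc544a28010a48028618d8854f27a1d36410f818d4114610e4e8098d1204c7441017987f6701f374cd42cb50a8f424dd13088811d151783437c9c084cc5401323886118384740e1550d28102240ef22dce0fd544aca563504369ec4505d34cc40f5960b41e470d2034c61042c25820414fa3b9cd180e5370ce1509a230870f02e0948044cfc740bf53506048f7245e52247e2d02923c8409c1003c94074ec3047c8b4727086e8d62c8c87a7006c6f0048bc787207486dba5ed4a5e8bb16d475ca026c93e5bd3c2c83a5185a5dcba6b538821684e443558ac194235104c67d6c1251650a0c3aca915c685e4505843e2bd265b8482cd3027d1e7548216560108184e8b805ca654ca3760b64fc4a570b0138152741a3784043892589342b43006497134144208d110d0278240440c71e346fa318ddca8b87671a3671230, 0x1c2306f06c1d06e8be2d8ca2c1b62e8ad29665a55d9f36ed6765cf81a587549636dc316a94b8692f69c5f6512a45c323a9ae0ec6b6cc6757a25655a855d78159a6674641a84f628cf40c2f6e9465ec5a7ed2856ca747d400dd8306d3b0cc52255558392457c584c5b95e84b574bb184435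58264c9456ac2251caa16d33130c7194395bc150e84e011c0721c21e0721ea3500c01019c1000711e4737de26566136161d3ed9a6d9ac88cf94458e1897f5aa034699b68c3f3ccdb880f57c216621b58a55a2f9077fc9b6442b4896b8a154851ed531e73f58476618561f153d357a88553a092dd693b98c151096c582145af35a1f464cb835a47b9de6e1a97e5983fa1e314e47ca10295e262da00d58159a274ad484d8e773cc950c66484d74b2245d5277d5e0261ef828e62b91b505a15cc5385d647ea2a2a17483d255b53d0d9b022a073fcd52ea1b5dd4a76dd7266122857182d232c41620d37751f6768a48652d2e5653497e4281e64c5d10463401b4885864502c319960959e1805c3b4c00717d589380c1ad21e013e8ca4482830d8f0343d34c20790c4258f6471895442d1219f15c42440c204d0b58116744f45b868541013bd0c040d12da0225cac1559209c4554d720653927c3e2387f1644924c2a5b11e06161221e62d4864b9e32ad49339800b8e96c84d408e8118df07c5e2cd3a140eb1282338c0f33115830a6670384c1793740e208af0844750817571447e0942711d0d0cd2e1d52a5264f81422c812753c068b2090de04440711be71a371da318da34009bd715bf1d46f1de337a5fd888c87f9d25c1eb411dc634f08548c3c905844e17d1d65f0da7b0bd1f90677cd844c29389a2796043f21c2d2003dd18640dc43c3c774bc3c47d821345a0ad7a1cd74c9a245e12fce023ca2048d974084731fc2254d81520434a3760904201d3b08d81880350e52c1ce4fca03407c110c12489e4380c025ca02c0502808725c372c7b01dc7]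
  pinv := [0x1c021dc0a71c75020001bc051ec768ad8e5cdb66d62a6a96d88e154460a81e2085d0d1adb862d5964d6a3cde98a5a2541b4505b1578466458a6845587ced44d0259c62464f95c54e76d06681887e57c86590819e58994c5c1647f5ee844b47ae22850f17dce1228fe671743fdf444204775d248585598296614d0d52e3c1e8358917d4bc280fc714066fc6d02c036f40172c798cc737240970c716ec6a6bd5768d5280d0a6cc615bd9f58dae15d7a67a255b9b25e1ac86d606dd0b64a2112d17674df5a6168a2005d8ae4f60d40d7f82cef41df32dd1b79e1e43dfa84cf5769fe6c15d83d158250c77dd11a467105a7165ba5893a61c6363d5317c3b47c4a5ad5b66c5489d516358652c1b0fc3250d32608256695a861684a4514d8ba0ad993eccb53d2323df26e468659791905b5144d57c474cdab09c606545e6942f14c564dd555dc1a605946a4388911d4fd5c2e575869495503c495a4611657bcf74bc36314ab631728050850048348b324d127ece33b81d3097e36cf8468137fc8e28cb6874c038900785e482092764a275e10231047c0d87a8f2771d32f8a173c7e115a8450e85b13c27a0c5f5017990e33c1f3749d848b5414f4815f8870ec2c4aa3981078c9c370cc7b5187f1d8390a8750b03f4d51f5de241f6741ce198584ac2e48828368870e45d508240f5280645047180111305202c2e1340a8fa624c10dc0f084ce5609a481ec058a54b08035c1c22cbf214c9048992f5e0224d4260c8758844b43439494380887347c718748b86e710046f86c8d87a8d22c728788c4724ed975ec426996113d47426023a89f838d12c9161945a0cd2710d3830c9b4e5ad55840518230544c60c261243a34cc73ac111483129c1e2ec3e2bc974c45c3a4c64f91e754d04d52452818788962b4a67c4d9218f620ce72540e13944334a4378ac1fdcc4a82005c300b526088143288d03482204c42a40c705bc8c9c88de2f708708b5c08d630,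 0x1e075710741b22f1da368c62c8c22e8ad4067593579ba829526c469445a35d96a6d8484ca1947d8a50da017d916e12c16d664f5e95cca14a54b6083b4d81b0944a6a8d63f846664671a8287dd415b4916ed2253c5989967621a15317164055191851ac37638be12cf32e9640c94e145700fc624bd2162c214b858229230d4663842b564160d82900c0a015c9000791c47b011c8701ca1c07a1ca35895fb7916f875b367912834b35ed385e210401b27661b5ba0885e048a17269c4c519623a90a80c9f6a1b48a56c88d0c8261545cd265c433e1ae1857e58dff3b99f881106dd8c7c17a580b66b11a410577e5e3272064c6275453e514ce4a86573cdf4ecc3651ab600398915f4714287903300e379e0b784937d59c6e58981ddd7a99233e1f3b4dd61d830998f869302e15c75dfa7689255c9551df2054874e8827b8aa331024915b6183a751db7949d860bb47953576148a9f6540884f1e84a195554247ccc2238ef521a95d44484ce22890f13cfb6bce71040d08cda391195f01f66852170637f4b1371134d56b634496d4fd6c222114f0688e06945d0f46036d7f41c1d2a2112d0b05694a061682944d168302b87e26c42690560b050551774d0193d51b360137f8b7230a35d0fc560687490d5a4f23e4e6041060c59b1503e781334748b604d72f4472ac8049c17261490e0d42e5d62253f7d0a0595200882e4ac1432c0e20c8f660344b54d354f17ac903140f0cc200bcc90705e2153709cbf3fcbc6102a494992101a320530f012009c56f5c71b4771be336f1c66fa371ba328b63483a01884de8315674602451ad77d09858ac45908755f831de63a60534d7d511ec5e4a9801cc2c9d3788a7318eb258af34011778e84547c698ca3d84083dcd7409e7c5395848d7b612871017f0b53b10e658c4138fa345dc42c7f299d825cf42b518079057bc81334c125126738863942d1f4d92909a3dc0c0240702c06005c1021cb70c73709bf]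
  defs := [[(0, true), (0, true)], [(0, true), (1, true), (0, true), (1, true), (0, true), (1, false), (0, false)]]
  eqs := level1eqsPart0 ++ level1eqsPart1
  pts := [0]

end CfsgLib.Sporadic.MultTwoCent
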