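import Mathlib
import Cfsg.Agent.Lib.Sporadic.ChainCertificate
import Cfsg.Agent.Lib.Schur.TrieFast

/-!
# Coset table 2 of a chain
-/

set_option autoImplicit false
set_option maxRecDepth 100000
set_option maxHeartbeats 0
set_option Elab.async false

noncomputable section

namespace CfsgLib.Sporadic.MultTwoCent

open CfsgLib.Schur.Cert

/-- data -/
def next2 : Trie (ℕ) := .node (.node (.node (.node (.node (.node (.leaf 1) (.leaf 13)) (.node (.leaf 5) (.leaf 23))) (.node (.node (.leaf 2) (.leaf 25)) (.leaf 14))) (.node (.node (.node (.leaf 4) (.leaf 18)) (.node (.leaf 9) (.leaf 22))) (.node (.node (.leaf 3) (.leaf 26)) (.leaf 12)))) (.node (.node (.node (.node (.leaf 0) (.leaf 21)) (.node (.leaf 10) (.leaf 20))) (.node (.node (.leaf 8) (.leaf 17)) (.leaf 16))) (.node (.node (.node (.leaf 6) (.leaf 19)) (.leaf 7)) (.node (.node (.leaf 11) (.leaf 24)) (.leaf 15))))) (.node (.node (.node (.node (.node (.leaf 2) (.leaf 20)) (.node (.leaf 11) (.leaf 25)))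 (.node (.node (.leaf 8) (.leaf 6)) (.leaf 15))) (.node (.node (.node (.leaf 5) (.leaf 23)) (.node (.leaf 13) (.leaf 16))) (.node (.node (.leaf 10) (.leaf 14)) (.leaf 18)))) (.node (.node (.node (.node (.leaf 3) (.leaf 22)) (.node (.leaf 12) (.leaf 4))) (.node (.node (.leaf 9) (.leaf 26)) (.leaf 17))) (.node (.node (.node (.leaf 7) (.leaf 24)) (.leaf 0)) (.node (.node (.leaf 1) (.leaf 21)) (.leaf 19)))))

/-- data -/
def prev2 : Trie (ℕ) := .node (.node (.node (.node (.node (.node (.leaf 1) (.leaf 13)) (.node (.leaf 5) (.leaf 23))) (.node (.node (.leaf 2) (.leaf 25)) (.leaf 14))) (.node (.node (.node (.leaf 4) (.leaf 18)) (.node (.leaf 9) (.leaf 22))) (.node (.node (.leaf 3) (.leaf 26)) (.leaf 12)))) (.node (.node (.node (.node (.leaf 0) (.leaf 21)) (.node (.leaf 10) (.leaf 20))) (.node (.node (.leaf 8) (.leaf 17)) (.leaf 16))) (.node (.node (.node (.leaf 6) (.leaf 19)) (.leaf 7)) (.node (.node (.leaf 11) (.leaf 24)) (.leaf 15))))) (.node (.node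 (.node (.node (.node (.leaf 11) (.leaf 26)) (.node (.leaf 4) (.leaf 19))) (.node (.node (.leaf 25) (.leaf 16)) (.leaf 9))) (.node (.node (.node (.leaf 0) (.leaf 14)) (.node (.leaf 6) (.leaf 21))) (.node (.node (.leaf 20) (.leaf 17)) (.leaf 22)))) (.node (.node (.node (.node (.leaf 7) (.leaf 13)) (.node (.leaf 5) (.leaf 24))) (.node (.node (.leaf 2) (.leaf 23)) (.leaf 10))) (.node (.node (.node (.leaf 1) (.leaf 15)) (.leaf 8)) (.node (.node (.leaf 3) (.leaf 18)) (.leaf 12)))))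

/-- data -/
def lab2 : Trie (Word) := .node (.node (.node (.node (.node (.node (.leaf ([])) (.leaf ([]))) (.node (.leaf ([(1, true), (0, true), (1, false), (0, false), (1, true), (0, false), (1, false), (0, true), (1, true), (0, true)])) (.leaf ([(0, true), (1, true), (1, true), (1, true)])))) (.node (.node (.leaf ([])) (.leaf ([]))) (.leaf ([])))) (.node (.node (.node (.leaf ([])) (.leaf ([(1, false), (0, true), (0, true), (1, true)]))) (.node (.leaf ([(1, true), (0, true), (1, false), (0, false), (1, true), (0, false), (1, false), (0, true), (1, true)])) (.leaf ([(1, true), (0, true), (1, true), (0, true), (1, false), (0, true), (1, true), (0, false)])))) (.node (.node (.leaf ([])) (.leaf ([(1, true), (0, true), (1, true), (0, true), (1, false), (0, true), (1, true), (0, false)]))) (.leaf ([]))))) (.node (.node (.node (.node (.leaf ([])) (.leaf ([]))) (.node (.leaf ([(1, true), (0, false), (1, false), (0, true), (1, true), (0, true), (1, false),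 (0, false), (1, true)])) (.leaf ([])))) (.node (.node (.leaf ([(1, true), (0, true), (1, false), (0, false), (1, true), (0, false), (1, false), (0, true), (1, true), (0, true)])) (.leaf ([]))) (.leaf ([])))) (.node (.node (.node (.leaf ([])) (.leaf ([(1, true), (1, true), (1, true)]))) (.leaf ([]))) (.node (.node (.leaf ([])) (.leaf ([(1, true), (1, true), (1, true), (0, false)]))) (.leaf ([(1, false), (0, true), (0, true), (1, true)])))))) (.node (.node (.node (.node (.node (.leaf ([])) (.leaf ([]))) (.node (.leaf ([(0, true)])) (.leaf ([(0, false), (1, false), (0, true), (1, false), (0, false)])))) (.node (.node (.leaf ([])) (.leaf ([(1, true)]))) (.leaf ([])))) (.node (.node (.node (.leaf ([])) (.leaf ([]))) (.node (.leaf ([])) (.leaf ([(0, false), (1, false), (0, false)])))) (.node (.node (.leaf ([])) (.leaf ([(1, false), (0, false), (1, false), (0, true), (1, false), (1, false)]))) (.leaf ([]))))) (.node (.node (.node (.node (.leaf ([])) (.leaf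 ([]))) (.node (.leaf ([])) (.leaf ([(1, true)])))) (.node (.node (.leaf ([])) (.leaf ([]))) (.leaf ([])))) (.node (.node (.node (.leaf ([])) (.leaf ([]))) (.leaf ([(0, false), (1, false), (0, true), (1, true), (0, false), (1, true), (0, true)]))) (.node (.node (.leaf ([(1, true), (0, true), (1, false), (0, false), (1, true), (0, false), (1, false)])) (.leaf ([(0, true), (0, true), (1, false), (0, true), (1, false), (0, true)]))) (.leaf ([]))))))

/-- data -/
def val2 : Trie (Vec) := .node (.node (.node (.node (.node (.node (.leaf ([])) (.leaf ([0, 0, 0, 0, 0, 0, 0, 0, 0, 0, 0, 0, 0, 0, 0, 0, 1]))) (.node (.leaf ([7, (-18), (-17), 2, 4, (-8), 8, 13, (-4), 0, 0, 0, 0, 0, 0, 0, 11, 12, (-7), 10, (-2), (-3), (-7)])) (.leaf ([(-1), 0, 0, 0, 0, 0, 0, 0, 0, 0, 0, 0, 0, 0, 0, 0, 1, 0, 0, 0, (-1)])))) (.node (.node (.leaf ([0, 0, 0, 0, 0, 0, 0, 0, 0, 0, 0, 0, 0, 0, 0, 0, 1])) (.leaf ([]))) (.leaf ([])))) (.node (.node (.node (.leaf ([])) (.leaf ([(-1), (-4),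 (-8), (-2), (-4), (-6), 1, (-1), 0, 0, 0, 0, 0, 0, 0, 0, (-1), 0, 1, (-1)]))) (.node (.leaf ([35, (-81), (-143), 20, (-23), (-85), 15, 18, (-7), 0, 0, 0, 0, 0, 0, 0, 3, 11, (-2), 5, 1, (-3), (-6)])) (.leaf ([13, (-69), (-116), (-17), (-26), (-78), 7, 27, (-10), 0, 0, 0, 0, 0, 0, 0, 5, 8, (-5), 7, (-1), 0, (-6)])))) (.node (.node (.leaf ([0, 0, 0, 0, 0, 0, 0, 0, 0, 0, 0, 0, 0, 0, 0, 0, 1])) (.leaf ([(-45), 89, 156, (-12), 18, 93, (-10), (-25), 11, 0, 0, 0, 0, 0, 0, 0, (-3), (-10), 4, (-5), 0, 0, 7]))) (.leaf ([0, 0, 0, 0, 0, 0, 0, 0, 0, 0, 0, 0, 0, 0, 0, 0, 1]))))) (.node (.node (.node (.node (.leaf ([0, 0, 0, 0, 0, 0, 0, 0, 0, 0, 0, 0, 0, 0, 0, 0, 1])) (.leaf ([]))) (.node (.leaf ([5, 8, 14, 6, 9, 13, (-1), (-3), 1, 0, 0, 0, 0, 0, 0, 0, 3, 0, 1, 1, (-1), 0, 2])) (.leaf ([0, 0, 0, 0, 0, 0, 0, 0, 0, 0, 0, 0, 0, 0, 0, 0, 1])))) (.node (.node (.leaf ([(-2), (-7), (-11), (-6), (-4), (-8), 1, 6, (-2), 0, 0, 0, 0, 0, 0, 0, 1, 1, 0, 2, (-1)])) (.leaf ([0,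 0, 0, 0, 0, 0, 0, 0, 0, 0, 0, 0, 0, 0, 0, 0, 1]))) (.leaf ([])))) (.node (.node (.node (.leaf ([])) (.leaf ([0, 0, 0, 0, 0, 0, 0, 0, 0, 0, 0, 0, 0, 0, 0, 0, 0, 0, 0, 1]))) (.leaf ([0, 0, 0, 0, 0, 0, 0, 0, 0, 0, 0, 0, 0, 0, 0, 0, 1]))) (.node (.node (.leaf ([])) (.leaf ([0, 0, 0, 0, 0, 0, 0, 0, 0, 0, 0, 0, 0, 0, 0, 0, 0, 0, 0, 0, 1]))) (.leaf ([1, 4, 8, 2, 4, 6, (-2), 1, 0, 0, 0, 0, 0, 0, 0, 0, 0, 0, 0, 1])))))) (.node (.node (.node (.node (.node (.leaf ([])) (.leaf ([]))) (.node (.leaf ([])) (.leaf ([0, 0, 0, 0, 0, 0, 0, 0, 0, 0, 0, 0, 0, 0, 0, 0, 0, 0, 0, 0, 0, 0, 1])))) (.node (.node (.leaf ([])) (.leaf ([]))) (.leaf ([])))) (.node (.node (.node (.leaf ([])) (.leaf ([]))) (.node (.leaf ([])) (.leaf ([0, 0, 0, 0, 0, 0, 0, 0, 0, 0, 0, 0, 0, 0, 0, 0, 0, 0, 0, 0, 0, 1])))) (.node (.node (.leaf ([])) (.leaf ([(-10), 14, 25, 1, 0, 16, 3, (-4), 3, 0, 0, 0, 0, 0, 0, 0, 2, 1, (-1), 0, (-1), (-1), (-1)]))) (.leaf ([]))))) (.node (.node (.node (.node (.leaf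 ([])) (.leaf ([]))) (.node (.leaf ([])) (.leaf ([0, 0, 0, 0, 0, 0, 0, 0, 0, 0, 0, 0, 0, 0, 0, 0, (-1), 0, 1])))) (.node (.node (.leaf ([])) (.leaf ([]))) (.leaf ([])))) (.node (.node (.node (.leaf ([])) (.leaf ([]))) (.leaf ([0, 0, 0, 0, 0, 0, 0, 0, 0, 0, 0, 0, 0, 0, 0, 0, 1, 1, (-1), 0, 0, 0, (-1)]))) (.node (.node (.leaf ([(-7), 61, 101, 23, 26, 68, (-11), (-26), 10, 0, 0, 0, 0, 0, 0, 0, (-3), (-6), 3, (-5), 1, 1, 4])) (.leaf ([5, 6, 12, 7, 8, 8, (-5), (-3), 0, 0, 0, 0, 0, 0, 0, 0, (-2), 0, 1, 0, 1, 0, 1]))) (.leaf ([]))))))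

/-- data -/
def rank2 : Trie (ℕ) := .node (.node (.node (.node (.node (.node (.leaf 0) (.leaf 8)) (.node (.leaf 28) (.leaf 16))) (.node (.node (.leaf 4) (.leaf 0)) (.leaf 0))) (.node (.node (.node (.leaf 0) (.leaf 19)) (.node (.leaf 27) (.leaf 25))) (.node (.node (.leaf 5) (.leaf 26)) (.leaf 7)))) (.node (.node (.node (.node (.leaf 3) (.leaf 0)) (.node (.leaf 23) (.leaf 10))) (.node (.node (.leaf 22) (.leaf 9)) (.leaf 0))) (.node (.node (.node (.leaf 0) (.leaf 12)) (.leaf 6)) (.node (.node (.leaf 0) (.leaf 13)) (.leaf 21))))) (.node (.node (.node (.node (.node (.leaf 0) (.leaf 0)) (.node (.leaf 1) (.leaf 15))) (.node (.node (.leaf 0) (.leaf 2)) (.leaf 0))) (.node (.node (.node (.leaf 0) (.leaf 0)) (.node (.leaf 0) (.leaf 14))) (.node (.node (.leaf 0) (.leaf 20)) (.leaf 0)))) (.node (.node (.node (.node (.leaf 0) (.leaf 0)) (.node (.leaf 0) (.leaf 11))) (.node (.node (.leaf 0) (.leaf 0)) (.leaf 0))) (.node (.node (.node (.leaf 0) (.leaf 0)) (.leaf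 17)) (.node (.node (.leaf 24) (.leaf 18)) (.leaf 0)))))

/-- data -/
def tree2 : Trie (ℕ × ℕ) := .node (.node (.node (.node (.node (.leaf (0, 0)) (.leaf (13, 0))) (.node (.leaf (4, 1)) (.leaf (19, 1)))) (.node (.node (.leaf (2, 0)) (.leaf (16, 1))) (.leaf (9, 1)))) (.node (.node (.node (.leaf (0, 1)) (.leaf (14, 1))) (.node (.leaf (6, 1)) (.leaf (21, 1)))) (.node (.node (.leaf (3, 0)) (.leaf (17, 1))) (.leaf (12, 0))))) (.node (.node (.node (.node (.leaf (0, 0)) (.leaf (13, 1))) (.node (.leaf (5, 1)) (.leaf (20, 0)))) (.node (.node (.leaf (2, 1)) (.leaf (17, 0))) (.leaf (10, 1)))) (.node (.node (.node (.leaf (1, 1)) (.leaf (15, 1))) (.leaf (7, 0))) (.node (.node (.leaf (3, 1)) (.leaf (18, 1))) (.leaf (12, 1)))))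

/-- data -/
def cert2 : Trie (ℕ × ℕ × ℕ) := .node (.node (.node (.node (.node (.leaf (0, 0, 3)) (.leaf (3, 0, 11))) (.node (.leaf (2, 17, 1)) (.leaf (6, 14, 4)))) (.node (.node (.leaf (2, 3, 1)) (.leaf (4, 12, 6))) (.leaf (6, 0, 7)))) (.node (.node (.node (.leaf (2, 0, 1)) (.leaf (4, 18, 0))) (.node (.leaf (4, 0, 5)) (.leaf (6, 18, 19)))) (.node (.node (.leaf (2, 12, 1)) (.leaf (5, 24, 13))) (.leaf (8, 0, 7))))) (.node (.node (.node (.node (.leaf (1, 0, 7)) (.leaf (4, 13, 5))) (.node (.leaf (2, 20, 1)) (.leaf (6, 17, 17)))) (.node (.node (.leaf (2, 7, 1)) (.leaf (5, 14, 13))) (.leaf (7, 0, 8)))) (.node (.node (.node (.leaf (2, 2, 1)) (.leaf (3, 6, 4))) (.node (.leaf (5, 0, 6)) (.leaf (6, 19, 4)))) (.node (.node (.leaf (2, 13, 1)) (.leaf (6, 11, 36))) (.leaf (2, 23, 1)))))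

/-- data -/
def pot2 : Trie (Vec) := .node (.node (.node (.node (.node (.leaf ([])) (.leaf ([33, 6]))) (.node (.leaf ([16, 4])) (.leaf ([35, 14])))) (.node (.node (.leaf ([11, 2])) (.leaf ([38, 8]))) (.leaf ([20, 8])))) (.node (.node (.node (.leaf ([5, 2])) (.leaf ([31, 10]))) (.node (.leaf ([22, 4])) (.leaf ([43, 10])))) (.node (.node (.leaf ([17, 2])) (.leaf ([37, 10]))) (.leaf ([26, 8]))))) (.node (.node (.node (.node (.leaf ([6])) (.leaf ([32, 8]))) (.node (.leaf ([15, 6])) (.leaf ([44, 8])))) (.node (.node (.leaf ([10, 4])) (.leaf ([38, 8]))) (.leaf ([27, 6])))) (.node (.node (.node (.leaf ([11, 2])) (.leaf ([30, 12]))) (.leaf ([22, 4]))) (.node (.node (.leaf ([16, 4])) (.leaf ([36, 12]))) (.leaf ([25, 10])))))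

/-- the table -/
def table2 : Table where
  size := 27
  ngen := 2
  next g x := next2.getK (2 * g + x)
  prev g x := prev2.getK (2 * g + x)
  lab g x := lab2.getK (2 * g + x)
  val g x := val2.getK (2 * g + x)
  rank g x := rank2.getK (2 * g + x)
  tree g := tree2.getK g
  cert j := cert2.getK j
  nded := 28
  rels := [⟨[(1, true), (0, true), (1, true), (1, true), (0, false), (1, false), (1, false), (0, false)], [(0, true)], []⟩,
    ⟨[(0, true), (1, true), (0, true), (1, true), (1, true), (0, true), (1, true), (1, true), (0, false), (1, false), (0, false)], [(1, true)], []⟩,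
    ⟨[(0, true), (0, true)], [], [0, 0, 0, 0, 0, 0, 0, 0, 0, 0, 0, 0, 0, 0, 0, 0, 1]⟩,
    ⟨[(1, true), (1, true), (1, true), (1, true), (1, true), (1, true), (1, true), (1, true), (1, true), (1, true), (1, true), (1, true)], [], [0, 0, 0, 0, 0, 0, 0, 0, 0, 0, 0, 0, 0, 0, 0, 0, 0, 1]⟩,
    ⟨[(0, true), (1, true), (0, true), (1, false), (0, true), (1, true), (0, true), (1, false)], [], [0, 0, 0, 0, 0, 0, 0, 0, 0, 0, 0, 0, 0, 0, 0, 0, 0, 0, 1]⟩,
    ⟨[(1, true), (1, true), (1, true), (1, true), (1, true), (1, true), (0, true), (1, false), (1, false), (1, false), (1, false), (1, false), (1, false), (0, true), (1, true), (0, true), (1, false), (1, false), (0, false), (1, false), (1, false), (1, false), (1, false), (0, false), (1, false), (1, false), (1, false), (1, false), (0, false), (1, false), (1, false), (0, false), (1, false), (0, false)], [], [0, 0, 0, 0, 0, 0, 0, 0, 0, 0, 0, 0, 0, 0, 0, 0, 0, 0, 0, 1]⟩,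
    ⟨[(1, true), (1, true), (1, true), (1, true), (0, true), (1, true), (1, true), (0, true), (1, false), (1, false), (1, false), (1, false), (1, false), (1, false), (0, true), (1, true), (1, true), (0, false), (1, false), (0, true), (1, false), (1, false), (0, false), (1, false), (1, false), (1, false), (1, false), (0, false), (1, false), (1, false), (1, false), (1, false), (0, false), (1, false), (1, false), (0, false), (1, false), (0, false)], [], [0, 0, 0, 0, 0, 0, 0, 0, 0, 0, 0, 0, 0, 0, 0, 0, 0, 0, 0, 0, 1]⟩,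
    ⟨[(0, true), (1, true), (0, true), (1, true), (1, true), (1, true), (0, true), (1, true), (1, true), (0, false), (1, false), (1, false), (0, false), (1, false), (0, false), (1, true), (0, true), (1, true), (1, true), (0, false), (1, false), (0, true), (1, true), (1, true), (0, true), (1, true), (1, true), (0, false), (1, false), (0, false), (1, true), (0, true), (1, true), (1, true), (0, false), (1, false), (1, false), (0, false)], [], [0, 0, 0, 0, 0, 0, 0, 0, 0, 0, 0, 0, 0, 0, 0, 0, 0, 0, 0, 0, 0, 1]⟩,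
    ⟨[(1, true), (1, true), (1, true), (1, true), (1, true), (1, true), (1, true), (1, true), (0, false), (1, false), (0, false), (1, false), (1, false), (0, false), (1, false), (0, false), (1, true), (0, true), (1, true), (1, true), (0, false), (1, false), (0, true), (1, true), (1, true), (0, true), (1, true), (1, true), (0, false), (1, true), (0, true), (1, false), (1, false), (0, false), (1, false), (0, true), (1, true), (0, true), (1, true), (1, true), (0, true), (1, true), (1, true), (0, false), (1, false), (0, false), (1, true), (0, true), (1, true), (1, true), (0, false), (1, false), (1, false), (0, false)], [], [0, 0, 0, 0, 0, 0, 0, 0, 0, 0, 0, 0, 0, 0, 0, 0, 0, 0, 0, 0, 0, 0, 1]⟩]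
  pot g := pot2.getK g
  innerSize := 960
  innerGen := 2

/-- the table with its checks -/
def level2 : CfsgLib.Sporadic.ChainLevel where
  table := table2
  gexp := [[6, 0], [5, 2]]
  perm := [0x8ddc0711bc02dbe72230729c2718048adf361d5280d8e8951f88cf37ed8a87e0a64cc24ed5779e1840d5b7aa145cd0b32d0a4cd6f4c8c782e1e648c381dcf24cc089e02805d763d234848e885fa7e5d162cef3b48a8a9f254d8676dee540877ae157a5dc865e6781e437d3a785e538d02775e87bdda544868008f7551d74cf17e08b819ce304926f62f726317062d70e357162e71e366fe3272e346ed9758d296dd9959cf86ccea17c4b52dae10c6745daa0ec6169d7a1ac3268cdb5fd1160d40674cf66d6a6d8f96e9286555e87609644be7fe264898c7de203b9888a5f06154e67d82504d26857e440d65eda629d780cc6a06c2f84d0941c2b839314bc265ad9a5a49b6d4fb2dcf56e52a2ed2457d94574958595a5645486956554587c628765ed53d842154c6bc422b84151c655141550cd36059e20c9f4f4d186de24e5384dd361642083e0d5b8c65b4c509c254ad626e1962e897495607f98d7f48c8911e7511c46c63464136ac3a2a83935d126817d2847f3550c84a105c8ca5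c4c90a82885dde405003fcfe1541c598fa661b4264b6590f4888f2748f07d9897d4883adb22cce81285e03c4677ce23841d78cde37421688da28cd844d7c4347e509804f082670ce274cc8450841829831304b8248221c736042fd90244bc585272e496594f62d4983a4b211c0e2bd4905c402ad15044385e4a60b81a364a243c7d4f8813349c5a09a3dcb4498b857094815cc2f490759fc23520741f4224ec7b1d8534844fcd027880438d42807c00c6c01478004700247200874028760186e0207a695761a4316b03f51864468626a0376c4e61744813c5a4d554148563f55814c571441e16c4e0884c6c0e71245c2c4e41140d6b54a520ac1983e0f4166a516450a8180360d4105dda41a0305d0a50642c5c105321044b56c4b0c408c4d3713407c50380fc5d4a40b4182b43c51014460122a434394b01100c8cc711d46d01c6f1e62c1ec731dc00, 0x8ddbe6fdbd70dc78b62e8d2318cc6f8ad575493b5bd784c81b8956347d2957945500154286a5ed7365d8e80dbb67960185ae0953617c32589a74e0438351727cea64d3a828df5a841444ae6e865675471a45a5d84f6e06b164675b5aa4f44b5ba1b6cd7a50cba0ed4b130462cc5b34864519416d9af68c426c8571285167dac6083f6c44d1202302dbc709c6701c472a30705c57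2e327262f8d6365455b769038618779df3790c73e0963b5ee238c055594099246291d5302f805d155a0e21dcf4a895542076e55d4848a1612f7edd5764a776df924dd757e1a2ed318653359cb92e039270aa47128750cf63d863be1e1519a41cf588602859097c8c33ec9b856238010b8a1b7585a67a4f323ccb53d9949c338a9926d56962d235642b54e2782dfa5ad5a2de136d0404550c0b8283f80e448b640210044af3a4a681902248e32d11928813571ab4f83a5d45606052155716816411c1a0e1495e57285cb2598172aca16598c880d161420314be3b9ff875f034c97319e27961f784c27f4f9230db8919547983551a54d4316454e6222609d37605258a53983e094ad227dc8309180374cc0f42c040e4830de450ac338822940d81110278e85b1a85104e244d62000f4b037050226713c5d0454b8210d41650930275e3065482c4a85a06343d1b6359b7f97f5f8d04101e4197c074d8181a40f85c6405e1883c421df6b5163687e0c0e76890d1a1b00a4e119836820eb468ad44e1128ce25dda91254a6853f5c053110502c01f4d05d370e6004020206e0146c1c87601c6d1cc771c4751ee2c851ef7a8867e0b522c98799ed780857d494220813d8f174d65771847c5eb3b1fc5f4f42f484070c97b0fa234ca741de7307f7a0c1775ce3c09a7487d625267d8cd5602d3f4a4535984802a7d0ff240d5815d840612225d635c991f0342a4a0310bc7352d888f73c8d94391835012871052fcc83f0e53800c72004018030240a1c0741e8781e400]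
  pinv := [0x8ddc0711bc02dbe72230729c2718048adf361d5280d8e8951f88cf37ed8a87e0a64cc24ed5779e1840d5b7aa145cd0b32d0a4cd6f4c8c782e1e648c381dcf24cc089e02805d763d234848e885fa7e5d162cef3b48a8a9f254d8676dee540877ae157a5dc865e6781e437d3a785e538d02775e87bdda544868008f7551d74cf17e08b819ce304926f62f726317062d70e357162e71e366fe3272e346ed9758d296dd9959cf86ccea17c4b52dae10c6745daa0ec6169d7a1ac3268cdb5fd1160d40674cf66d6a6d8f96e9286555e87609644be7fe264898c7de203b9888a5f06154e67d82504d26857e440d65eda629d780cc6a06c2f84d0941c2b839314bc265ad9a5a49b6d4fb2dcf56e52a2ed2457d94574958595a5645486956554587c628765ed53d842154c6bc422b84151c655141550cd36059e20c9f4f4d186de24e5384dd361642083e0d5b8c65b4c509c254ad626e1962e897495607f98d7f48c8911e7511c46c63464136ac3a2a83935d126817d2847f3550c84a105c8ca5c4c90a82885dde405003fcfe1541c598fa661b4264b6590f4888f2748f07d9897d4883adb22cce81285e03c4677ce23841d78cde37421688da28cd844d7c4347e509804f082670ce274cc8450841829831304b8248221c736042fd90244bc585272e496594f62d4983a4b211c0e2bd4905c402ad15044385e4a60b81a364a243c7d4f8813349c5a09a3dcb4498b857094815cc2f490759fc23520741f4224ec7b1d8534844fcd027880438d42807c00c6c01478004700247200874028760186e0207a695761a4316b03f51864468626a0376c4e61744813c5a4d554148563f55814c571441e16c4e0884c6c0e71245c2c4e41140d6b54a520ac1983e0f4166a516450a8180360d4105dda41a0305d0a50642c5c105321044b56c4b0c408c4d3713407c50380fc5d4a40b4182b43c51014460122a434394b01100c8cc711d46d01c6f1e62c1ec731dc00,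 0x8ddbc6f62f8b5c08b9c46fa308c46c8ad5b3cd67548f888d035a81b5cd1942978444137a98a61db7485715ac6b53028239403c5a081ce3546013c0936693b0acdb8557268d69448b541c5264d50638673b43917c2f6d16f155101a9ae1884b1506958c436d46342db33010c42461288461045763db96442a630266497d1643d688476784007445705c56fc0b8c9c8709c68cdc970dc78d6368d1ca851fb665f3599db5654b7a5d773c9876a10285d24c9ee228d6829643f8aa7649b21d2974e137e4cb2d9765783285d1b409aa80d5a3eca75ee162dd1a55da70ecf96d97a45c56401d13d4ea2d0b3144ae865e848e2622df54bcc9861224a88589deb7bcd753dff560bb6151f1612888a0b5961262e1f661336e94e554378a9a16acff54e296ed9b57cfa0cda579088490be7e1dd878d579cc37721d219317b4ca8a2023ca093da0e3f47f61a25620c2650c7070cf3bd9d8817e5743a3d1a8558ee65c31885016997f2e0914d816818a0524e123d437f4da2e417269485a21b5c0a35d4af048b16e13a0a5410b9450d40f5b44a419b10685b5d050588191683f5e5136bc5324a044f4d82707c038e44e08c2580d800e23a47d4109f060ac094d20b01543ddf460b25f0df0e0e858048130106c90d4541f5b908109ac0451413c1e625e6611835354219937785202f4814f9fc240e047580084bc6413c374342353547020814d9305815b03e09064439b06705e6353934c2d585ad125051959609c5d67c681804e3b0de170d11109e0f0231b403004021c0741b8041c4751bc058b0781c8767ca1a7dc997c0957e9de2e8a5844ab834a61f8a8781f67c5957592e4ad772112c750827d0d4739e37b1d5225cd49de232083821d87f94a740a939ca4795306092533894314225720c3f09d691470d8e65503025d463dda983ceb730cc31916200b02b44d891262fd2d478c4870cd4d0144fce5341443700c72c0601c791cc091dc0a0207a1ec00]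
  defs := [[(1, true), (0, true), (1, true), (1, true), (0, false), (1, false), (1, false), (0, false)], [(0, true), (1, true), (0, true), (1, true), (1, true), (0, true), (1, true), (1, true), (0, false), (1, false), (0, false)]]
  eqs := [(2, 19, [1, 0, 0, 0, 0, 0, 0, 0, 0, 0, 0, 0, 0, 0, 0, 0, (-1), 0, 0, 2]), (4, 1, [0, 0, 0, 0, 0, 0, 0, 0, 0, 0, 0, 0, 0, 0, 0, 0, 4, 0, (-2)]), (4, 24, [8, 0, 0, 6, 7, 1, (-5), (-1)]), (5, 1, [(-1), (-6), (-12), 3, (-6), (-8), 3, 0, 0, 0, 0, 0, 0, 0, 0, 0, (-1), (-1), 0, 0, (-1)]), (4, 10, [4, (-1), (-7), 11, (-3), (-1), 3, (-8), 4, 0, 0, 0, 0, 0, 0, 0, (-1), 0, 2, 0, 2, (-1), 2]), (4, 15, [2, 8, 16, 4, 7, 12, (-2), 2, 0, 0, 0, 0, 0, 0, 0, 0, 0, 0, (-1), 4]), (5, 23, [(-4), 3, 11, 12, 5, 5, (-4), 9, (-3), 0, 0, 0, 0, 0, 0, 0, 0, 0, 0, 1, (-1)]), (8, 10, [2, 3, 9, (-6), 6, 10, 5, 9, (-4), 0, 0, 0, 0, 0, 0, 0, 3, 2, (-4), 1, (-3), 1, (-4)]), (4, 4, [0, (-12), (-19), (-11), (-5), (-11), 4, 10, (-3), 0, 0, 0, 0,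 0, 0, 0, 4, 2, (-1), 4, (-2)]), (8, 17, [5, 9, 19, (-10), 13, 17, (-2), 8, (-2), 0, 0, 0, 0, 0, 0, 0, (-2), 3, 0, 2, (-1), (-1), (-2)]), (6, 20, [15, (-19), (-32), (-12), 1, (-16), 3, 6, (-3), 0, 0, 0, 0, 0, 0, 0, 0, 0, (-1), 0, (-1), 0, (-1)]), (4, 8, [10, (-15), (-12), 15, 7, (-2), 10, 7, (-2), 0, 0, 0, 0, 0, 0, 0, 15, 12, (-7), 11, (-3), (-3), (-5)]), (5, 2, [16, (-8), (-37), 34, (-6), (-22), (-11), (-10), 2, 0, 0, 0, 0, 0, 0, 0, (-15), (-12), 11, (-13), 4, 3, 8])]
  pts := [1]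

end CfsgLib.Sporadic.MultTwoCent
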