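import Mathlib
import Cfsg.Agent.Lib.Sporadic.ChainCertificate
import Cfsg.Agent.Lib.Schur.TrieFast

/-!
# Coset table 4 of a chain
-/

set_option autoImplicit false
set_option maxRecDepth 100000
set_option maxHeartbeats 0
set_option Elab.async false

noncomputable section

namespace CfsgLib.Sporadic.MultTwoCent

open CfsgLib.Schur.Cert

/-- data -/
def next4 : Trie (ℕ) := .node (.node (.node (.node (.node (.node (.node (.node (.node (.leaf 1) (.leaf 90)) (.leaf 79)) (.node (.leaf 1) (.leaf 38))) (.node (.node (.leaf 31) (.leaf 67)) (.node (.leaf 45) (.leaf 82)))) (.node (.node (.node (.node (.leaf 16) (.leaf 52)) (.leaf 22)) (.node (.leaf 61) (.leaf 91))) (.node (.node (.leaf 28) (.leaf 70)) (.node (.leaf 41) (.leaf 93))))) (.node (.node (.node (.node (.node (.leaf 9) (.leaf 30)) (.leaf 10)) (.node (.leaf 43) (.leaf 94))) (.node (.node (.leaf 37) (.leaf 16)) (.node (.leaf 71) (.leaf 78)))) (.node (.node (.node (.node (.leaf 24) (.leaf 49))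 (.leaf 87)) (.node (.leaf 38) (.leaf 27))) (.node (.node (.leaf 29) (.leaf 55)) (.node (.leaf 76) (.leaf 89)))))) (.node (.node (.node (.node (.node (.node (.leaf 5) (.leaf 63)) (.leaf 75)) (.node (.leaf 55) (.leaf 93))) (.node (.node (.leaf 20) (.leaf 16)) (.node (.leaf 35) (.leaf 25)))) (.node (.node (.node (.node (.leaf 20) (.leaf 52)) (.leaf 9)) (.node (.leaf 56) (.leaf 8))) (.node (.node (.leaf 47) (.leaf 79)) (.node (.leaf 24) (.leaf 14))))) (.node (.node (.node (.node (.node (.leaf 0) (.leaf 32)) (.leaf 60)) (.node (.leaf 39) (.leaf 94))) (.node (.node (.leaf 41) (.leaf 88)) (.node (.leaf 58) (.leaf 4)))) (.node (.node (.node (.node (.leaf 27) (.leaf 18)) (.leaf 65)) (.node (.leaf 67) (.leaf 18))) (.node (.node (.leaf 41) (.leaf 40)) (.node (.leaf 24) (.leaf 78))))))) (.node (.node (.node (.node (.node (.node (.node (.leaf 3) (.leaf 84)) (.leaf 7)) (.node (.leaf 37) (.leaf 93))) (.node (.node (.leaf 33) (.leaf 71)) (.node (.leaf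 26) (.leaf 94)))) (.node (.node (.node (.node (.leaf 18) (.leaf 76)) (.leaf 85)) (.node (.leaf 63) (.leaf 87))) (.node (.node (.leaf 45) (.leaf 6)) (.node (.leaf 74) (.leaf 36))))) (.node (.node (.node (.node (.node (.leaf 11) (.leaf 77)) (.leaf 81)) (.node (.leaf 57) (.leaf 59))) (.node (.node (.leaf 39) (.leaf 69)) (.node (.leaf 71) (.leaf 86)))) (.node (.node (.node (.node (.leaf 25) (.leaf 35)) (.leaf 72)) (.node (.leaf 55) (.leaf 43))) (.node (.node (.leaf 52) (.leaf 72)) (.node (.leaf 50) (.leaf 25)))))) (.node (.node (.node (.node (.node (.node (.leaf 7) (.leaf 81)) (.leaf 22)) (.node (.leaf 46) (.leaf 63))) (.node (.node (.leaf 35) (.leaf 89)) (.node (.leaf 69) (.leaf 74)))) (.node (.node (.node (.node (.leaf 22) (.leaf 32)) (.leaf 80)) (.node (.leaf 65) (.leaf 64))) (.node (.node (.leaf 49) (.leaf 91)) (.node (.leaf 34) (.leaf 70))))) (.node (.node (.node (.node (.node (.leaf 14) (.leaf 34)) (.leaf 84)) (.node (.leaf 59) (.leaf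 84))) (.node (.node (.leaf 43) (.leaf 13)) (.node (.leaf 72) (.leaf 66)))) (.node (.node (.node (.node (.leaf 29) (.leaf 45)) (.leaf 47)) (.node (.leaf 17) (.leaf 64))) (.node (.node (.leaf 53) (.leaf 65)) (.node (.leaf 5) (.leaf 10)))))))) (.node (.node (.node (.node (.node (.node (.node (.node (.leaf 2) (.leaf 5)) (.leaf 8)) (.node (.leaf 54) (.leaf 3))) (.node (.node (.leaf 32) (.leaf 1)) (.node (.leaf 44) (.leaf 95)))) (.node (.node (.node (.node (.leaf 17) (.leaf 77)) (.leaf 21)) (.node (.leaf 62) (.leaf 7))) (.node (.node (.leaf 20) (.leaf 9)) (.node (.leaf 73) (.leaf 92))))) (.node (.node (.node (.node (.node (.leaf 10) (.leaf 29)) (.leaf 21)) (.node (.leaf 42) (.leaf 60))) (.node (.node (.leaf 38) (.leaf 15)) (.node (.leaf 68) (.leaf 75)))) (.node (.node (.node (.node (.leaf 12) (.leaf 33)) (.leaf 73)) (.node (.leaf 66) (.leaf 26))) (.node (.node (.leaf 51) (.leaf 92)) (.node (.leaf 77) (.leaf 23)))))) (.node (.node (.node (.node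 (.node (.node (.leaf 6) (.leaf 82)) (.leaf 74)) (.node (.leaf 47) (.leaf 2))) (.node (.node (.leaf 28) (.leaf 88)) (.node (.leaf 27) (.leaf 23)))) (.node (.node (.node (.node (.leaf 21) (.leaf 51)) (.leaf 86)) (.node (.leaf 58) (.leaf 61))) (.node (.node (.leaf 48) (.leaf 80)) (.node (.leaf 31) (.leaf 88))))) (.node (.node (.node (.node (.node (.leaf 13) (.leaf 76)) (.leaf 83)) (.node (.leaf 58) (.leaf 95))) (.node (.node (.leaf 42) (.leaf 13)) (.node (.leaf 56) (.leaf 67)))) (.node (.node (.node (.node (.leaf 28) (.leaf 44)) (.leaf 53)) (.node (.leaf 14) (.leaf 42))) (.node (.node (.leaf 48) (.leaf 53)) (.node (.leaf 78) (.leaf 85))))))) (.node (.node (.node (.node (.node (.node (.node (.leaf 4) (.leaf 83)) (.leaf 80)) (.node (.leaf 36) (.leaf 92))) (.node (.node (.leaf 34) (.leaf 68)) (.node (.leaf 57) (.leaf 81)))) (.node (.node (.node (.node (.leaf 19) (.leaf 51)) (.leaf 6)) (.node (.leaf 64) (.leaf 86))) (.node (.node (.leaf 46) (.leaf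 90)) (.node (.leaf 75) (.leaf 17))))) (.node (.node (.node (.node (.node (.leaf 12) (.leaf 33)) (.leaf 82)) (.node (.leaf 40) (.leaf 95))) (.node (.node (.leaf 40) (.leaf 89)) (.node (.leaf 0) (.leaf 87)))) (.node (.node (.node (.node (.leaf 26) (.leaf 57)) (.leaf 46)) (.node (.leaf 54) (.leaf 19))) (.node (.node (.leaf 30) (.leaf 73)) (.node (.leaf 12) (.leaf 11)))))) (.node (.node (.node (.node (.node (.node (.leaf 8) (.leaf 62)) (.leaf 11)) (.node (.leaf 56) (.leaf 62))) (.node (.node (.leaf 36) (.leaf 15)) (.node (.leaf 70) (.leaf 85)))) (.node (.node (.node (.node (.leaf 23) (.leaf 50)) (.leaf 79)) (.node (.leaf 3) (.leaf 83))) (.node (.node (.leaf 50) (.leaf 54)) (.node (.leaf 49) (.leaf 69))))) (.node (.node (.node (.node (.node (.leaf 15) (.leaf 31)) (.leaf 59)) (.node (.leaf 60) (.leaf 90))) (.node (.node (.leaf 44) (.leaf 0)) (.node (.leaf 48) (.leaf 37)))) (.node (.node (.node (.node (.leaf 30) (.leaf 19)) (.leaf 66)) (.node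 (.leaf 68) (.leaf 61))) (.node (.node (.leaf 2) (.leaf 39)) (.node (.leaf 4) (.leaf 91))))))))

/-- data -/
def prev4 : Trie (ℕ) := .node (.node (.node (.node (.node (.node (.node (.node (.node (.leaf 4) (.leaf 84)) (.leaf 73)) (.node (.leaf 48) (.leaf 74))) (.node (.node (.leaf 84) (.leaf 52)) (.node (.leaf 11) (.leaf 76)))) (.node (.node (.node (.node (.leaf 1) (.leaf 59)) (.leaf 37)) (.node (.leaf 32) (.leaf 82))) (.node (.node (.leaf 56) (.leaf 25)) (.node (.leaf 13) (.leaf 50))))) (.node (.node (.node (.node (.node (.leaf 65) (.leaf 55)) (.leaf 95)) (.node (.leaf 8) (.leaf 29))) (.node (.node (.leaf 4) (.leaf 28)) (.node (.leaf 11) (.leaf 40)))) (.node (.node (.node (.node (.leaf 43) (.leaf 65)) (.leaf 40)) (.node (.leaf 88) (.leaf 62))) (.node (.node (.leaf 94) (.leaf 74)) (.node (.leaf 25) (.leaf 74)))))) (.node (.node (.node (.node (.node (.node (.leaf 21) (.leaf 49)) (.leaf 95)) (.node (.leaf 44) (.leaf 63))) (.node (.node (.leaf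 41) (.leaf 21)) (.node (.leaf 11) (.leaf 40)))) (.node (.node (.node (.node (.leaf 1) (.leaf 65)) (.leaf 93)) (.node (.leaf 16) (.leaf 58))) (.node (.node (.leaf 31) (.leaf 67)) (.node (.leaf 13) (.leaf 87))))) (.node (.node (.node (.node (.node (.leaf 1) (.leaf 55)) (.leaf 51)) (.node (.leaf 83) (.leaf 35))) (.node (.node (.leaf 4) (.leaf 94)) (.node (.leaf 13) (.leaf 41)))) (.node (.node (.node (.node (.leaf 49) (.leaf 66)) (.leaf 92)) (.node (.leaf 19) (.leaf 62))) (.node (.node (.leaf 12) (.leaf 87)) (.node (.leaf 37) (.leaf 86))))))) (.node (.node (.node (.node (.node (.node (.node (.leaf 35) (.leaf 78)) (.leaf 15)) (.node (.leaf 48) (.leaf 27))) (.node (.node (.leaf 3) (.leaf 61)) (.node (.leaf 92) (.leaf 38)))) (.node (.node (.node (.node (.leaf 49) (.leaf 69)) (.leaf 17)) (.node (.leaf 9) (.leaf 82))) (.node (.node (.leaf 54) (.leaf 67)) (.node (.leaf 64) (.leaf 43))))) (.node (.node (.node (.node (.node (.leaf 64) (.leaf 81)) (.leaf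 17)) (.node (.leaf 38) (.leaf 53))) (.node (.node (.leaf 31) (.leaf 23)) (.node (.leaf 33) (.leaf 84)))) (.node (.node (.node (.node (.leaf 70) (.leaf 68)) (.leaf 92)) (.node (.leaf 88) (.leaf 36))) (.node (.node (.leaf 6) (.leaf 27)) (.node (.leaf 62) (.leaf 86)))))) (.node (.node (.node (.node (.node (.node (.leaf 21) (.leaf 78)) (.leaf 15)) (.node (.leaf 76) (.leaf 53))) (.node (.node (.leaf 3) (.leaf 61)) (.node (.leaf 90) (.leaf 89)))) (.node (.node (.node (.node (.leaf 43) (.leaf 61)) (.leaf 93)) (.node (.leaf 9) (.leaf 35))) (.node (.node (.leaf 6) (.leaf 46)) (.node (.leaf 25) (.leaf 87))))) (.node (.node (.node (.node (.node (.leaf 78) (.leaf 69)) (.leaf 17)) (.node (.leaf 9) (.leaf 31))) (.node (.node (.leaf 56) (.leaf 36)) (.node (.leaf 80) (.leaf 50)))) (.node (.node (.node (.node (.leaf 3) (.leaf 68)) (.leaf 90)) (.node (.leaf 90) (.leaf 38))) (.node (.node (.leaf 6) (.leaf 27)) (.node (.leaf 15) (.leaf 68)))))))) (.node (.node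 (.node (.node (.node (.node (.node (.node (.leaf 58) (.leaf 48)) (.leaf 24)) (.node (.leaf 45) (.leaf 71))) (.node (.node (.leaf 45) (.leaf 20)) (.node (.leaf 89) (.leaf 44)))) (.node (.node (.node (.node (.leaf 85) (.leaf 85)) (.leaf 20)) (.node (.leaf 72) (.leaf 56))) (.node (.node (.leaf 5) (.leaf 26)) (.node (.leaf 79) (.leaf 60))))) (.node (.node (.node (.node (.node (.leaf 29) (.leaf 57)) (.leaf 16)) (.node (.leaf 41) (.leaf 79))) (.node (.node (.leaf 57) (.leaf 36)) (.node (.leaf 94) (.leaf 88)))) (.node (.node (.node (.node (.leaf 2) (.leaf 64)) (.leaf 19)) (.node (.leaf 18) (.leaf 51))) (.node (.node (.leaf 73) (.leaf 26)) (.node (.leaf 14) (.leaf 47)))))) (.node (.node (.node (.node (.node (.node (.leaf 53) (.leaf 70)) (.leaf 32)) (.node (.leaf 83) (.leaf 28))) (.node (.node (.leaf 8) (.leaf 30)) (.node (.leaf 93) (.leaf 91)))) (.node (.node (.node (.node (.leaf 2) (.leaf 80)) (.leaf 39)) (.node (.leaf 12) (.leaf 54))) (.node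 (.node (.leaf 5) (.leaf 26)) (.node (.leaf 14) (.leaf 75))))) (.node (.node (.node (.node (.node (.leaf 42) (.leaf 82)) (.leaf 23)) (.node (.leaf 8) (.leaf 54))) (.node (.node (.leaf 5) (.leaf 24)) (.node (.leaf 22) (.leaf 60)))) (.node (.node (.node (.node (.leaf 2) (.leaf 75)) (.leaf 19)) (.node (.leaf 39) (.leaf 37))) (.node (.node (.leaf 16) (.leaf 66)) (.node (.leaf 14) (.leaf 47))))))) (.node (.node (.node (.node (.node (.node (.node (.leaf 0) (.leaf 70)) (.leaf 72)) (.node (.leaf 7) (.leaf 52))) (.node (.node (.leaf 83) (.leaf 30)) (.node (.leaf 89) (.leaf 77)))) (.node (.node (.node (.node (.leaf 59) (.leaf 60)) (.leaf 18)) (.node (.leaf 33) (.leaf 34))) (.node (.node (.leaf 81) (.leaf 47)) (.node (.leaf 29) (.leaf 46))))) (.node (.node (.node (.node (.node (.leaf 0) (.leaf 57)) (.leaf 23)) (.node (.leaf 76) (.leaf 30))) (.node (.node (.leaf 81) (.leaf 33)) (.node (.leaf 12) (.leaf 77)))) (.node (.node (.node (.node (.leaf 59) (.leaf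 75)) (.leaf 91)) (.node (.leaf 10) (.leaf 51))) (.node (.node (.leaf 95) (.leaf 66)) (.node (.leaf 20) (.leaf 71)))))) (.node (.node (.node (.node (.node (.node (.leaf 0) (.leaf 50)) (.leaf 32)) (.node (.leaf 7) (.leaf 79))) (.node (.node (.leaf 58) (.leaf 22)) (.node (.leaf 39) (.leaf 91)))) (.node (.node (.node (.node (.leaf 69) (.leaf 80)) (.leaf 18)) (.node (.leaf 10) (.leaf 34))) (.node (.node (.leaf 73) (.leaf 71)) (.node (.leaf 63) (.leaf 46))))) (.node (.node (.node (.node (.node (.leaf 42) (.leaf 85)) (.leaf 52)) (.node (.leaf 72) (.leaf 34))) (.node (.node (.leaf 55) (.leaf 28)) (.node (.leaf 22) (.leaf 42)))) (.node (.node (.node (.node (.leaf 45) (.leaf 67)) (.leaf 63)) (.node (.leaf 10) (.leaf 44))) (.node (.node (.leaf 7) (.leaf 86)) (.node (.leaf 24) (.leaf 77))))))))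

/-- data -/
def lab4 : Trie (Word) := .node (.node (.node (.node (.node (.node (.node (.node (.node (.leaf ([])) (.leaf ([]))) (.leaf ([]))) (.node (.leaf ([])) (.leaf ([])))) (.node (.node (.leaf ([])) (.leaf ([]))) (.node (.leaf ([])) (.leaf ([]))))) (.node (.node (.node (.node (.leaf ([])) (.leaf ([]))) (.leaf ([]))) (.node (.leaf ([])) (.leaf ([])))) (.node (.node (.leaf ([])) (.leaf ([]))) (.node (.leaf ([])) (.leaf ([])))))) (.node (.node (.node (.node (.node (.leaf ([])) (.leaf ([]))) (.leaf ([]))) (.node (.leaf ([])) (.leaf ([])))) (.node (.node (.leaf ([])) (.leaf ([]))) (.node (.leaf ([])) (.leaf ([]))))) (.node (.node (.node (.node (.leaf ([])) (.leaf ([]))) (.leaf ([]))) (.node (.leaf ([])) (.leaf ([])))) (.node (.node (.leaf ([])) (.leaf ([]))) (.node (.leaf ([])) (.leaf ([]))))))) (.node (.node (.node (.node (.node (.node (.leaf ([])) (.leaf ([]))) (.leaf ([]))) (.node (.leaf ([])) (.leaf ([])))) (.node (.node (.leaf ([]))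 (.leaf ([]))) (.node (.leaf ([])) (.leaf ([]))))) (.node (.node (.node (.node (.leaf ([])) (.leaf ([]))) (.leaf ([]))) (.node (.leaf ([])) (.leaf ([])))) (.node (.node (.leaf ([])) (.leaf ([]))) (.node (.leaf ([])) (.leaf ([])))))) (.node (.node (.node (.node (.node (.leaf ([])) (.leaf ([]))) (.leaf ([]))) (.node (.leaf ([])) (.leaf ([])))) (.node (.node (.leaf ([])) (.leaf ([]))) (.node (.leaf ([])) (.leaf ([]))))) (.node (.node (.node (.node (.leaf ([])) (.leaf ([]))) (.leaf ([]))) (.node (.leaf ([])) (.leaf ([])))) (.node (.node (.leaf ([])) (.leaf ([]))) (.node (.leaf ([])) (.leaf ([])))))))) (.node (.node (.node (.node (.node (.node (.node (.leaf ([])) (.leaf ([]))) (.leaf ([]))) (.node (.leaf ([])) (.leaf ([])))) (.node (.node (.leaf ([])) (.leaf ([]))) (.node (.leaf ([])) (.leaf ([]))))) (.node (.node (.node (.node (.leaf ([])) (.leaf ([]))) (.leaf ([]))) (.node (.leaf ([])) (.leaf ([])))) (.node (.node (.leaf ([])) (.leaf ([])))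 (.node (.leaf ([])) (.leaf ([])))))) (.node (.node (.node (.node (.node (.leaf ([])) (.leaf ([]))) (.leaf ([]))) (.node (.leaf ([])) (.leaf ([])))) (.node (.node (.leaf ([])) (.leaf ([]))) (.node (.leaf ([])) (.leaf ([]))))) (.node (.node (.node (.node (.leaf ([])) (.leaf ([]))) (.leaf ([]))) (.node (.leaf ([])) (.leaf ([])))) (.node (.node (.leaf ([])) (.leaf ([]))) (.node (.leaf ([])) (.leaf ([]))))))) (.node (.node (.node (.node (.node (.node (.leaf ([])) (.leaf ([]))) (.leaf ([]))) (.node (.leaf ([])) (.leaf ([])))) (.node (.node (.leaf ([])) (.leaf ([]))) (.node (.leaf ([])) (.leaf ([]))))) (.node (.node (.node (.node (.leaf ([])) (.leaf ([]))) (.leaf ([]))) (.node (.leaf ([])) (.leaf ([])))) (.node (.node (.leaf ([])) (.leaf ([]))) (.node (.leaf ([])) (.leaf ([])))))) (.node (.node (.node (.node (.node (.leaf ([])) (.leaf ([]))) (.leaf ([]))) (.node (.leaf ([])) (.leaf ([])))) (.node (.node (.leaf ([])) (.leaf ([]))) (.node (.leaf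 ([])) (.leaf ([]))))) (.node (.node (.node (.node (.leaf ([])) (.leaf ([]))) (.leaf ([]))) (.node (.leaf ([])) (.leaf ([])))) (.node (.node (.leaf ([])) (.leaf ([]))) (.node (.leaf ([])) (.leaf ([]))))))))) (.node (.node (.node (.node (.node (.node (.node (.node (.leaf ([])) (.leaf ([]))) (.leaf ([]))) (.node (.leaf ([])) (.leaf ([])))) (.node (.node (.leaf ([])) (.leaf ([]))) (.node (.leaf ([])) (.leaf ([]))))) (.node (.node (.node (.node (.leaf ([])) (.leaf ([]))) (.leaf ([]))) (.node (.leaf ([])) (.leaf ([])))) (.node (.node (.leaf ([])) (.leaf ([]))) (.node (.leaf ([])) (.leaf ([])))))) (.node (.node (.node (.node (.node (.leaf ([])) (.leaf ([]))) (.leaf ([]))) (.node (.leaf ([])) (.leaf ([])))) (.node (.node (.leaf ([])) (.leaf ([]))) (.node (.leaf ([])) (.leaf ([]))))) (.node (.node (.node (.node (.leaf ([])) (.leaf ([]))) (.leaf ([]))) (.node (.leaf ([])) (.leaf ([])))) (.node (.node (.leaf ([])) (.leaf ([]))) (.node (.leaf ([]))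 (.leaf ([]))))))) (.node (.node (.node (.node (.node (.node (.leaf ([])) (.leaf ([]))) (.leaf ([]))) (.node (.leaf ([])) (.leaf ([])))) (.node (.node (.leaf ([])) (.leaf ([]))) (.node (.leaf ([])) (.leaf ([]))))) (.node (.node (.node (.node (.leaf ([])) (.leaf ([]))) (.leaf ([]))) (.node (.leaf ([])) (.leaf ([])))) (.node (.node (.leaf ([])) (.leaf ([]))) (.node (.leaf ([])) (.leaf ([])))))) (.node (.node (.node (.node (.node (.leaf ([])) (.leaf ([]))) (.leaf ([]))) (.node (.leaf ([])) (.leaf ([])))) (.node (.node (.leaf ([])) (.leaf ([]))) (.node (.leaf ([])) (.leaf ([]))))) (.node (.node (.node (.node (.leaf ([])) (.leaf ([]))) (.leaf ([]))) (.node (.leaf ([])) (.leaf ([])))) (.node (.node (.leaf ([])) (.leaf ([]))) (.node (.leaf ([])) (.leaf ([])))))))) (.node (.node (.node (.node (.node (.node (.node (.leaf ([])) (.leaf ([]))) (.leaf ([]))) (.node (.leaf ([])) (.leaf ([])))) (.node (.node (.leaf ([])) (.leaf ([]))) (.node (.leaf ([]))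 (.leaf ([]))))) (.node (.node (.node (.node (.leaf ([])) (.leaf ([]))) (.leaf ([]))) (.node (.leaf ([])) (.leaf ([])))) (.node (.node (.leaf ([])) (.leaf ([]))) (.node (.leaf ([])) (.leaf ([])))))) (.node (.node (.node (.node (.node (.leaf ([])) (.leaf ([]))) (.leaf ([]))) (.node (.leaf ([])) (.leaf ([])))) (.node (.node (.leaf ([])) (.leaf ([]))) (.node (.leaf ([])) (.leaf ([]))))) (.node (.node (.node (.node (.leaf ([])) (.leaf ([]))) (.leaf ([]))) (.node (.leaf ([])) (.leaf ([])))) (.node (.node (.leaf ([])) (.leaf ([]))) (.node (.leaf ([])) (.leaf ([]))))))) (.node (.node (.node (.node (.node (.node (.leaf ([])) (.leaf ([]))) (.leaf ([]))) (.node (.leaf ([])) (.leaf ([])))) (.node (.node (.leaf ([])) (.leaf ([]))) (.node (.leaf ([])) (.leaf ([]))))) (.node (.node (.node (.node (.leaf ([])) (.leaf ([]))) (.leaf ([]))) (.node (.leaf ([])) (.leaf ([])))) (.node (.node (.leaf ([])) (.leaf ([]))) (.node (.leaf ([])) (.leaf ([])))))) (.node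 (.node (.node (.node (.node (.leaf ([])) (.leaf ([]))) (.leaf ([]))) (.node (.leaf ([])) (.leaf ([])))) (.node (.node (.leaf ([])) (.leaf ([]))) (.node (.leaf ([])) (.leaf ([]))))) (.node (.node (.node (.node (.leaf ([])) (.leaf ([]))) (.leaf ([]))) (.node (.leaf ([])) (.leaf ([])))) (.node (.node (.leaf ([])) (.leaf ([]))) (.node (.leaf ([])) (.leaf ([])))))))))

/-- data -/
def val4 : Trie (Vec) := .node (.node (.node (.node (.node (.node (.node (.node (.node (.leaf ([])) (.leaf ([(-3), 0, 1, 0, (-1), (-1)]))) (.leaf ([]))) (.node (.leaf ([1, 0, 0, 0, 1])) (.leaf ([(-3), 0, 1, 2, (-1), (-1)])))) (.node (.node (.leaf ([])) (.leaf ([(-1), 0, 1, (-1)]))) (.node (.leaf ([2, 0, 0, 0, 1, 1])) (.leaf ([1, (-4), (-7), (-1), (-2), (-5)]))))) (.node (.node (.node (.node (.leaf ([])) (.leaf ([1, (-1), 0, (-1), 1]))) (.leaf ([(-3), (-1), 0, 4, (-2), (-2)]))) (.node (.leaf ([])) (.leaf ([(-1), 1, 2, (-3), 0, 1])))) (.node (.node (.leaf ([0, 1, 0,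 0, (-1)])) (.leaf ([0, (-1), (-1), 1, 0, (-1)]))) (.node (.leaf ([0, 1])) (.leaf ([4, 3, 4, 0, 3, 5])))))) (.node (.node (.node (.node (.node (.leaf ([])) (.leaf ([3, 0, 0, 1, 2, 1]))) (.leaf ([(-1), 0, 0, 0, 0, (-1)]))) (.node (.leaf ([(-2), (-2), (-4), (-2), (-3), (-4)])) (.leaf ([])))) (.node (.node (.leaf ([])) (.leaf ([1, (-1), 0, 0, 1]))) (.node (.leaf ([])) (.leaf ([0, 1]))))) (.node (.node (.node (.node (.leaf ([])) (.leaf ([(-3), (-1), 0, 1, 0, (-2)]))) (.leaf ([]))) (.node (.leaf ([0, 0, 0, 1])) (.leaf ([3, 0, 0, 0, 1, 1])))) (.node (.node (.leaf ([(-1), 0, 1])) (.leaf ([(-1), 0, 1, (-1)]))) (.node (.leaf ([])) (.leaf ([4, 1, 3, 1, 4, 4]))))))) (.node (.node (.node (.node (.node (.node (.leaf ([])) (.leaf ([1, (-1), 0, (-1)]))) (.leaf ([0, 2, 4, 0, 1, 3]))) (.node (.leaf ([])) (.leaf ([])))) (.node (.node (.leaf ([])) (.leaf ([1, (-1), 0, 0, 1]))) (.node (.leaf ([0, 1])) (.leaf ([3, 0, 0, 0, 1, 1]))))) (.node (.node (.node (.node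 (.leaf ([])) (.leaf ([1, (-1), 0, 1, 1]))) (.leaf ([1, 0, 0, 1]))) (.node (.leaf ([])) (.leaf ([(-2), (-1), 1, (-1), 0, (-1)])))) (.node (.node (.leaf ([])) (.leaf ([2, 0, 0, 1, 2, 1]))) (.node (.leaf ([1, (-1), 0, 0, 1])) (.leaf ([1, 0, 0, 1, 1])))))) (.node (.node (.node (.node (.node (.leaf ([1])) (.leaf ([1, (-2), (-4), 7, 0, (-3)]))) (.leaf ([(-3), 0, 1, 1, (-2), (-1)]))) (.node (.leaf ([(-2), 0, 0, 0, 0, (-1)])) (.leaf ([])))) (.node (.node (.leaf ([])) (.leaf ([(-6), 0, 0, 6, (-4), (-3)]))) (.node (.leaf ([4, 1, 0, 0, 1, 2])) (.leaf ([(-2), (-2), 0, 0, 0, (-2)]))))) (.node (.node (.node (.node (.leaf ([])) (.leaf ([(-3), 0, 3]))) (.leaf ([0, 1, 0, (-1), (-1)]))) (.node (.leaf ([])) (.leaf ([(-3), 2, 4, 0, 0, 1])))) (.node (.node (.leaf ([])) (.leaf ([(-2), (-1), (-1), 2, (-1), (-2)]))) (.node (.leaf ([1, (-1), 0, 0, 1])) (.leaf ([0, 1, 0, 1])))))))) (.node (.node (.node (.node (.node (.node (.node (.leaf ([])) (.leaf ([2, (-1), (-1),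 (-1)]))) (.leaf ([1, 4, 8, 2, 4, 6]))) (.node (.leaf ([4, 0, 0, (-4), 3, 2])) (.leaf ([])))) (.node (.node (.leaf ([])) (.leaf ([2, 1, 0, 0, 0, 1]))) (.node (.leaf ([0, (-1), (-1), 0, 0, (-1)])) (.leaf ([0, 1, 0, (-1)]))))) (.node (.node (.node (.node (.leaf ([])) (.leaf ([(-6), 1, 3, 12, (-2), (-1)]))) (.leaf ([]))) (.node (.leaf ([])) (.leaf ([(-3), 1, 2, (-2), (-1)])))) (.node (.node (.leaf ([])) (.leaf ([1, 0, 0, 1, 1]))) (.node (.leaf ([])) (.leaf ([9, (-1), 0, 2, 8, 4])))))) (.node (.node (.node (.node (.node (.leaf ([])) (.leaf ([3, 0, 1, 3, 3, 2]))) (.leaf ([]))) (.node (.leaf ([])) (.leaf ([(-2), (-1), (-1), 2, (-1), (-2)])))) (.node (.node (.leaf ([])) (.leaf ([0, (-1), (-1), 2, 0, (-1)]))) (.node (.leaf ([])) (.leaf ([(-1), 0, 1]))))) (.node (.node (.node (.node (.leaf ([])) (.leaf ([1]))) (.leaf ([(-6), 0, 0, 1, (-4), (-3)]))) (.node (.leaf ([(-2), 0, 0, (-1), (-2), (-1)])) (.leaf ([(-1), (-3), (-4), 0, (-2), (-4)])))) (.node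 (.node (.leaf ([])) (.leaf ([(-2), 0, 0, 0, (-1), (-1)]))) (.node (.leaf ([(-1), 0, 1, (-1)])) (.leaf ([(-1), 0, 0, 1, (-1), (-1)]))))))) (.node (.node (.node (.node (.node (.node (.leaf ([])) (.leaf ([(-2), (-1), (-1), 0, (-1), (-2)]))) (.leaf ([(-3), (-1), 0, 0, (-2), (-2)]))) (.node (.leaf ([2, 0, 0, (-6), 2, 1])) (.leaf ([2, (-1), (-1), (-1)])))) (.node (.node (.leaf ([])) (.leaf ([]))) (.node (.leaf ([])) (.leaf ([(-4), 3, 7, 0, 0, 3]))))) (.node (.node (.node (.node (.leaf ([])) (.leaf ([0, (-3), (-3), 4, 0, (-3)]))) (.leaf ([2, (-4), (-8), (-1), (-2), (-5)]))) (.node (.leaf ([])) (.leaf ([0, (-1), (-1), (-1), 0, (-1)])))) (.node (.node (.leaf ([])) (.leaf ([]))) (.node (.leaf ([2, 0, (-1), 1])) (.leaf ([2, 4, 7, 2, 3, 6])))))) (.node (.node (.node (.node (.node (.leaf ([])) (.leaf ([2, (-1), (-2), 0, 0, (-1)]))) (.leaf ([]))) (.node (.leaf ([])) (.leaf ([(-1), (-1), 1, (-1)])))) (.node (.node (.leaf ([])) (.leaf ([(-3), (-1), 0,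 0, (-1), (-2)]))) (.node (.leaf ([])) (.leaf ([1, 1, 1, 0, 1, 1]))))) (.node (.node (.node (.node (.leaf ([])) (.leaf ([(-1), (-1), 0, 2, 0, (-1)]))) (.leaf ([0, (-1), (-1), 1, 0, (-1)]))) (.node (.leaf ([(-1), 0, 1, 1])) (.leaf ([6, (-2), (-5), (-2), 1, (-1)])))) (.node (.node (.leaf ([])) (.leaf ([0, 1]))) (.node (.leaf ([1])) (.leaf ([(-3), 1, 3, 1]))))))))) (.node (.node (.node (.node (.node (.node (.node (.node (.leaf ([])) (.leaf ([(-2), (-2), 0, 2, 0, (-2)]))) (.leaf ([3, 2, 4, 2, 3, 4]))) (.node (.leaf ([])) (.leaf ([(-2), 0, 1, 1, 0, (-1)])))) (.node (.node (.leaf ([])) (.leaf ([(-2), (-2), 0, 0, 0, (-2)]))) (.node (.leaf ([0, 2, 4, (-5), 2, 3])) (.leaf ([0, 1, 0, (-3), (-1)]))))) (.node (.node (.node (.node (.leaf ([])) (.leaf ([4, (-1), (-1), (-4), 3, 1]))) (.leaf ([(-3), (-1), 0, 0, (-1), (-2)]))) (.node (.leaf ([])) (.leaf ([(-2), (-1), 1, 2, 0, (-1)])))) (.node (.node (.leaf ([0, 1])) (.leaf ([1]))) (.node (.leaf ([])) (.leaf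 ([4, 3, 4, 0, 4, 5])))))) (.node (.node (.node (.node (.node (.leaf ([])) (.leaf ([3, 0, 0, (-5), 3, 1]))) (.leaf ([(-3), (-1), 0, 0, (-1), (-2)]))) (.node (.leaf ([(-2), (-2), (-4), 0, (-2), (-4)])) (.leaf ([(-2), (-1), (-1), 6, (-2), (-2)])))) (.node (.node (.leaf ([])) (.leaf ([1, (-1), 0, 0, 2]))) (.node (.leaf ([])) (.leaf ([(-2), 1, 3, 1, 0, 1]))))) (.node (.node (.node (.node (.leaf ([0, 1])) (.leaf ([(-2), (-1), 1, 3, 0, (-1)]))) (.leaf ([2, 0, 0, 0, 1, 1]))) (.node (.leaf ([])) (.leaf ([3, 0, 0, 2, 2, 1])))) (.node (.node (.leaf ([])) (.leaf ([]))) (.node (.leaf ([])) (.leaf ([(-1), 0, 0, 0, (-1), (-1)]))))))) (.node (.node (.node (.node (.node (.node (.leaf ([])) (.leaf ([0, (-3), (-5), 0, (-2), (-4)]))) (.leaf ([(-6), 0, 0, 0, (-4), (-3)]))) (.node (.leaf ([0, 2, 4, 2, 1, 3])) (.leaf ([0, (-4), (-4), 2, 0, (-4)])))) (.node (.node (.leaf ([])) (.leaf ([]))) (.node (.leaf ([0, (-1), (-1), (-1), 0, (-1)])) (.leaf ([3, 0, 0, 1, 2,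 1]))))) (.node (.node (.node (.node (.leaf ([])) (.leaf ([1, (-1), 0, (-1), 2]))) (.leaf ([]))) (.node (.leaf ([])) (.leaf ([0, (-1), (-1), (-2), 0, (-1)])))) (.node (.node (.leaf ([])) (.leaf ([4, (-2), (-4), 0, 2, (-1)]))) (.node (.leaf ([2, 0, (-1)])) (.leaf ([(-4), 1, 3, 4, (-2)])))))) (.node (.node (.node (.node (.node (.leaf ([])) (.leaf ([(-13), 0, 1, 10, (-8), (-6)]))) (.leaf ([]))) (.node (.leaf ([])) (.leaf ([0, 0, 0, (-2)])))) (.node (.node (.leaf ([])) (.leaf ([(-3), (-1), 0, 2, (-1), (-2)]))) (.node (.leaf ([4, 1, 0, 0, 2, 2])) (.leaf ([1, 1, 1, (-1), 0, 1]))))) (.node (.node (.node (.node (.leaf ([])) (.leaf ([(-1), (-1), 0, 1, 0, (-1)]))) (.leaf ([0, 1]))) (.node (.leaf ([(-1), 0, 1])) (.leaf ([(-3), (-1), 0, 0, (-1), (-2)])))) (.node (.node (.leaf ([])) (.leaf ([0, 1, 0, 1]))) (.node (.leaf ([])) (.leaf ([0, 1])))))))) (.node (.node (.node (.node (.node (.node (.node (.leaf ([])) (.leaf ([2, (-1), (-1), (-1), 1]))) (.leaf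 ([]))) (.node (.leaf ([4, 0, 0, 0, 4, 2])) (.leaf ([])))) (.node (.node (.leaf ([])) (.leaf ([2, 1, 0, 0, 1, 1]))) (.node (.leaf ([0, 0, 0, (-1)])) (.leaf ([(-1), (-2), (-3), 0, (-1), (-3)]))))) (.node (.node (.node (.node (.leaf ([])) (.leaf ([1, (-1), 0, 3, 2]))) (.leaf ([1]))) (.node (.leaf ([])) (.leaf ([(-3), 1, 2, (-1)])))) (.node (.node (.leaf ([])) (.leaf ([]))) (.node (.leaf ([])) (.leaf ([1])))))) (.node (.node (.node (.node (.node (.leaf ([])) (.leaf ([(-1), 0, 0, 1, (-1), (-1)]))) (.leaf ([]))) (.node (.leaf ([(-2), 0, 0, 0, (-1), (-1)])) (.leaf ([])))) (.node (.node (.leaf ([])) (.leaf ([2, 0, 0, 0, 1, 1]))) (.node (.leaf ([(-4), 0, 4])) (.leaf ([(-1), 0, 1, (-1)]))))) (.node (.node (.node (.node (.leaf ([])) (.leaf ([1, (-1), 0, (-1), 1]))) (.leaf ([0, (-1), (-1), 0, 0, (-1)]))) (.node (.leaf ([(-2), 0, 0, 0, (-1), (-1)])) (.leaf ([(-1), 0, 0, 0, (-1), (-1)])))) (.node (.node (.leaf ([(-1), 0, 1, (-1)])) (.leaf ([(-2), 0,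 0, 1, (-1), (-1)]))) (.node (.leaf ([1])) (.leaf ([(-1), (-1), (-1), 2, (-1), (-2)]))))))) (.node (.node (.node (.node (.node (.node (.leaf ([])) (.leaf ([1, (-1), 0, 1, 1]))) (.leaf ([(-1), 0, 0, 0, (-1), (-1)]))) (.node (.leaf ([])) (.leaf ([2, (-1), (-1), (-1), 1])))) (.node (.node (.leaf ([])) (.leaf ([1, (-1), 0, 2, 2]))) (.node (.leaf ([])) (.leaf ([0, 1, 0, (-1), (-1)]))))) (.node (.node (.node (.node (.leaf ([])) (.leaf ([(-5), 1, 4, 1, (-1)]))) (.leaf ([(-2), 0, 0, 0, (-1), (-1)]))) (.node (.leaf ([1])) (.leaf ([(-1), (-1), 1, 0, 1])))) (.node (.node (.leaf ([])) (.leaf ([(-1), 0, 1]))) (.node (.leaf ([(-1), 0, 1])) (.leaf ([(-2), 0, (-1), 2, (-2), (-2)])))))) (.node (.node (.node (.node (.node (.leaf ([])) (.leaf ([2, (-1), (-2), (-1), 1, (-1)]))) (.leaf ([(-1), (-2), (-3), (-2), (-1), (-3)]))) (.node (.leaf ([])) (.leaf ([(-1), 1, 2, 0, 0, 1])))) (.node (.node (.leaf ([])) (.leaf ([(-4), 1, 4]))) (.node (.leaf ([0, 1, 0, 0, (-1)]))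 (.leaf ([1, (-1), 0, 0, 1]))))) (.node (.node (.node (.node (.leaf ([])) (.leaf ([(-1), (-2), (-1), 3, 0, (-2)]))) (.leaf ([(-1), 0, 1]))) (.node (.leaf ([])) (.leaf ([6, (-2), (-5), (-1), 2, (-1)])))) (.node (.node (.leaf ([1])) (.leaf ([(-2), (-1), (-1), 1, 0, (-2)]))) (.node (.leaf ([1, 0, 0, 0, 1])) (.leaf ([(-1), (-2), (-3), (-9), (-2), (-3)])))))))))

/-- data -/
def rank4 : Trie (ℕ) := .node (.node (.node (.node (.node (.node (.node (.node (.node (.leaf 0) (.leaf 126)) (.leaf 0)) (.node (.leaf 48) (.leaf 117))) (.node (.node (.leaf 0) (.leaf 29)) (.node (.leaf 130) (.leaf 161)))) (.node (.node (.node (.node (.leaf 0) (.leaf 56)) (.leaf 162)) (.node (.leaf 0) (.leaf 149))) (.node (.node (.leaf 38) (.leaf 81)) (.node (.leaf 12) (.leaf 168))))) (.node (.node (.node (.node (.node (.leaf 0) (.leaf 189)) (.leaf 114)) (.node (.leaf 172) (.leaf 0))) (.node (.node (.leaf 0) (.leaf 138)) (.node (.leaf 0) (.leaf 18)))) (.node (.node (.node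 (.node (.leaf 0) (.leaf 109)) (.leaf 0)) (.node (.leaf 57) (.leaf 125))) (.node (.node (.leaf 21) (.leaf 148)) (.node (.leaf 0) (.leaf 186)))))) (.node (.node (.node (.node (.node (.node (.leaf 0) (.leaf 30)) (.leaf 147)) (.node (.leaf 0) (.leaf 20))) (.node (.node (.leaf 24) (.leaf 37)) (.node (.leaf 11) (.leaf 137)))) (.node (.node (.node (.node (.leaf 0) (.leaf 76)) (.leaf 34)) (.node (.leaf 141) (.leaf 85))) (.node (.node (.leaf 0) (.leaf 170)) (.node (.leaf 46) (.leaf 62))))) (.node (.node (.node (.node (.node (.leaf 1) (.leaf 184)) (.leaf 158)) (.node (.leaf 72) (.leaf 75))) (.node (.node (.leaf 0) (.leaf 191)) (.node (.leaf 140) (.leaf 92)))) (.node (.node (.node (.node (.leaf 0) (.leaf 90)) (.leaf 42)) (.node (.leaf 0) (.leaf 118))) (.node (.node (.leaf 25) (.leaf 102)) (.node (.leaf 36) (.leaf 54))))))) (.node (.node (.node (.node (.node (.node (.node (.leaf 0) (.leaf 78)) (.leaf 182)) (.node (.leaf 171) (.leaf 0))) (.node (.node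 (.leaf 0) (.leaf 116)) (.node (.leaf 95) (.leaf 82)))) (.node (.node (.node (.node (.leaf 0) (.leaf 174)) (.leaf 0)) (.node (.leaf 0) (.leaf 98))) (.node (.node (.leaf 0) (.leaf 60)) (.node (.leaf 0) (.leaf 180))))) (.node (.node (.node (.node (.node (.leaf 0) (.leaf 181)) (.leaf 0)) (.node (.leaf 0) (.leaf 124))) (.node (.node (.leaf 0) (.leaf 145)) (.node (.leaf 17) (.leaf 28)))) (.node (.node (.node (.node (.leaf 0) (.leaf 51)) (.leaf 169)) (.node (.leaf 159) (.leaf 156))) (.node (.node (.leaf 0) (.leaf 135)) (.node (.leaf 49) (.leaf 71)))))) (.node (.node (.node (.node (.node (.node (.leaf 0) (.leaf 142)) (.leaf 154)) (.node (.leaf 153) (.leaf 77))) (.node (.node (.leaf 0) (.leaf 0)) (.node (.leaf 0) (.leaf 144)))) (.node (.node (.node (.node (.leaf 0) (.leaf 93)) (.leaf 190)) (.node (.leaf 0) (.leaf 74))) (.node (.node (.leaf 0) (.leaf 0)) (.node (.leaf 58) (.leaf 175))))) (.node (.node (.node (.node (.node (.leaf 0) (.leaf 121)) (.leaf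 0)) (.node (.leaf 0) (.leaf 32))) (.node (.node (.leaf 0) (.leaf 113)) (.node (.leaf 0) (.leaf 80)))) (.node (.node (.node (.node (.leaf 0) (.leaf 73)) (.leaf 88)) (.node (.leaf 33) (.leaf 136))) (.node (.node (.leaf 0) (.leaf 16)) (.node (.leaf 4) (.leaf 89)))))))) (.node (.node (.node (.node (.node (.node (.node (.node (.leaf 0) (.leaf 107)) (.leaf 177)) (.node (.leaf 0) (.leaf 111))) (.node (.node (.leaf 0) (.leaf 91)) (.node (.leaf 150) (.leaf 119)))) (.node (.node (.node (.node (.leaf 0) (.leaf 183)) (.leaf 129)) (.node (.leaf 0) (.leaf 131))) (.node (.node (.leaf 9) (.leaf 6)) (.node (.leaf 0) (.leaf 163))))) (.node (.node (.node (.node (.node (.leaf 0) (.leaf 179)) (.leaf 101)) (.node (.leaf 132) (.leaf 164))) (.node (.node (.leaf 0) (.leaf 63)) (.node (.leaf 53) (.leaf 139)))) (.node (.node (.node (.node (.leaf 8) (.leaf 123)) (.leaf 133)) (.node (.leaf 0) (.leaf 165))) (.node (.node (.leaf 0) (.leaf 0)) (.node (.leaf 0) (.leaf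 106)))))) (.node (.node (.node (.node (.node (.node (.leaf 0) (.leaf 185)) (.leaf 178)) (.node (.leaf 128) (.leaf 96))) (.node (.node (.leaf 10) (.leaf 0)) (.node (.leaf 83) (.leaf 167)))) (.node (.node (.node (.node (.leaf 0) (.leaf 64)) (.leaf 0)) (.node (.leaf 15) (.leaf 104))) (.node (.node (.leaf 0) (.leaf 188)) (.node (.leaf 45) (.leaf 192))))) (.node (.node (.node (.node (.node (.leaf 0) (.leaf 193)) (.leaf 0)) (.node (.leaf 0) (.leaf 35))) (.node (.node (.leaf 0) (.leaf 108)) (.node (.leaf 160) (.leaf 120)))) (.node (.node (.node (.node (.leaf 0) (.leaf 143)) (.leaf 14)) (.node (.leaf 23) (.leaf 105))) (.node (.node (.leaf 13) (.leaf 52)) (.node (.leaf 0) (.leaf 19))))))) (.node (.node (.node (.node (.node (.node (.node (.leaf 0) (.leaf 66)) (.leaf 0)) (.node (.leaf 155) (.leaf 55))) (.node (.node (.leaf 0) (.leaf 79)) (.node (.leaf 65) (.leaf 146)))) (.node (.node (.node (.node (.leaf 0) (.leaf 152)) (.leaf 5)) (.node (.leaf 0)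 (.leaf 84))) (.node (.node (.leaf 0) (.leaf 0)) (.node (.leaf 0) (.leaf 7))))) (.node (.node (.node (.node (.node (.leaf 0) (.leaf 173)) (.leaf 0)) (.node (.leaf 110) (.leaf 0))) (.node (.node (.leaf 0) (.leaf 187)) (.node (.leaf 94) (.leaf 31)))) (.node (.node (.node (.node (.leaf 0) (.leaf 59)) (.leaf 127)) (.node (.leaf 68) (.leaf 115))) (.node (.node (.leaf 47) (.leaf 69)) (.node (.leaf 44) (.leaf 86)))))) (.node (.node (.node (.node (.node (.node (.leaf 0) (.leaf 61)) (.leaf 112)) (.node (.leaf 0) (.leaf 40))) (.node (.node (.leaf 0) (.leaf 151)) (.node (.leaf 0) (.leaf 43)))) (.node (.node (.node (.node (.leaf 0) (.leaf 122)) (.leaf 67)) (.node (.leaf 3) (.leaf 100))) (.node (.node (.leaf 0) (.leaf 26)) (.node (.leaf 22) (.leaf 176))))) (.node (.node (.node (.node (.node (.leaf 0) (.leaf 70)) (.leaf 97)) (.node (.leaf 0) (.leaf 134))) (.node (.node (.leaf 0) (.leaf 99)) (.node (.leaf 41) (.leaf 39)))) (.node (.node (.node (.node (.leaf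 0) (.leaf 103)) (.leaf 27)) (.node (.leaf 0) (.leaf 166))) (.node (.node (.leaf 2) (.leaf 87)) (.node (.leaf 50) (.leaf 157))))))))

/-- data -/
def tree4 : Trie (ℕ × ℕ) := .node (.node (.node (.node (.node (.node (.node (.leaf (0, 0)) (.leaf (27, 2))) (.leaf (11, 0))) (.node (.node (.leaf (5, 1)) (.leaf (43, 2))) (.leaf (17, 2)))) (.node (.node (.node (.leaf (2, 1)) (.leaf (36, 2))) (.leaf (14, 1))) (.node (.node (.leaf (8, 0)) (.leaf (55, 0))) (.leaf (23, 2))))) (.node (.node (.node (.node (.leaf (1, 0)) (.leaf (31, 2))) (.leaf (13, 0))) (.node (.node (.leaf (6, 2)) (.leaf (47, 1))) (.leaf (19, 1)))) (.node (.node (.node (.leaf (3, 2)) (.leaf (40, 0))) (.leaf (15, 2))) (.node (.node (.leaf (9, 2)) (.leaf (61, 2))) (.leaf (26, 1)))))) (.node (.node (.node (.node (.node (.leaf (0, 1)) (.leaf (29, 2))) (.leaf (11, 2))) (.node (.node (.leaf (6, 0)) (.leaf (46, 1))) (.leaf (18, 1)))) (.node (.node (.node (.leaf (3, 0)) (.leaf (38, 0))) (.leaf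 (15, 0))) (.node (.node (.leaf (9, 0)) (.leaf (59, 2))) (.leaf (25, 2))))) (.node (.node (.node (.node (.leaf (1, 2)) (.leaf (34, 1))) (.leaf (13, 2))) (.node (.node (.leaf (7, 1)) (.leaf (49, 2))) (.leaf (21, 2)))) (.node (.node (.node (.leaf (4, 2)) (.leaf (41, 2))) (.leaf (17, 0))) (.node (.node (.leaf (10, 1)) (.leaf (66, 2))) (.leaf (27, 0))))))) (.node (.node (.node (.node (.node (.node (.leaf (0, 0)) (.leaf (28, 2))) (.leaf (11, 1))) (.node (.node (.leaf (5, 2)) (.leaf (46, 0))) (.leaf (18, 0)))) (.node (.node (.node (.leaf (2, 2)) (.leaf (37, 2))) (.leaf (14, 2))) (.node (.node (.leaf (8, 2)) (.leaf (55, 1))) (.leaf (24, 2))))) (.node (.node (.node (.node (.leaf (1, 1)) (.leaf (34, 0))) (.leaf (13, 1))) (.node (.node (.leaf (7, 0)) (.leaf (48, 2))) (.leaf (20, 2)))) (.node (.node (.node (.leaf (4, 1)) (.leaf (40, 1))) (.leaf (16, 2))) (.node (.node (.leaf (10, 0)) (.leaf (64, 2))) (.leaf (26, 2)))))) (.node (.node (.node (.node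 (.node (.leaf (0, 2)) (.leaf (30, 2))) (.leaf (12, 2))) (.node (.node (.leaf (6, 1)) (.leaf (47, 0))) (.leaf (19, 0)))) (.node (.node (.node (.leaf (3, 1)) (.leaf (38, 1))) (.leaf (15, 1))) (.node (.node (.leaf (9, 1)) (.leaf (60, 2))) (.leaf (26, 0))))) (.node (.node (.node (.node (.leaf (2, 0)) (.leaf (34, 2))) (.leaf (14, 0))) (.node (.node (.leaf (7, 2)) (.leaf (50, 2))) (.leaf (22, 2)))) (.node (.node (.node (.leaf (5, 0)) (.leaf (42, 2))) (.leaf (17, 1))) (.node (.node (.leaf (10, 2)) (.leaf (67, 2))) (.leaf (27, 1)))))))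

/-- data -/
def cert4 : Trie (ℕ × ℕ × ℕ) := .node (.node (.node (.node (.node (.node (.node (.node (.leaf (0, 0, 2)) (.leaf (5, 29, 3))) (.node (.leaf (4, 33, 7)) (.leaf (1, 82, 3)))) (.node (.node (.leaf (3, 31, 0)) (.leaf (4, 46, 1))) (.leaf (3, 21, 3)))) (.node (.node (.node (.leaf (1, 11, 2)) (.leaf (2, 28, 1))) (.leaf (1, 25, 3))) (.node (.node (.leaf (1, 40, 4)) (.leaf (5, 43, 7))) (.leaf (4, 41, 3))))) (.node (.node (.node (.node (.leaf (1, 1, 2)) (.leaf (5, 76, 7))) (.leaf (5, 41, 3))) (.node (.node (.leaf (4, 37, 7)) (.leaf (5, 16, 3))) (.leaf (3, 77, 3)))) (.node (.node (.node (.leaf (2, 14, 4)) (.leaf (3, 92, 2))) (.leaf (2, 18, 3))) (.node (.node (.leaf (3, 29, 0)) (.leaf (5, 82, 0))) (.leaf (4, 86, 3)))))) (.node (.node (.node (.node (.node (.leaf (0, 6, 2)) (.leaf (5, 51, 7))) (.leaf (5, 12, 3))) (.node (.node (.leaf (4, 12, 5)) (.leaf (4, 72, 0))) (.leaf (3, 52, 3)))) (.node (.node (.node (.leaf (2, 0, 3)) (.leaf (3, 26,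 2))) (.leaf (1, 70, 4))) (.node (.node (.leaf (2, 31, 4)) (.leaf (5, 55, 6))) (.leaf (4, 64, 7))))) (.node (.node (.node (.node (.leaf (1, 5, 2)) (.leaf (0, 16, 1))) (.leaf (0, 53, 1))) (.node (.node (.leaf (0, 14, 1)) (.leaf (5, 33, 0))) (.leaf (4, 18, 6)))) (.node (.node (.node (.leaf (3, 10, 2)) (.leaf (4, 23, 3))) (.leaf (2, 92, 5))) (.node (.node (.leaf (3, 78, 1)) (.leaf (0, 30, 2))) (.leaf (5, 13, 5))))))) (.node (.node (.node (.node (.node (.node (.leaf (0, 3, 2)) (.leaf (5, 34, 6))) (.leaf (5, 0, 3))) (.node (.node (.leaf (3, 53, 2)) (.leaf (4, 65, 6))) (.leaf (3, 33, 2)))) (.node (.node (.node (.leaf (1, 17, 2)) (.leaf (2, 77, 4))) (.leaf (1, 33, 4))) (.node (.node (.leaf (2, 12, 4)) (.leaf (5, 48, 4))) (.leaf (4, 53, 3))))) (.node (.node (.node (.node (.leaf (1, 3, 2)) (.leaf (5, 86, 2))) (.leaf (0, 35, 1))) (.node (.node (.leaf (4, 77, 7)) (.leaf (5, 22, 7))) (.leaf (3, 84, 1)))) (.node (.node (.node (.leaf (2, 29, 4)) (.leaf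 (4, 13, 6))) (.leaf (2, 63, 1))) (.node (.node (.leaf (3, 41, 2)) (.leaf (5, 89, 0))) (.leaf (4, 94, 5)))))) (.node (.node (.node (.node (.node (.leaf (0, 17, 2)) (.leaf (5, 72, 0))) (.leaf (5, 20, 3))) (.node (.node (.leaf (4, 20, 5)) (.leaf (4, 76, 0))) (.leaf (3, 68, 1)))) (.node (.node (.node (.leaf (2, 4, 4)) (.leaf (3, 61, 1))) (.leaf (1, 86, 3))) (.node (.node (.leaf (2, 61, 4)) (.leaf (5, 67, 5))) (.leaf (4, 75, 7))))) (.node (.node (.node (.node (.leaf (1, 8, 2)) (.leaf (2, 15, 4))) (.leaf (1, 10, 2))) (.node (.node (.leaf (1, 19, 4)) (.leaf (5, 38, 5))) (.leaf (4, 29, 6)))) (.node (.node (.node (.leaf (3, 18, 2)) (.leaf (4, 30, 7))) (.leaf (3, 9, 6))) (.node (.node (.leaf (4, 5, 6)) (.leaf (1, 57, 0))) (.leaf (5, 19, 6)))))))) (.node (.node (.node (.node (.node (.node (.node (.leaf (0, 2, 2)) (.leaf (5, 32, 7))) (.leaf (4, 47, 6))) (.node (.node (.leaf (3, 49, 0)) (.leaf (4, 48, 7))) (.leaf (3, 27, 5)))) (.node (.node (.node (.leaf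 (1, 14, 2)) (.leaf (2, 75, 5))) (.leaf (1, 29, 2))) (.node (.node (.leaf (1, 42, 0)) (.leaf (5, 47, 3))) (.leaf (4, 45, 0))))) (.node (.node (.node (.node (.leaf (1, 2, 2)) (.leaf (5, 83, 5))) (.leaf (5, 53, 3))) (.node (.node (.leaf (4, 52, 7)) (.leaf (5, 17, 5))) (.leaf (3, 83, 7)))) (.node (.node (.node (.leaf (2, 21, 4)) (.leaf (4, 7, 1))) (.leaf (2, 39, 3))) (.node (.node (.leaf (3, 39, 0)) (.leaf (5, 87, 6))) (.leaf (4, 93, 7)))))) (.node (.node (.node (.node (.node (.leaf (0, 9, 2)) (.leaf (5, 69, 7))) (.leaf (5, 14, 1))) (.node (.node (.leaf (4, 16, 7)) (.leaf (4, 74, 0))) (.leaf (3, 66, 1)))) (.node (.node (.node (.leaf (2, 1, 3)) (.leaf (3, 56, 2))) (.leaf (1, 83, 4))) (.node (.node (.leaf (2, 41, 4)) (.leaf (5, 64, 4))) (.leaf (4, 73, 0))))) (.node (.node (.node (.node (.leaf (1, 6, 2)) (.leaf (1, 78, 1))) (.leaf (0, 78, 1))) (.node (.node (.leaf (1, 13, 3)) (.leaf (5, 37, 4))) (.leaf (4, 25, 7)))) (.node (.node (.node (.leaf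 (3, 12, 3)) (.leaf (4, 26, 1))) (.leaf (2, 94, 1))) (.node (.node (.leaf (3, 81, 0)) (.leaf (0, 50, 0))) (.leaf (5, 18, 3))))))) (.node (.node (.node (.node (.node (.node (.leaf (0, 5, 2)) (.leaf (5, 49, 3))) (.leaf (5, 4, 3))) (.node (.node (.leaf (4, 8, 6)) (.leaf (4, 67, 7))) (.leaf (3, 35, 1)))) (.node (.node (.node (.leaf (1, 27, 2)) (.leaf (3, 7, 2))) (.leaf (1, 39, 2))) (.node (.node (.leaf (2, 20, 4)) (.leaf (5, 52, 2))) (.leaf (4, 54, 7))))) (.node (.node (.node (.node (.leaf (1, 4, 2)) (.leaf (0, 13, 1))) (.leaf (0, 52, 2))) (.node (.node (.leaf (0, 12, 2)) (.leaf (5, 24, 7))) (.leaf (3, 94, 1)))) (.node (.node (.node (.leaf (2, 49, 4)) (.leaf (4, 15, 1))) (.leaf (2, 78, 5))) (.node (.node (.leaf (3, 59, 0)) (.leaf (5, 93, 1))) (.leaf (5, 9, 1)))))) (.node (.node (.node (.node (.node (.leaf (1, 0, 2)) (.leaf (5, 74, 7))) (.leaf (5, 31, 1))) (.node (.node (.leaf (4, 27, 6)) (.leaf (4, 80, 7))) (.leaf (3, 71, 7)))) (.node (.node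 (.node (.leaf (2, 6, 4)) (.leaf (3, 69, 1))) (.leaf (1, 90, 3))) (.node (.node (.leaf (3, 16, 3)) (.leaf (5, 73, 3))) (.leaf (4, 79, 7))))) (.node (.node (.node (.node (.leaf (1, 9, 2)) (.leaf (2, 27, 3))) (.leaf (1, 18, 2))) (.node (.node (.leaf (1, 21, 0)) (.leaf (5, 42, 3))) (.leaf (4, 35, 3)))) (.node (.node (.node (.leaf (3, 20, 3)) (.leaf (4, 36, 0))) (.leaf (3, 11, 4))) (.node (.node (.leaf (4, 19, 6)) (.leaf (1, 75, 3))) (.leaf (5, 23, 7))))))))

/-- data -/
def pot4 : Trie (Vec) := .node (.node (.node (.node (.node (.node (.node (.leaf ([])) (.leaf ([(-58), (-4)]))) (.leaf ([23, 14]))) (.node (.node (.leaf ([(-4), 8])) (.leaf ([47, 26]))) (.leaf ([22, 16])))) (.node (.node (.node (.leaf ([(-56), (-8)])) (.leaf ([127, 46]))) (.leaf ([75, 30]))) (.node (.node (.leaf ([(-4), 8])) (.leaf ([47, 26]))) (.leaf ([22, 16]))))) (.node (.node (.node (.node (.leaf ([104, 32])) (.leaf ([49, 22]))) (.leaf ([128, 44]))) (.node (.node (.leaf ([50,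 20])) (.leaf ([(-33), 6]))) (.leaf ([(-5), 10])))) (.node (.node (.node (.leaf ([(-2), 4])) (.leaf ([127, 46]))) (.leaf ([75, 30]))) (.node (.node (.leaf ([(-30)])) (.leaf ([21, 18]))) (.leaf ([(-5), 10])))))) (.node (.node (.node (.node (.node (.leaf ([(-28), (-4)])) (.leaf ([102, 36]))) (.leaf ([(-30)]))) (.node (.node (.leaf ([103, 34])) (.leaf ([47, 26]))) (.leaf ([75, 30])))) (.node (.node (.node (.leaf ([51, 18])) (.leaf ([127, 46]))) (.leaf ([128, 44]))) (.node (.node (.leaf ([23, 14])) (.leaf ([74, 32]))) (.leaf ([(-58), (-4)]))))) (.node (.node (.node (.node (.leaf ([51, 18])) (.leaf ([(-58), (-4)]))) (.leaf ([75, 30]))) (.node (.node (.leaf ([(-4), 8])) (.leaf ([154, 52]))) (.leaf ([75, 30])))) (.node (.node (.node (.leaf ([103, 34])) (.leaf ([101, 38]))) (.leaf ([75, 30]))) (.node (.node (.leaf ([23, 14])) (.leaf ([101, 38]))) (.leaf ([(-5), 10]))))))) (.node (.node (.node (.node (.node (.node (.leaf ([52, 16])) (.leaf ([(-31),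 2]))) (.leaf ([(-57), (-6)]))) (.node (.node (.leaf ([23, 14])) (.leaf ([127, 46]))) (.leaf ([155, 50])))) (.node (.node (.node (.leaf ([(-29), (-2)])) (.leaf ([47, 26]))) (.leaf ([102, 36]))) (.node (.node (.leaf ([(-57), (-6)])) (.leaf ([(-33), 6]))) (.leaf ([(-5), 10]))))) (.node (.node (.node (.node (.leaf ([24, 12])) (.leaf ([22, 16]))) (.leaf ([48, 24]))) (.node (.node (.leaf ([76, 28])) (.leaf ([21, 18]))) (.leaf ([49, 22])))) (.node (.node (.node (.leaf ([76, 28])) (.leaf ([47, 26]))) (.leaf ([(-5), 10]))) (.node (.node (.leaf ([103, 34])) (.leaf ([(-59), (-2)]))) (.leaf ([22, 16])))))) (.node (.node (.node (.node (.node (.leaf ([(-1), 2])) (.leaf ([22, 16]))) (.leaf ([(-3), 6]))) (.node (.node (.leaf ([23, 14])) (.leaf ([47, 26]))) (.leaf ([75, 30])))) (.node (.node (.node (.leaf ([(-29), (-2)])) (.leaf ([47, 26]))) (.leaf ([48, 24]))) (.node (.node (.leaf ([(-57), (-6)])) (.leaf ([(-6), 12]))) (.leaf ([75, 30]))))) (.node (.node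 (.node (.node (.leaf ([24, 12])) (.leaf ([(-31), 2]))) (.leaf ([155, 50]))) (.node (.node (.leaf ([23, 14])) (.leaf ([74, 32]))) (.leaf ([(-5), 10])))) (.node (.node (.node (.leaf ([76, 28])) (.leaf ([127, 46]))) (.leaf ([(-5), 10]))) (.node (.node (.leaf ([50, 20])) (.leaf ([21, 18]))) (.leaf ([(-85), (-10)])))))))

/-- the table -/
def table4 : Table where
  size := 96
  ngen := 3
  next g x := next4.getK (3 * g + x)
  prev g x := prev4.getK (3 * g + x)
  lab g x := lab4.getK (3 * g + x)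
  val g x := val4.getK (3 * g + x)
  rank g x := rank4.getK (3 * g + x)
  tree g := tree4.getK g
  cert j := cert4.getK j
  nded := 193
  rels := [⟨[(0, true), (0, true), (0, true)], [], [1]⟩,
    ⟨[(1, true), (1, true), (1, true), (2, false), (2, false)], [], [0, 1]⟩,
    ⟨[(0, true), (2, true), (0, true), (2, true), (0, true), (2, false)], [], [0, 0, 1]⟩,
    ⟨[(1, true), (2, true), (1, false), (2, false), (2, false), (0, true), (2, true), (0, false)], [], [0, 0, 0, 1]⟩,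
    ⟨[(1, true), (2, false), (2, false), (0, false), (2, true), (2, true), (1, true), (0, false)], [], [0, 0, 0, 0, 1]⟩,
    ⟨[(0, false), (1, false), (2, true), (1, false), (1, false), (0, false), (2, false), (0, false)], [], [0, 0, 0, 0, 0, 1]⟩]
  pot g := pot4.getK g
  innerSize := 1
  innerGen := 0

/-- the table with its checks -/
def level4 : CfsgLib.Sporadic.ChainLevel where
  table := table4
  gexp := [[52, 16], [(-28), (-4)], [(-1), 2]]
  perm := [0x8de368ca2e8ce2f8d2308d6318b62c8add973e1d7a613835e7841ea7920e76a28879cc3ed2950d114a8f8449406649b2619a255976509653d7539cbd5ed5130ce93f9044290041cfd40d094d92c4c9384bd354ed315d94c2f8e4549783a8c0285a3680a26749f2719e49cf543d3d3d9244f90c06c6917c0d1442b0944f0a052130261a8180385c715c672dc871dc4725ca6fdbc705c26f5be70dc07ddfd80df97fdf57ee017c9ec7bdf185216771de8621a781e27b9f07cded889d375a2774221891d574a23899d7881d17522581a0882e0585617775df8661b785e382a0481e097f9f47ea007d9fc809f8614a521da7215a56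1ca7598da5acd7588ce57cd33cd19468f052d214894845ced3b91447d455191c5a8d659cdb578d258ccf245b164cb3644b124db3564c8568cb550c555cc662c8f2adaf2258d6a4ad6d8b41f97c2ddb55fc7d2e9b8608806ecb920d812298e6a8ae6208c2a1ac5c0e15cce25b4dc5b8df560c956cca554c4558c722d8f6acaf6248d2a5ad2d9b45f87c6dcb51fd7d6e8b8209802edb960c816288e2a9ae2218c6a0ac5c4e05c8e35b0dd5bcde211a4618a6610a4219a65a0d4594d9570d0584cd46cf13c91848d49529203bd15458ec51d1d47944590d85a4d5580cc574d1640b0249b2241b0648b20fc350ec410dc3d10c390b8300cc2d150560701e1605a080220c82c0bc3104863198171801105065188130586704061190151284411c49154570741f1645b084231184812c450d83c108380f8340e8401dc741e47a1d4761ec781b46e1cc701bc6c1c47276e2987dcd845eb7960f7a212831e68a9d873a1c4acf944d413e928509102659b6609a65497251965dd4d2fce554d793acc1418fc409083fd0542d014b9344e9304dd2d4cd3953974398bc5e950308e8684a3281a22759f6709e3dd254fd0d498f44393c1ac1903c5d0a453134271402a0904e068681780c02c0a0180201c03020040240500400, 0x8de368ba328d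2308ce2f8c6358b62c8addb73e1f51519484ed52d1747cf306c6b17c0f7be067ba077ca0b7ce0a6acaf2adaf22d8f62c8f55559324c556d5731ccb4bd374ed3341cff40d0b4d92e4c93a3f906429025c56d374e15bd7338cdf2a9ae6a8ae6288e2298e0b8470bc460cc4a0c84b76a2a879ce52515474f151d1b48cef1a81a0385e719c571dc472dc8729c96fdbc6f9bd709c170dc07d5fd805f97fdf77ee034a92b3ecfa57d6b34cd758966338da50d4244913694a7295a721587614872c5b36c4b364493245934a5283e0f958d6733cdb5796a348d650141445100f4350e4410dc3f10c3b891d67562774222885d3869e2859de861e0851dc83a1384a0f8420d832117a9e7799eb791e97a1e586de385ddf865e1855dd75226895d7881d2746235d4e55e4e9534bd544c1650962619a251966609a6e4b9205812d5b55f47d2e1b8600806d0b41f17c2719e680a26709e281a25d0e45e0e8530bc540c05dce75eceb53cbf54cc3255976649b654972659b2edbb60c836dcb71fd7f6e8ba209822d9b65f87e6749f285a32759f684a35d8e65e8ea538be548c205066194171801204463168221581e160201501c1484f13853130511404d0982b0a8270a0250902916c2315c1f164211541d190160546704062184137f1f47e2007d9fe809fa49d263d8f758565334d957168340d44f93f43d0e291a6690a661086211866c0b22c1b22419264092491253d4f457569344d558164330d84f53c4310d0d03c100380f8360e8421dc741d8751e8791ec781b86d1bc6c1cc701c87176629875cd52114470f05191a488ee1a4190345d7b2057b6047c6087c2092a5ad6a4ad6248d2258d56154310c85595a328c64d52d4c5393f505425014b1344e130410fc401085b170380dc5c96e378e26a0ac2a1ac2218c6208c0b4440b0450c0490c4488a1d87321c51118480ec52916478f2060681700c02c0a008060200401c030140900400,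 0x8de368c2328d62f8d22e8c6338b62c8ae288a62a8561785a1486e198621a765da76dd88862288223892278962681a088160b7b1f27bdf17920e831e6835e77960f8060280e007edf87e5fa7fdfc7f5fe7d5f67ddf4841ea7a2127a613845eb8120a81e097b9f07b5f3741d3745d2755d6751d78761e87e1c77ddd771de785e3789e073dcc735ce721c6729c472dc5725c7709bc701be705bf70dbd6d1b76d9b56e9b96e1bb5896157d5c5457b54d7953d75535775ad68599655bd6e5b16d55957555545c9735c57056d5a5615958d605795d549785417a53176539745a96959d642d8b52d0b72e0bb2e8b963dad635af625ab62da96799f6759c65d966519564db36c9926c591641b069d87619a6615a56918468da2681a16699b66598631ae639ac629a8621aa4490e43d133d8fa3ecf73b4ee451173b0ef45516429094210b401034090141107419053f8fd3f0ff3c0f34651a3c4f24611b431104450d3e0f43d4f94f94250d3f4a92649d2b4711f515464751e511474e13b4e9394c9314c1334d9354d1374b12f4b92d485225214b481235254a5013c4f541491284a525234af23cad22ca9224ab27c9e2709d25897254942cc93248b2244b12c09021ca72988629485210a4288a3284a026c9a26099238ac230ae220aa228a85f97d5f17f601836098134cd0338cd30ce9304eb2f4e72fce5368d935cd4378df374dc31cc6310c538ce2380e1328cb324c8348d133ccc300ea308e82f8e42f0e636cd8358d51f07f1f87d20881200831e8741e0761e4771ec751c06e1c86c1cc6d1c46f1a46a1ac6815c55150561645b1685806c180641a180631846219466190671104a11c490b8300b433130260904e0944f1342710c40104420e43a0ec380f43e0fc3c0dc340d4360a0521402a1442b0a453118481144b0b0320bc310441204013050170541617c5c1745e0741f0781c08c21080220340e03c0c02c0a0100602403020020140700400]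
  pinv := [0x8de368be318ce358ba308ca348b62c8ac5f1aa1e681996519d669a3679971a61d8a05c629aa62dab639ae63daf8986219e231922089461645876119261593641866e57d6d1806dd836e97e6d5816e17c6ed7f6d982695b36c1a66c5a7691b219a2289c638906019621621a8625a9631ac635ad1ae1f8a85e661a1671956899b6599f8a45d1a21c725c4715c871dca72dc66f5c0705bc70dbe6fdc24bd033f93241d3b4d90a530c0548be500f843124445294f4f55e0e45d8ea7a8280ade9099e479c2514a1084c518384c13e0d544bd53cc34492a4f8f650cfb43d275d4e95ece73f5314b1004d5094113881c2f119ee12df382832484f13cd233b51d47cef5c55b324e356573384cb5556f374c75b557314df4654952d1b5151545d4711def8182e82c33129f259cd53596433d5d578cc8645516214085dd7801c7d4390d1f80ddfb7d83a0d5f97d0387dc3b0d9fa16e178685678c1f089de35d65598d457ccd3395c36d695a8d858cd13496016615860547841d081dc0f6017f0407fc430fa027f4410f2000fe037f84286c5716a1608ddf7881e5acd93696834d61588d0115ed8102c82431121f03c120488f2470ec3b91e56172380ca5c15a320e25b156310de5516e370c6521184694a45144519168142d1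11ec125f1820303fd334b9024dd0b4193a540bc538c2441284f0f4504f9435255d0e85e8e60a9e87ac297982409de58485014e1113a0c83c4d534c154cbf508fa4392644d2b4fcf75e4e55dceb4b5013f130415394d1081d4781e4741ec761dc7a1c46c1b4701bc721cc6e06dcf7680e260a1270952889b2589f7640d061cc228aa22cab238ae23caf059d275c1375010055d1214932408624487210922d4812e07c2ec7f2d8822e47d2d0802dc832e87e2c4a7290b2294b32c0a67581205dd3051d075411220a8224a9230ac234ad76c0f069ce280992509d268a327897065cd7600c02c0a00c0501c09008040180800400, 0x8de368ba338c6348be328c2358b62c8adda1a81b5e1525457b531765d54f8a1d91a41856d7355d6f565715556d5a969591675a16b5996585a14150568621a168586d0b56e4b86dcb66e8bb6d4b46e0b96d8b76ecba8561715c5586e191645b581635795d589615715f569725596e561705516c8a9db1ac1a5417a5e5535d14e535778a5d81a01971dc5711c6725cb729c86f5bf6f9bc70dc1701c2429034ed3241cfe4d92f668986649b841ea1482884de91442b680a268ca13e1243d5293d92a3ed27431404453d4493e43d436509665c95839e413026835e713c256789c6749f425004e13141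0fd4d52c464f15252146cf352d237b82f7cc327bc2e7c8336b98a238aa639aa2b88a63dab2bc8b6bd8b23cab81c468284b8184782c4a454ed5151d45cef51d1f88c1375c6774c6389c1769da661987298a721c86805f810039809fb10c3a801f91043880dfa1083b6c9b364d922ccb2248937446189415884117546574862898168881275866691a561584294a4210857f1f50f4347fdf60f8377f5f40f0357f9f70fc366c5b0641912c0b12449088010750647406089014460f052120468f2529227b42c7c0317b02d7c430631a82b0886b188230a86b589234a9635a92b48981045824488144482049450ec5111c458ee5191e42d024e933418ff4dd2e6609a66c99849e81402a845eb14c29688a0684a33d1283e5253e9263dd2b4413c435414394244d3f6589465497831e61382483de5134276709e67c9d421014e530414fc4d12d1d4771d8741ec791e07a1bc6d1b06e1c4731c870879cf17c0e300ea3a4c3390be2f4e7875cc1700d32ce331cdf324e1314dd360db358d5368d9350d7771de0781c789e0080225f47c600815f87f60c825f07d604805fc7e6088377ddd0741f785e308c21348d1330cf340d3338cd328e2318de320e0310dc87dce1780f3a0c2304eb2f0e6394bf871cd1740c02c0a008070140800c060100900400,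 0x8de368ce318ba348be358ca308b62c8ae288a62a85a14856178621a86e19765da76dd888e2088a2189a2589e247b9f07b5f38120a81e09841ea7a2127a613845eb8060280e007edf87e5fa7fdfc7f5fe7d5f67ddf47920e831e6835e77960f7b1f27bdf181a088160b749d174dd075dd4759d58761e87e1c771de77ddd789e0785e373dcc735ce71dc9715cb711ca719c86f5c36fdc16f9c06f1c26d1b76d9b56e9b96e1bb5a96959d645e1525e9505d94c5d14e58d605795d56d5a561595c9735c57055957555545bd6e5b16d5ad68599655ed515e5535d54f5dd4d5896157d5c2d8b52d0b72e0bb2e8b96b98c6b18e6a18a6a9886699b6659868da2681a169d87619a6615a56918464db36c9926c591641b065d96651956799f6759c6b58f6bd8d6ad896a58b3e0f43d4f9431104450d4651a3c0f34611b3c4f2429094210b401034090141107419053f8fd3f0ff451173b4ee455163b0ef3d8fa3ecf74490e43d13491284a5255013c4f5415214b485225254a481234e13b4e9394c9314c1334d9354d1374b12f4b92d515464711f511474751e4a92649d2b4f94250d3f2b08e2b88c2a8882a08a26c9a26099288a3284a021ca72988629485210a42cc93248b2244b12c090258972549427c9e2709d2bc8d2b48f2a48b2ac895f97d5f17f601836098136cd8358d53a8c03a0c2390be398bc348d133ccc328cb324c838ce2380e131cc6310c5378df374dc368d935cd43a4c33acc139cbd394bf34cd0338cd1f07f1f87d20881200831d47b1dc791d8781d07a1bc711b4731b0721b8701a46a1ac681505615c55168581645b06c180641a1886118c6019c64198650b0320bc31118481144b0a0521402a1442b0a45310c40104420e43a0ec380f43e0fc3c0dc340d436130260904e0944f134270b8300b4331104a11c4904c10048110581505c1417c5c1745e0781c0741f0802208c210340e03c0c02c0a01c050080800c090180400400]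
  defs := []
  eqs := [(0, 54, [0, 0, 0, (-2)]), (1, 7, [8, 0, 0, 0, 6, 4]), (3, 55, [(-8), 0, 0, 0, (-6), (-4)]), (3, 51, [(-6), (-2), (-4), (-6), (-6), (-6)])]
  pts := [2, 3, 4]

end CfsgLib.Sporadic.MultTwoCent
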